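import Cfsg.Agent.Lib.Helper83.Central

set_option autoImplicit false

namespace Cfsg.Agent.Lib.Helper83

open Cfsg Module
open scoped ComplexConjugate

section induce

variable {G : Type*} [Group G] [Fintype G]

/-- The value of an induced function at the identity. -/
theorem indFun_one (H : Subgroup G) (θ : H → ℂ) :
    indFun H θ 1 = (H.index : ℂ) * θ 1 := by
  rw [Helper4.indFun_apply]
  have h1 : ∀ x : G, extendByZero H θ (x⁻¹ * 1 * x) = θ 1 := by
    intro x
    have h2 : x⁻¹ * 1 * x = ((1 : H) : G) := by simp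
    rw [h2, Helper4.extendByZero_apply_mem]
  simp only [h1]
  rw [Finset.sum_const, Finset.card_univ, nsmul_eq_mul, ← Nat.card_eq_fintype_card,
    ← Subgroup.card_mul_index H]
  have hH : (Nat.card H : ℂ) ≠ 0 := by exact_mod_cast Nat.card_pos.ne'
  push_cast
  field_simp

/-- The degree of an irreducible constituent of a character is at most the degree of the
character. -/
theorem constituent_degree_le (Φ : G → ℂ) (hΦ : IsCharacter G Φ) (χ : IrrCharacter G)
    (h : classInner Φ (χ : G → ℂ) ≠ 0) (D : ℕ) (hD : Φ 1 = D) :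
    charDegree (χ : G → ℂ) ≤ D := by
  classical
  have := Fintype.ofFinite (IrrCharacter G)
  obtain ⟨n, hn⟩ := Helper4.exists_decomp_of_isCharacter Φ hΦ
  have hin : classInner Φ (χ : G → ℂ) = (n χ : ℂ) := by
    rw [hn]; exact Helper4.classInner_sum_irr _ χ
  have hnχ : n χ ≠ 0 := by
    intro h0; apply h; rw [hin, h0]; simp
  have h1 : D = ∑ ψ : IrrCharacter G, n ψ * charDegree (ψ : G → ℂ) := by
    have h2 := congrFun hn 1
    rw [hD] at h2
    simp only [Finset.sum_apply, Pi.smul_apply, smul_eq_mul] at h2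
    have h3 : ∀ ψ : IrrCharacter G, (ψ : G → ℂ) 1 = (charDegree (ψ : G → ℂ) : ℂ) :=
      fun ψ => (irr_degree ψ.2).2
    simp only [h3] at h2
    exact_mod_cast h2
  rw [h1]
  calc charDegree (χ : G → ℂ) ≤ n χ * charDegree (χ : G → ℂ) :=
        Nat.le_mul_of_pos_left _ (Nat.pos_of_ne_zero hnχ)
    _ ≤ ∑ ψ : IrrCharacter G, n ψ * charDegree (ψ : G → ℂ) :=
        Finset.single_le_sum (f := fun ψ : IrrCharacter G => n ψ * charDegree (ψ : G → ℂ))
          (fun _ _ => Nat.zero_le _) (Finset.mem_univ χ)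

/-- A character having the irreducible character `χ` as a constituent and the same degree
equals `χ`. -/
theorem char_eq_irr_of_degree (Φ : G → ℂ) (hΦ : IsCharacter G Φ) (χ : IrrCharacter G)
    (h : classInner Φ (χ : G → ℂ) ≠ 0) (hdeg : Φ 1 = (χ : G → ℂ) 1) : Φ = (χ : G → ℂ) := by
  classical
  have := Fintype.ofFinite (IrrCharacter G)
  obtain ⟨n, hn⟩ := Helper4.exists_decomp_of_isCharacter Φ hΦ
  have hin : classInner Φ (χ : G → ℂ) = (n χ : ℂ) := by
    rw [hn]; exact Helper4.classInner_sum_irr _ χ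
  have hnχ : n χ ≠ 0 := by
    intro h0; apply h; rw [hin, h0]; simp
  have h1 : charDegree (χ : G → ℂ) = ∑ ψ : IrrCharacter G, n ψ * charDegree (ψ : G → ℂ) := by
    have h2 := congrFun hn 1
    rw [hdeg] at h2
    simp only [Finset.sum_apply, Pi.smul_apply, smul_eq_mul] at h2
    have h3 : ∀ ψ : IrrCharacter G, (ψ : G → ℂ) 1 = (charDegree (ψ : G → ℂ) : ℂ) :=
      fun ψ => (irr_degree ψ.2).2
    simp only [h3] at h2
    exact_mod_cast h2
  rw [← Finset.add_sum_erase Finset.univ _ (Finset.mem_univ χ)] at h1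
  have hdpos := (irr_degree χ.2).1
  have hle : charDegree (χ : G → ℂ) ≤ n χ * charDegree (χ : G → ℂ) :=
    Nat.le_mul_of_pos_left _ (Nat.pos_of_ne_zero hnχ)
  have hrest : ∑ ψ ∈ Finset.univ.erase χ, n ψ * charDegree (ψ : G → ℂ) = 0 := by omega
  have hnχ1 : n χ = 1 := by
    rw [hrest, add_zero] at h1
    have h2 : n χ * charDegree (χ : G → ℂ) = 1 * charDegree (χ : G → ℂ) := by omega
    exact Nat.eq_of_mul_eq_mul_right hdpos h2
  have hzero : ∀ ψ ∈ Finset.univ.erase χ, n ψ = 0 := by
    intro ψ hψ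
    have h2 := (Finset.sum_eq_zero_iff.mp hrest) ψ hψ
    rcases Nat.mul_eq_zero.mp h2 with h0 | h0
    · exact h0
    · exact absurd h0 (irr_degree ψ.2).1.ne'
  rw [hn, ← Finset.add_sum_erase Finset.univ _ (Finset.mem_univ χ), hnχ1]
  rw [Finset.sum_eq_zero (fun ψ hψ => by rw [hzero ψ hψ]; simp)]
  simp

/-- Frobenius reciprocity for an irreducible character of a subgroup against the restriction of
an irreducible character of the group. -/
theorem inner_ind_irr (K : Subgroup G) [Fintype K] (θ : IrrCharacter K) (χ : IrrCharacter G) :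
    classInner (indFun K (θ : K → ℂ)) (χ : G → ℂ) =
      conj (classInner (fun k : K => (χ : G → ℂ) k) (θ : K → ℂ)) := by
  rw [Helper4.frobenius_reciprocity K _ _ (fun g h => irr_classFunction χ.2 g h),
    Helper4.classInner_conj_symm]

end induce

end Cfsg.Agent.Lib.Helper83
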