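import Cfsg.Agent.Lib.Helper83.Induce

set_option autoImplicit false

namespace Cfsg.Agent.Lib.Helper83

open Cfsg Module
open scoped ComplexConjugate

section twist

variable {G : Type*} [Group G]

/-- The product of a linear character and an irreducible character is irreducible. -/
theorem irr_twist [Finite G] (l χ : IrrCharacter G) (hl : (l : G → ℂ) 1 = 1) :
    IsIrrCharacter G (fun g => (l : G → ℂ) g * (χ : G → ℂ) g) := by
  classical
  have := Fintype.ofFinite G
  have := Fintype.ofFinite (IrrCharacter G)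
  obtain ⟨n, ρ, hρ, hχ⟩ := χ.2
  apply Helper4.isIrrCharacter_of_norm_one
  · let σ : Representation ℂ G (Fin n → ℂ) :=
      { toFun := fun g => (l : G → ℂ) g • ρ g
        map_one' := by rw [hl, map_one, one_smul]
        map_mul' := by
          intro g h
          rw [irr_linear_mul l.2 hl, map_mul, smul_mul_smul_comm] }
    refine ⟨n, σ, ?_⟩
    funext g
    simp only [Representation.character]
    have h1 : σ g = (l : G → ℂ) g • ρ g := rfl
    rw [h1, map_smul, smul_eq_mul, ← hχ]
    rfl
  · have h1 := irr_orthonormal χ χ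
    rw [if_pos rfl] at h1
    rw [← h1]
    unfold classInner
    congr 1
    apply Finset.sum_congr rfl
    intro g _
    have h2 : (l : G → ℂ) g * conj ((l : G → ℂ) g) = 1 := by
      rw [Complex.mul_conj, Complex.normSq_eq_norm_sq, irr_linear_norm l.2 hl g]
      simp
    rw [map_mul]
    calc (l : G → ℂ) g * (χ : G → ℂ) g * (conj ((l : G → ℂ) g) * conj ((χ : G → ℂ) g))
        = ((l : G → ℂ) g * conj ((l : G → ℂ) g)) * ((χ : G → ℂ) g * conj ((χ : G → ℂ) g)) := by
          ring
      _ = (χ : G → ℂ) g * conj ((χ : G → ℂ) g) := by rw [h2, one_mul]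

/-- The twist of an irreducible character by a linear character, as an element of
`IrrCharacter G`. -/
noncomputable def twist [Finite G] (l χ : IrrCharacter G) (hl : (l : G → ℂ) 1 = 1) :
    IrrCharacter G := ⟨_, irr_twist l χ hl⟩

theorem twist_apply [Finite G] (l χ : IrrCharacter G) (hl : (l : G → ℂ) 1 = 1) (g : G) :
    (twist l χ hl : G → ℂ) g = (l : G → ℂ) g * (χ : G → ℂ) g := rfl

theorem charDegree_twist [Finite G] (l χ : IrrCharacter G) (hl : (l : G → ℂ) 1 = 1) :
    charDegree (twist l χ hl : G → ℂ) = charDegree (χ : G → ℂ) := by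
  unfold charDegree
  rw [twist_apply, hl, one_mul]

/-- A central element acts as a scalar: `χ (z * g) * χ 1 = χ z * χ g`. -/
theorem irr_central_mul (χ : IrrCharacter G) (z : G) (hz : z ∈ Subgroup.center G) (g : G) :
    (χ : G → ℂ) (z * g) * (χ : G → ℂ) 1 = (χ : G → ℂ) z * (χ : G → ℂ) g := by
  obtain ⟨n, ρ, hρ, hχ⟩ := χ.2
  have hcomm : ∀ g, ρ z ∘ₗ ρ g = ρ g ∘ₗ ρ z := by
    intro g
    have h1 : ρ z * ρ g = ρ g * ρ z := by
      rw [← map_mul, ← map_mul, Subgroup.mem_center_iff.mp hz g]
    exact h1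
  obtain ⟨c, hc⟩ := schur_scalar ρ hρ (ρ z) hcomm
  rw [← hχ]
  simp only [Representation.character]
  rw [map_mul, hc, map_one, smul_mul_assoc, map_smul, map_smul, smul_eq_mul, smul_eq_mul]
  have h1 : (LinearMap.id : (Fin n → ℂ) →ₗ[ℂ] (Fin n → ℂ)) * ρ g = ρ g := one_mul _
  rw [h1]
  have h2 : (LinearMap.id : (Fin n → ℂ) →ₗ[ℂ] (Fin n → ℂ)) = 1 := rfl
  rw [h2]
  ring

/-- An irreducible character trivial on the commutator subgroup is linear. -/
theorem irr_linear_of_commutator_le_ker [Finite G] (χ : IrrCharacter G)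
    (h : ∀ x ∈ commutator G, (χ : G → ℂ) x = (χ : G → ℂ) 1) : (χ : G → ℂ) 1 = 1 := by
  obtain ⟨ψ, hψ⟩ := exists_inflate_eq (commutator G) χ h
  rw [← hψ, inflate_one]
  exact irr_comm_degree ψ.2

/-- If the commutator subgroup is proper there is a non-principal linear character. -/
theorem exists_nontriv_linear [Finite G] (h : commutator G ≠ ⊤) :
    ∃ χ : IrrCharacter G, (χ : G → ℂ) 1 = 1 ∧ χ ≠ trivIrr G := by
  by_contra hcon
  push Not at hcon
  have h1 : Nat.card {χ : IrrCharacter G // (χ : G → ℂ) 1 = 1} = 1 := by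
    rw [Nat.card_eq_one_iff_unique]
    refine ⟨⟨fun a b => ?_⟩, ⟨⟨trivIrr G, rfl⟩⟩⟩
    exact Subtype.ext ((hcon a.1 a.2).trans (hcon b.1 b.2).symm)
  rw [card_linear, Subgroup.index_eq_one] at h1
  exact h h1

/-- A non-commutative finite group has an irreducible character of degree greater than one. -/
theorem exists_nonlinear [Finite G] (h : commutator G ≠ ⊥) :
    ∃ χ : IrrCharacter G, charDegree (χ : G → ℂ) ≠ 1 := by
  classical
  have := Fintype.ofFinite (IrrCharacter G)
  by_contra hcon
  push Not at hcon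
  have h1 := sum_charDegree_sq (G := G)
  have h2 : ∑ χ : IrrCharacter G, charDegree (χ : G → ℂ) ^ 2 = Nat.card (IrrCharacter G) := by
    rw [Finset.sum_congr rfl (fun χ _ => by rw [hcon χ, one_pow])]
    simp [Nat.card_eq_fintype_card]
  have h3 : Nat.card {χ : IrrCharacter G // charDegree (χ : G → ℂ) = 1} =
      Nat.card (IrrCharacter G) :=
    Nat.card_congr (Equiv.subtypeUnivEquiv hcon)
  rw [card_linear'] at h3
  rw [h1] at h2
  rw [← h3] at h2
  have h4 := Subgroup.card_mul_index (commutator G)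
  rw [h2] at h4
  have hpos : 0 < (commutator G).index := Nat.pos_of_ne_zero Subgroup.FiniteIndex.index_ne_zero
  have h5 : Nat.card (commutator G) = 1 := by
    have h6 : Nat.card (commutator G) * (commutator G).index = 1 * (commutator G).index := by
      rw [h4, one_mul]
    exact Nat.eq_of_mul_eq_mul_right hpos h6
  exact h (Subgroup.card_eq_one.mp h5)

/-- If `χ` vanishes off the centre then `χ(1)² · |Z(G)| = |G|`. -/
theorem degree_sq_mul_card_center [Finite G] (χ : IrrCharacter G)
    (h : ∀ g : G, g ∉ Subgroup.center G → (χ : G → ℂ) g = 0) :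
    charDegree (χ : G → ℂ) ^ 2 * Nat.card (Subgroup.center G) = Nat.card G := by
  classical
  have := Fintype.ofFinite G
  have h1 := sum_normsq_eq χ
  have h2 : ∀ g : G, ‖(χ : G → ℂ) g‖ ^ 2 =
      if g ∈ Subgroup.center G then (charDegree (χ : G → ℂ) : ℝ) ^ 2 else 0 := by
    intro g
    split_ifs with hg
    · rw [irr_central_norm χ g hg]
    · rw [h g hg]; simp
  simp only [h2] at h1
  rw [← Finset.sum_filter, Finset.sum_const, nsmul_eq_mul] at h1
  have h3 : (Finset.univ.filter (fun g : G => g ∈ Subgroup.center G)).card =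
      Nat.card (Subgroup.center G) := by
    rw [Nat.card_eq_fintype_card, Fintype.card_subtype]
  rw [h3] at h1
  have h4 : ((charDegree (χ : G → ℂ) ^ 2 * Nat.card (Subgroup.center G) : ℕ) : ℝ) =
      (Nat.card G : ℝ) := by
    push_cast
    rw [← h1]; ring
  exact_mod_cast h4

end twist

end Cfsg.Agent.Lib.Helper83
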