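import Mathlib
import Cfsg.Agent.Lib.Helper10.BR0
import Cfsg.Agent.Lib.Helper83.Quot
import Cfsg.Agent.Lib.Helper35.Ind
import Cfsg.Agent.Lib.Helper4.CharDecomp

/-!
# S0999 (Brauer–Reynolds), piece BR-L2 (helper83)

`psum_bound`: for a character `ψ` of `G`, a subgroup `P` and `y` normalizing `P`,
`‖Σ_{u ∈ P} ψ(y u)‖ ≤ Σ_{u ∈ P} ψ(u)`.

Method: restrict `ψ` to `N = N_G(P)` and decompose it into irreducible characters `η` of `N`;
the sum `Σ_{u ∈ P} η(y u)` is `|P| η(y)` if `P ≤ ker η` and `0` otherwise.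
-/

set_option autoImplicit false
set_option linter.unusedSectionVars false
set_option linter.style.haveILetI false
set_option linter.unusedVariables false

namespace Cfsg.Agent.Lib.Helper10.BR

open Cfsg Cfsg.Agent.Lib
open scoped ComplexConjugate

namespace BRL2aux

/-- an irreducible character is constant on the cosets of its kernel -/
theorem irr_mul_ker {Γ : Type*} [Group Γ] [Finite Γ] {χ : Γ → ℂ} (hχ : IsIrrCharacter Γ χ) (x : Γ)
    (hx : χ x = χ 1) (g : Γ) : χ (g * x) = χ g := by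
  obtain ⟨m, ρ, hρ, rfl⟩ := hχ
  have h1 : ρ x = 1 := (Helper83.char_eq_iff_rho_eq_one ρ x).mp hx
  show LinearMap.trace ℂ _ (ρ (g * x)) = LinearMap.trace ℂ _ (ρ g)
  rw [map_mul, h1, mul_one]

/-- the sums `psum P ψ y`, `y ∈ N_G(P)`, in terms of the irreducible constituents of `ψ` on
`N_G(P)` having `P` in their kernel -/
theorem psum_decomp {G : Type*} [Group G] [Fintype G] (P : Subgroup G) (ψ : G → ℂ)
    (hψ : IsCharacter G ψ) :
    ∃ (S : Finset (IrrCharacter (Subgroup.normalizer (P : Set G))))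
      (c : IrrCharacter (Subgroup.normalizer (P : Set G)) → ℕ),
      ∀ y : Subgroup.normalizer (P : Set G), psum P ψ (y : G) =
        (Nat.card P : ℂ) *
          ∑ η ∈ S, (c η : ℂ) * (η : Subgroup.normalizer (P : Set G) → ℂ) y := by
  classical
  set N := Subgroup.normalizer (P : Set G) with hN
  let _ : Fintype N := Fintype.ofFinite _
  let _ : Fintype P := Fintype.ofFinite _
  have hfin := Helper4.irr_finite (G := N)
  let _ : Fintype (IrrCharacter N) := Fintype.ofFinite _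
  obtain ⟨c, hc⟩ := Helper4.exists_decomp_of_isCharacter (Helper35.res N ψ)
    (Helper35.isCharacter_res N hψ)
  let P' : Subgroup N := P.subgroupOf N
  have hP'n : P'.Normal := Subgroup.normal_in_normalizer
  let _ : Fintype P' := Fintype.ofFinite _
  have hPN : P ≤ N := Subgroup.le_normalizer
  let e : P' ≃* P := Subgroup.subgroupOfEquivOfLe hPN
  let S : Finset (IrrCharacter N) :=
    Finset.univ.filter (fun η => ∀ u : P', (η : N → ℂ) u = (η : N → ℂ) 1)
  refine ⟨S, c, fun y => ?_⟩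
  rw [psum_eq_sum]
  have h1 : ∑ u : P, ψ ((y : G) * (u : G)) = ∑ u : P', Helper35.res N ψ (y * (u : N)) := by
    rw [← Equiv.sum_comp e.toEquiv]
    apply Finset.sum_congr rfl
    intro u _
    rfl
  rw [h1, hc]
  simp only [Finset.sum_apply, Pi.smul_apply, smul_eq_mul]
  rw [Finset.sum_comm]
  have h2 : ∀ η : IrrCharacter N, ∑ u : P', (c η : ℂ) * (η : N → ℂ) (y * (u : N)) =
      if η ∈ S then (Nat.card P : ℂ) * ((c η : ℂ) * (η : N → ℂ) y) else 0 := by
    intro η
    rw [← Finset.mul_sum]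
    by_cases hη : η ∈ S
    · rw [if_pos hη]
      have hS : ∀ u : P', (η : N → ℂ) u = (η : N → ℂ) 1 := (Finset.mem_filter.mp hη).2
      have h3 : ∀ u : P', (η : N → ℂ) (y * (u : N)) = (η : N → ℂ) y :=
        fun u => irr_mul_ker η.2 u (hS u) y
      simp only [h3, Finset.sum_const, Finset.card_univ, nsmul_eq_mul]
      rw [← Nat.card_eq_fintype_card, Nat.card_congr e.toEquiv]
      ring
    · rw [if_neg hη]
      have h3 : ∃ u : P', (η : N → ℂ) u ≠ (η : N → ℂ) 1 := by
        by_contra hcon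
        apply hη
        refine Finset.mem_filter.mpr ⟨Finset.mem_univ _, fun u => ?_⟩
        by_contra hu
        exact hcon ⟨u, hu⟩
      obtain ⟨u, hu⟩ := h3
      rw [Helper83.irr_sum_normal_eq_zero P' η.2 (u : N) u.2 hu y, mul_zero]
  rw [Finset.sum_congr rfl (fun η _ => h2 η), Finset.sum_ite_mem, Finset.univ_inter,
    Finset.mul_sum]

end BRL2aux

/-- BR-L2 -/
theorem psum_bound {G : Type*} [Group G] [Fintype G] (P : Subgroup G) (ψ : G → ℂ)
    (hψ : IsCharacter G ψ) (y : G) (hy : y ∈ Subgroup.normalizer (P : Set G)) :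
    ‖psum P ψ y‖ ≤ (psum P ψ 1).re := by
  classical
  obtain ⟨S, c, h⟩ := BRL2aux.psum_decomp P ψ hψ
  have hy' := h ⟨y, hy⟩
  have h1 := h 1
  rw [show (((1 : Subgroup.normalizer (P : Set G)) : G)) = 1 from rfl] at h1
  rw [show (((⟨y, hy⟩ : Subgroup.normalizer (P : Set G)) : G)) = y from rfl] at hy'
  rw [hy', h1]
  have hdeg : ∀ η : IrrCharacter (Subgroup.normalizer (P : Set G)),
      (η : Subgroup.normalizer (P : Set G) → ℂ) 1 =
        (charDegree (η : Subgroup.normalizer (P : Set G) → ℂ) : ℂ) :=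
    fun η => (Helper83.irr_degree η.2).2
  simp only [hdeg]
  have hre : ((Nat.card P : ℂ) * ∑ η ∈ S, (c η : ℂ) *
      (charDegree (η : Subgroup.normalizer (P : Set G) → ℂ) : ℂ)).re =
      (Nat.card P : ℝ) * ∑ η ∈ S, (c η : ℝ) *
        (charDegree (η : Subgroup.normalizer (P : Set G) → ℂ) : ℝ) := by
    have h2 : (Nat.card P : ℂ) * ∑ η ∈ S, (c η : ℂ) *
        (charDegree (η : Subgroup.normalizer (P : Set G) → ℂ) : ℂ) =
        (((Nat.card P : ℝ) * ∑ η ∈ S, (c η : ℝ) *
          (charDegree (η : Subgroup.normalizer (P : Set G) → ℂ) : ℝ) : ℝ) : ℂ) := by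
      push_cast
      rfl
    rw [h2, Complex.ofReal_re]
  rw [hre, norm_mul]
  have h3 : ‖(Nat.card P : ℂ)‖ = (Nat.card P : ℝ) := by simp
  rw [h3]
  apply mul_le_mul_of_nonneg_left _ (Nat.cast_nonneg _)
  calc ‖∑ η ∈ S, (c η : ℂ) * (η : Subgroup.normalizer (P : Set G) → ℂ) ⟨y, hy⟩‖
      ≤ ∑ η ∈ S, ‖(c η : ℂ) * (η : Subgroup.normalizer (P : Set G) → ℂ) ⟨y, hy⟩‖ :=
        norm_sum_le _ _
    _ ≤ ∑ η ∈ S, (c η : ℝ) *
          (charDegree (η : Subgroup.normalizer (P : Set G) → ℂ) : ℝ) := by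
        apply Finset.sum_le_sum
        intro η _
        rw [norm_mul]
        have h4 : ‖(c η : ℂ)‖ = (c η : ℝ) := by simp
        rw [h4]
        exact mul_le_mul_of_nonneg_left (Helper83.irr_norm_le η.2 _) (Nat.cast_nonneg _)

end Cfsg.Agent.Lib.Helper10.BR
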