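import Mathlib
import Cfsg.Agent.S0854
import Cfsg.Agent.S0868
import Cfsg.Agent.Lib.Helper20.CharSub
import Cfsg.Agent.Lib.Helper20.Canon
import Cfsg.Agent.Lib.Helper83.Quot

/-!
# Relative Glauberman correspondence, part 1: Clifford and Gallagher parametrisation

* `const_trans`: transitivity of "lying over" along a homomorphism;
* `inertia`: the inertia subgroup of a function on a normal subgroup;
* `clifford_ind`: the converse direction of the Clifford correspondence;
* `sum_out`, `sum_quot`, `classInner_inflate`: sums over cosets;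
* `gallagher_irr`, `gallagher_inner`, `gallagher_exists`: Gallagher's theorem in quotient form;
* `cg_irr`, `cg_inj`, `cg_exists`: the parametrisation of the characters over `θ` by the
  characters of `T/N`, given an extension of `θ` to its inertia group `T`.
-/

set_option autoImplicit false

namespace Cfsg.Agent.Lib.Helper83

open scoped ComplexConjugate
open Cfsg Cfsg.Agent.Lib

/-- transitivity of "lying over" along a homomorphism -/
theorem const_trans {G H : Type*} [Group G] [Fintype G] [Group H] [Fintype H] (f : H →* G)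
    {ζ ψ : G → ℂ} (hζ : IsCharacter G ζ) (hψ : IsIrrCharacter G ψ) (h1 : classInner ζ ψ ≠ 0)
    {μ : H → ℂ} (hμ : IsCharacter H μ) (h2 : classInner (fun h => ψ (f h)) μ ≠ 0) :
    classInner (fun h => ζ (f h)) μ ≠ 0 := by
  have hsub := Helper20.sub_constituent hζ hψ h1
  obtain ⟨a, ha⟩ := Helper35.classInner_char_nat
    (Helper20.isCharacter_comp f (Helper35.isChar_of_irr hψ)) hμ
  obtain ⟨b, hb⟩ := Helper35.classInner_char_nat (Helper20.isCharacter_comp f hsub) hμ
  have h3 : (fun h => ζ (f h)) = (fun h => ψ (f h)) + (fun h => (ζ - ψ) (f h)) := by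
    funext h
    simp
  rw [h3, Helper35.classInner_add_left, ha, hb]
  rw [ha] at h2
  have h4 : a ≠ 0 := by exact_mod_cast h2
  have h5 : a + b ≠ 0 := by omega
  exact_mod_cast h5

section inertia

variable {G : Type*} [Group G] (N : Subgroup G) [hN : N.Normal]

/-- the inertia subgroup of a function on a normal subgroup -/
def inertia (θ : N → ℂ) : Subgroup G where
  carrier := {g | Helper20.conjFun N θ g = θ}
  mul_mem' := by
    intro a b ha hb
    show Helper20.conjFun N θ (a * b) = θ
    rw [← Helper20.conjFun_conjFun, (ha : Helper20.conjFun N θ a = θ)]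
    exact hb
  one_mem' := Helper20.conjFun_one N θ
  inv_mem' := by
    intro a ha
    show Helper20.conjFun N θ a⁻¹ = θ
    have h : Helper20.conjFun N (Helper20.conjFun N θ a) a⁻¹ = Helper20.conjFun N θ a⁻¹ := by
      rw [(ha : Helper20.conjFun N θ a = θ)]
    rw [← h, Helper20.conjFun_conjFun, mul_inv_cancel, Helper20.conjFun_one]

theorem mem_inertia (θ : N → ℂ) (g : G) :
    g ∈ inertia N θ ↔ Helper20.conjFun N θ g = θ := Iff.rfl

theorem le_inertia {θ : N → ℂ} (hθ : IsIrrCharacter N θ) : N ≤ inertia N θ := by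
  intro n hn
  rw [mem_inertia]
  funext h
  rw [Helper20.conjFun_apply]
  have h1 := irr_classFunction hθ h ⟨n, hn⟩
  rw [← h1]
  exact congrArg θ (Subtype.ext rfl)

end inertia

/-- the converse direction of the Clifford correspondence: induction from the inertia group is
irreducible and injective on the characters over `θ` -/
theorem clifford_ind {G : Type*} [Group G] [Fintype G] (N : Subgroup G) [hN : N.Normal]
    [Fintype N] {θ : N → ℂ} (hθ : IsIrrCharacter N θ) (T : Subgroup G) [Fintype T]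
    (hT : ∀ g : G, g ∈ T ↔ Helper20.conjFun N θ g = θ) (hNT : N ≤ T)
    {ψ : T → ℂ} (hψ : IsIrrCharacter T ψ)
    (hcon : classInner (fun n : N => ψ ⟨(n : G), hNT n.2⟩) θ ≠ 0) :
    IsIrrCharacter G (indFun T ψ) ∧
    ∀ ψ' : T → ℂ, IsIrrCharacter T ψ' →
      classInner (fun n : N => ψ' ⟨(n : G), hNT n.2⟩) θ ≠ 0 →
      indFun T ψ' = indFun T ψ → ψ' = ψ := by
  classical
  have hind : IsCharacter G (indFun T ψ) :=
    Helper35.isCharacter_indFun T (Helper35.isChar_of_irr hψ)
  have h1 : indFun T ψ 1 ≠ 0 := by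
    rw [Helper35.indFun_one_eq]
    have hidx : (T.index : ℂ) ≠ 0 := by
      exact_mod_cast (Subgroup.index_ne_zero_of_finite (H := T))
    exact mul_ne_zero hidx (irr_one_ne_zero hψ)
  obtain ⟨χ, hχ, hχc⟩ := Helper20.exists_constituent_of_char hind h1
  have hχch : IsCharacter G χ := Helper35.isChar_of_irr hχ
  have hcf : IsClassFunction G χ := Helper35.isClassFunction_of_isCharacter hχch
  have hres : IsCharacter T (Helper35.res T χ) := Helper35.isCharacter_res T hχch
  -- Frobenius reciprocity for irreducible characters of `T`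
  have hfrob : ∀ ψ'' : T → ℂ, classInner (Helper35.res T χ) ψ'' =
      classInner χ (indFun T ψ'') := fun ψ'' =>
    (Helper35.frobenius_reciprocity' T ψ'' χ hcf).symm
  have hF' : classInner (Helper35.res T χ) ψ ≠ 0 := by
    rw [hfrob, Helper4.classInner_conj_symm]
    intro h0
    apply hχc
    have := congrArg (starRingEnd ℂ) h0
    simpa using this
  have hχθ : classInner (fun n : N => χ n) θ ≠ 0 :=
    const_trans (Subgroup.inclusion hNT) hres hψ hF' (Helper35.isChar_of_irr hθ) hcon
  have hT' : ∀ g : G, g ∈ T ↔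
      ∀ n : N, θ ⟨g * n * g⁻¹, hN.conj_mem (n : G) n.2 g⟩ = θ n := by
    intro g
    rw [hT]
    constructor
    · intro h n
      exact congrFun h n
    · intro h
      funext n
      exact h n
  obtain ⟨ψ₀, hψ₀, hind₀, hmult₀⟩ := S0854.result N θ hθ T hT' hNT χ hχ hχθ
  have hone : classInner (Helper35.res T χ) ψ₀ = 1 := by
    rw [hfrob, hind₀, Helper35.classInner_irr' hχ hχ, if_pos rfl]
  -- uniqueness
  have huniq : ∀ ψ'' : T → ℂ, IsIrrCharacter T ψ'' → classInner (Helper35.res T χ) ψ'' ≠ 0 →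
      classInner (fun n : N => ψ'' ⟨(n : G), hNT n.2⟩) θ ≠ 0 → ψ'' = ψ₀ := by
    intro ψ'' hψ'' hc1 hc2
    by_contra hne
    have hsub : IsCharacter T (Helper35.res T χ - ψ₀) :=
      Helper20.sub_constituent hres hψ₀ (by rw [hone]; exact one_ne_zero)
    have h3 : classInner (Helper35.res T χ - ψ₀) ψ'' ≠ 0 := by
      rw [Helper35.classInner_sub_left, Helper35.classInner_irr' hψ₀ hψ'',
        if_neg (fun h => hne h.symm), sub_zero]
      exact hc1
    have h4 := const_trans (Subgroup.inclusion hNT) hsub hψ'' h3 (Helper35.isChar_of_irr hθ) hc2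
    apply h4
    have h5 : (fun h : N => (Helper35.res T χ - ψ₀) (Subgroup.inclusion hNT h)) =
        (fun n : N => χ n) - (fun n : N => ψ₀ ⟨(n : G), hNT n.2⟩) := by
      funext n
      rfl
    rw [h5, Helper35.classInner_sub_left, hmult₀, sub_self]
  have hψeq : ψ = ψ₀ := huniq ψ hψ hF' hcon
  have hindeq : indFun T ψ = χ := by rw [hψeq, hind₀]
  refine ⟨by rw [hindeq]; exact hχ, ?_⟩
  intro ψ' hψ' hc' heq
  have h6 : classInner (Helper35.res T χ) ψ' ≠ 0 := by
    rw [hfrob, heq, hindeq, Helper35.classInner_irr' hχ hχ, if_pos rfl]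
    exact one_ne_zero
  rw [huniq ψ' hψ' h6 hc', hψeq]

section cosets

variable {G : Type*} [Group G] (N : Subgroup G)

/-- the set-theoretic splitting of a group into cosets -/
noncomputable def outEquiv : (G ⧸ N) × N ≃ G where
  toFun p := p.1.out * (p.2 : G)
  invFun g := ((g : G ⧸ N), ⟨((g : G ⧸ N)).out⁻¹ * g,
    (QuotientGroup.eq (s := N)).mp (QuotientGroup.out_eq' (g : G ⧸ N))⟩)
  left_inv := by
    rintro ⟨q, n⟩
    have h1 : ((q.out * (n : G) : G) : G ⧸ N) = q := by
      rw [QuotientGroup.mk_mul_of_mem _ n.2, QuotientGroup.out_eq']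
    apply Prod.ext
    · exact h1
    · apply Subtype.ext
      show ((q.out * (n : G) : G) : G ⧸ N).out⁻¹ * (q.out * (n : G)) = n
      rw [h1, inv_mul_cancel_left]
  right_inv := by
    intro g
    show ((g : G ⧸ N)).out * (((g : G ⧸ N)).out⁻¹ * g) = g
    rw [mul_inv_cancel_left]

/-- summing a function constant on the cosets of `N` -/
theorem sum_out [Fintype G] [Fintype N] [Fintype (G ⧸ N)] (F : G → ℂ)
    (hF : ∀ (g : G) (n : N), F (g * n) = F g) :
    ∑ g : G, F g = (Nat.card N : ℂ) * ∑ q : G ⧸ N, F q.out := by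
  rw [← Equiv.sum_comp (outEquiv N) F, Fintype.sum_prod_type]
  have h1 : ∀ q : G ⧸ N, ∑ n : N, F (outEquiv N (q, n)) = (Nat.card N : ℂ) * F q.out := by
    intro q
    have h2 : ∀ n : N, F (outEquiv N (q, n)) = F q.out := fun n => hF q.out n
    rw [Finset.sum_congr rfl (fun n _ => h2 n), Finset.sum_const, Finset.card_univ,
      nsmul_eq_mul, Nat.card_eq_fintype_card]
  rw [Finset.sum_congr rfl (fun q _ => h1 q), Finset.mul_sum]

/-- summing a function of the coset -/
theorem sum_quot [Fintype G] [Fintype N] [Fintype (G ⧸ N)] (f : G ⧸ N → ℂ) :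
    ∑ g : G, f (g : G ⧸ N) = (Nat.card N : ℂ) * ∑ q : G ⧸ N, f q := by
  rw [sum_out N (fun g => f (g : G ⧸ N))
    (fun g n => by rw [QuotientGroup.mk_mul_of_mem _ n.2])]
  congr 1
  apply Finset.sum_congr rfl
  intro q _
  rw [QuotientGroup.out_eq']

/-- inner products of inflated functions -/
theorem classInner_inflate [Fintype G] [N.Normal] [Fintype (G ⧸ N)] (β β' : G ⧸ N → ℂ) :
    classInner (fun g : G => β (g : G ⧸ N)) (fun g : G => β' (g : G ⧸ N)) = classInner β β' := by
  classical
  let _ : Fintype N := Fintype.ofFinite _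
  unfold classInner
  rw [sum_quot N (fun q => β q * conj (β' q)), Subgroup.card_eq_card_quotient_mul_card_subgroup N]
  have h1 : (Nat.card N : ℂ) ≠ 0 := by exact_mod_cast (Nat.card_pos (α := N)).ne'
  have h2 : (Nat.card (G ⧸ N) : ℂ) ≠ 0 := by exact_mod_cast (Nat.card_pos (α := G ⧸ N)).ne'
  push_cast
  field_simp

end cosets

section gallagher

variable {G : Type*} [Group G] [Fintype G] (N : Subgroup G) [N.Normal] [Fintype N]

/-- Gallagher orthogonality, quotient form -/
theorem gallagher_inner [Fintype (G ⧸ N)] {η : G → ℂ} (hη : IsIrrCharacter G η)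
    (hηN : IsIrrCharacter N (fun n : N => η n)) (β β' : G ⧸ N → ℂ) :
    classInner (fun g : G => β (g : G ⧸ N) * η g) (fun g : G => β' (g : G ⧸ N) * η g) =
      classInner β β' := by
  have h1 := S0868.classInner_mul_ext N hη hηN (ξ := fun g : G => β (g : G ⧸ N))
    (ξ' := fun g : G => β' (g : G ⧸ N))
    (fun g n => by
      show β ((n : G) * g : G) = β (g : G)
      rw [QuotientGroup.mk_mul, (QuotientGroup.eq_one_iff (n : G)).mpr n.2, one_mul])
    (fun g n => by
      show β' ((n : G) * g : G) = β' (g : G)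
      rw [QuotientGroup.mk_mul, (QuotientGroup.eq_one_iff (n : G)).mpr n.2, one_mul])
  rw [← classInner_inflate N β β', ← h1]
  rfl

/-- Gallagher: products with characters of the quotient are irreducible -/
theorem gallagher_irr {η : G → ℂ} (hη : IsIrrCharacter G η)
    (hηN : IsIrrCharacter N (fun n : N => η n)) (β : IrrCharacter (G ⧸ N)) :
    IsIrrCharacter G (fun g : G => (β : G ⧸ N → ℂ) (g : G ⧸ N) * η g) := by
  classical
  have := Helper4.irr_finite (G := G)
  let _ : Fintype (IrrCharacter G) := Fintype.ofFinite _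
  let _ : Fintype (G ⧸ N) := Fintype.ofFinite _
  refine Helper4.isIrrCharacter_of_norm_one _
    (Helper35.isCharacter_mul (Helper35.isChar_of_irr (irr_inflate N β.2))
      (Helper35.isChar_of_irr hη)) ?_
  rw [gallagher_inner N hη hηN, Helper35.classInner_irr' β.2 β.2, if_pos rfl]

/-- Gallagher: every irreducible character over `η_N` is a product -/
theorem gallagher_exists {η : G → ℂ} (hη : IsIrrCharacter G η)
    (hηN : IsIrrCharacter N (fun n : N => η n)) {ψ : G → ℂ} (hψ : IsIrrCharacter G ψ)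
    (hc : classInner (fun n : N => ψ n) (fun n : N => η n) ≠ 0) :
    ∃ β : IrrCharacter (G ⧸ N), ψ = fun g : G => (β : G ⧸ N → ℂ) (g : G ⧸ N) * η g := by
  classical
  have := Helper4.irr_finite (G := G)
  let _ : Fintype (IrrCharacter G) := Fintype.ofFinite _
  have hξ : IsIrrCharacter G (S0868.eta N ψ η) := (S0868.result N η hη hηN ψ hψ _ rfl).1 hc
  have hξl : ∀ (g : G) (n : N), S0868.eta N ψ η ((n : G) * g) = S0868.eta N ψ η g :=
    fun g n => S0868.eta_mul_left N ψ η g n
  have h1 : classInner (S0868.eta N ψ η) (S0868.eta N ψ η) =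
      classInner ψ (S0868.eta N ψ η * η) := S0868.classInner_eta N ψ η hξl
  rw [Helper35.classInner_irr' hξ hξ, if_pos rfl] at h1
  have hprod : IsIrrCharacter G (S0868.eta N ψ η * η) := by
    refine Helper4.isIrrCharacter_of_norm_one _
      (Helper35.isCharacter_mul (Helper35.isChar_of_irr hξ) (Helper35.isChar_of_irr hη)) ?_
    rw [S0868.classInner_mul_ext N hη hηN hξl hξl, Helper35.classInner_irr' hξ hξ, if_pos rfl]
  have h2 : ψ = S0868.eta N ψ η * η := by
    by_contra hne
    rw [Helper35.classInner_irr' hψ hprod, if_neg hne] at h1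
    exact one_ne_zero h1
  obtain ⟨β, hβ, hβe⟩ := irr_deflate N hξ (fun x hx => by
    have := hξl 1 ⟨x, hx⟩
    rwa [mul_one] at this)
  refine ⟨⟨β, hβ⟩, ?_⟩
  funext g
  show ψ g = β (g : G ⧸ N) * η g
  rw [hβe g]
  exact congrFun h2 g

end gallagher

section cg

variable {G : Type*} [Group G] [Fintype G] (N : Subgroup G) [hN : N.Normal] [Fintype N]
  (T : Subgroup G) [Fintype T]

/-- the character `β η` of `T` attached to a function `β` on `T/N` -/
def cgPsi (η : T → ℂ) (β : T ⧸ N.subgroupOf T → ℂ) : T → ℂ :=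
  fun t => β (t : T ⧸ N.subgroupOf T) * η t

omit [Fintype G] hN [Fintype N] [Fintype T] in
theorem cgPsi_apply (η : T → ℂ) (β : T ⧸ N.subgroupOf T → ℂ) (t : T) :
    cgPsi N T η β t = β (t : T ⧸ N.subgroupOf T) * η t := rfl

variable {θ : N → ℂ} (hθ : IsIrrCharacter N θ)
  (hT : ∀ g : G, g ∈ T ↔ Helper20.conjFun N θ g = θ) (hNT : N ≤ T)
  {η : T → ℂ} (hη : IsIrrCharacter T η) (hηN : ∀ n : N, η ⟨(n : G), hNT n.2⟩ = θ n)

omit [Fintype G] hN [Fintype N] [Fintype T] in
include hθ hηN in
theorem eta_res_irr :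
    IsIrrCharacter (N.subgroupOf T) (fun n : N.subgroupOf T => η n) := by
  let e : N.subgroupOf T ≃* N := Subgroup.subgroupOfEquivOfLe hNT
  have h1 : (fun n : N.subgroupOf T => η n) = fun n => θ (e n) := by
    funext n
    rw [← hηN (e n)]
    exact congrArg η (Subtype.ext (Subgroup.subgroupOfEquivOfLe_apply_coe hNT n).symm)
  rw [h1]
  exact Helper20.irr_comp_surjective e.toMonoidHom e.surjective hθ

omit [Fintype N] in
include hθ hη hηN in
theorem cg_psi_irr (β : IrrCharacter (T ⧸ N.subgroupOf T)) :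
    IsIrrCharacter T (cgPsi N T η (β : T ⧸ N.subgroupOf T → ℂ)) := by
  classical
  let _ : Fintype (N.subgroupOf T) := Fintype.ofFinite _
  exact gallagher_irr (N.subgroupOf T) hη (eta_res_irr N T hθ hNT hηN) β

omit [Fintype G] [Fintype N] [Fintype T] in
include hηN in
theorem cg_psi_res (β : T ⧸ N.subgroupOf T → ℂ) (n : N) :
    cgPsi N T η β ⟨(n : G), hNT n.2⟩ = β 1 * θ n := by
  rw [cgPsi_apply, hηN]
  congr 2
  rw [QuotientGroup.eq_one_iff, Subgroup.mem_subgroupOf]
  exact n.2

include hθ hηN in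
theorem cg_psi_over (β : IrrCharacter (T ⧸ N.subgroupOf T)) :
    classInner (fun n : N => cgPsi N T η (β : T ⧸ N.subgroupOf T → ℂ) ⟨(n : G), hNT n.2⟩) θ
      ≠ 0 := by
  have h1 : (fun n : N => cgPsi N T η (β : T ⧸ N.subgroupOf T → ℂ) ⟨(n : G), hNT n.2⟩) =
      ((β : T ⧸ N.subgroupOf T → ℂ) 1) • θ := by
    funext n
    rw [cg_psi_res N T hNT hηN]
    rfl
  rw [h1, Helper35.classInner_smul_left, Helper35.classInner_irr' hθ hθ, if_pos rfl, mul_one]
  exact irr_one_ne_zero β.2

include hθ hT hη hηN in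
theorem cg_irr (β : IrrCharacter (T ⧸ N.subgroupOf T)) :
    IsIrrCharacter G (indFun T (cgPsi N T η (β : T ⧸ N.subgroupOf T → ℂ))) :=
  (clifford_ind N hθ T hT hNT (cg_psi_irr N T hθ hNT hη hηN β)
    (cg_psi_over N T hθ hNT hηN β)).1

include hθ hT hη hηN in
theorem cg_inj (β β' : IrrCharacter (T ⧸ N.subgroupOf T))
    (h : indFun T (cgPsi N T η (β : T ⧸ N.subgroupOf T → ℂ)) =
      indFun T (cgPsi N T η (β' : T ⧸ N.subgroupOf T → ℂ))) : β = β' := by
  classical
  let _ : Fintype (N.subgroupOf T) := Fintype.ofFinite _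
  let _ : Fintype (T ⧸ N.subgroupOf T) := Fintype.ofFinite _
  have h1 := (clifford_ind N hθ T hT hNT (cg_psi_irr N T hθ hNT hη hηN β')
    (cg_psi_over N T hθ hNT hηN β')).2 _ (cg_psi_irr N T hθ hNT hη hηN β)
    (cg_psi_over N T hθ hNT hηN β) h
  have h2 := gallagher_inner (N.subgroupOf T) hη (eta_res_irr N T hθ hNT hηN)
    (β : T ⧸ N.subgroupOf T → ℂ) (β' : T ⧸ N.subgroupOf T → ℂ)
  have h3 : classInner (cgPsi N T η (β : T ⧸ N.subgroupOf T → ℂ))
      (cgPsi N T η (β' : T ⧸ N.subgroupOf T → ℂ)) = 1 := by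
    rw [h1, Helper35.classInner_irr' (cg_psi_irr N T hθ hNT hη hηN β')
      (cg_psi_irr N T hθ hNT hη hηN β'), if_pos rfl]
  have h4 : classInner (β : T ⧸ N.subgroupOf T → ℂ) (β' : T ⧸ N.subgroupOf T → ℂ) = 1 := by
    rw [← h2]
    exact h3
  rw [Helper35.classInner_irr' β.2 β'.2] at h4
  by_contra hne
  rw [if_neg (fun h => hne (Subtype.ext h))] at h4
  exact zero_ne_one h4

include hθ hT hη hηN in
theorem cg_exists {χ : G → ℂ} (hχ : IsIrrCharacter G χ)
    (hc : classInner (fun n : N => χ n) θ ≠ 0) :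
    ∃ β : IrrCharacter (T ⧸ N.subgroupOf T),
      χ = indFun T (cgPsi N T η (β : T ⧸ N.subgroupOf T → ℂ)) := by
  classical
  let _ : Fintype (N.subgroupOf T) := Fintype.ofFinite _
  have hT' : ∀ g : G, g ∈ T ↔
      ∀ n : N, θ ⟨g * n * g⁻¹, hN.conj_mem (n : G) n.2 g⟩ = θ n := by
    intro g
    rw [hT]
    constructor
    · intro h n
      exact congrFun h n
    · intro h
      funext n
      exact h n
  obtain ⟨ψ, hψ, hind, hmult⟩ := S0854.result N θ hθ T hT' hNT χ hχ hc
  let e : N.subgroupOf T ≃* N := Subgroup.subgroupOfEquivOfLe hNT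
  have h1 : (fun n : N.subgroupOf T => η n) = fun n => θ (e n) := by
    funext n
    rw [← hηN (e n)]
    exact congrArg η (Subtype.ext (Subgroup.subgroupOfEquivOfLe_apply_coe hNT n).symm)
  have h2 : (fun n : N.subgroupOf T => ψ n) =
      fun n => (fun m : N => ψ ⟨(m : G), hNT m.2⟩) (e n) := by
    funext n
    exact congrArg ψ (Subtype.ext (Subgroup.subgroupOfEquivOfLe_apply_coe hNT n).symm)
  have h3 : classInner (fun n : N.subgroupOf T => ψ n) (fun n : N.subgroupOf T => η n) ≠ 0 := by
    rw [h1, h2, Helper20.classInner_comp_equiv e (fun m : N => ψ ⟨(m : G), hNT m.2⟩) θ, hmult]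
    exact hc
  obtain ⟨β, hβ⟩ := gallagher_exists (N.subgroupOf T) hη (eta_res_irr N T hθ hNT hηN) hψ h3
  refine ⟨β, ?_⟩
  rw [← hind, hβ]
  rfl

end cg

end Cfsg.Agent.Lib.Helper83
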