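import Mathlib
import Cfsg.Prelude.Def_Blocks
import Cfsg.Agent.Lib.Helper22.TGDefs

/-!
# Brauer's (p-1)/2 theorem (S4503): common definitions

`Setup G p` : a Sylow `p`-subgroup `P` of order `p` with a generator `z`, the subgroup `K` of the
`p`-regular elements of `C_G(P)`, the fusion map `κ` (`n⁻¹ z n = z ^ κ n` on `N_G(P)`) and a
primitive `p`-th root of unity `ω`.

* `D.comp h b` : the `b`-component on `K` of the function `h` on `G`
  (`s ↦ p⁻¹ ∑ t, conj (ω ^ (b t)) h (z ^ t s)`).
* `D.NE δ Φ` : the irreducible characters `ζ` of `G` with `ζ (z ^ t s) = δ Φ s` for `t ≠ 0`.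
* `D.S` : the image of `κ` on the normalizer, `D.fS` its cardinality.
* `D.eta c t = ∑_{m ∈ S} ω ^ (c m t)` : Gauss periods.
-/

set_option autoImplicit false

namespace Cfsg.Agent.Lib.Helper83.BP

open Cfsg
open scoped ComplexConjugate

universe u

/-- the local data at a Sylow subgroup of prime order -/
structure Setup (G : Type u) [Group G] (p : ℕ) where
  P : Sylow p G
  z : G
  K : Subgroup G
  κ : G → ZMod p
  ω : ℂ
  hP : Nat.card P = p
  hz : z ∈ (P : Subgroup G)
  hz1 : z ≠ 1
  hK : ∀ y : G, y ∈ K ↔ (y * z = z * y ∧ ¬ p ∣ orderOf y)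
  hκ : ∀ n ∈ Subgroup.normalizer ((P : Subgroup G) : Set G), n⁻¹ * z * n = z ^ (κ n).val
  hω : IsPrimitiveRoot ω p

namespace Setup

variable {G : Type u} [Group G] {p : ℕ} (D : Setup G p)

/-- the normalizer of `P` -/
abbrev N : Subgroup G := Subgroup.normalizer ((D.P : Subgroup G) : Set G)

/-- the centralizer of `P` -/
abbrev C : Subgroup G := Subgroup.centralizer ((D.P : Subgroup G) : Set G)

/-- the `b`-component on `K` of a function on `G` -/
noncomputable def comp [NeZero p] (h : G → ℂ) (b : ZMod p) : D.K → ℂ :=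
  fun s => (p : ℂ)⁻¹ * ∑ t : ZMod p, conj (D.ω ^ (b * t).val) * h (D.z ^ t.val * (s : G))

/-- irreducible characters with the constant value `δ Φ` on the `p`-singular elements `z ^ t s` -/
def NE (δ : ℂ) (Φ : D.K → ℂ) : Set (IrrCharacter G) :=
  {ζ | ∀ t : ZMod p, t ≠ 0 → ∀ s : D.K, ζ.1 (D.z ^ t.val * (s : G)) = δ * Φ s}

/-- the image of the fusion map -/
def S : Set (ZMod p) := {m | ∃ n ∈ D.N, D.κ n = m}

open scoped Classical in
/-- the number of elements of `S` (the index of the centralizer in the normalizer) -/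
noncomputable def fS [NeZero p] : ℕ := (Finset.univ.filter (fun m : ZMod p => m ∈ D.S)).card

open scoped Classical in
/-- Gauss period -/
noncomputable def eta [NeZero p] (c t : ZMod p) : ℂ :=
  ∑ m : ZMod p, if m ∈ D.S then D.ω ^ (c * m * t).val else 0

end Setup

end Cfsg.Agent.Lib.Helper83.BP
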