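import Mathlib
import Cfsg.Agent.Lib.Helper10.BR0
import Cfsg.Agent.Lib.Helper83.BRL2
import Cfsg.Agent.Lib.Helper83.Linear

/-!
# S0999 (Brauer–Reynolds), piece BR-L3 (helper83)

`psum_hom`: if `Σ_{u ∈ P} ψ(u) = |P|` then there is a homomorphism `lam : N_G(P) →* ℂˣ` with
`Σ_{u ∈ P} ψ(y u) = |P| lam(y)` for all `y ∈ N_G(P)`.
-/

set_option autoImplicit false
set_option linter.unusedSectionVars false
set_option linter.style.haveILetI false
set_option linter.unusedVariables false

namespace Cfsg.Agent.Lib.Helper10.BR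

open Cfsg Cfsg.Agent.Lib
open scoped ComplexConjugate

/-- BR-L3 -/
theorem psum_hom {G : Type*} [Group G] [Fintype G] (P : Subgroup G) (ψ : G → ℂ)
    (hψ : IsCharacter G ψ) (h1 : psum P ψ 1 = (Nat.card P : ℂ)) :
    ∃ lam : Subgroup.normalizer (P : Set G) →* ℂˣ,
      ∀ y : Subgroup.normalizer (P : Set G),
        psum P ψ (y : G) = (Nat.card P : ℂ) * ((lam y : ℂˣ) : ℂ) := by
  classical
  obtain ⟨S, c, h⟩ := BRL2aux.psum_decomp P ψ hψ
  have h1' := h 1
  rw [show (((1 : Subgroup.normalizer (P : Set G)) : G)) = 1 from rfl, h1] at h1'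
  have hdeg : ∀ η : IrrCharacter (Subgroup.normalizer (P : Set G)),
      (η : Subgroup.normalizer (P : Set G) → ℂ) 1 =
        (charDegree (η : Subgroup.normalizer (P : Set G) → ℂ) : ℂ) :=
    fun η => (Helper83.irr_degree η.2).2
  have hP : (Nat.card P : ℂ) ≠ 0 := by exact_mod_cast (Nat.card_pos (α := P)).ne'
  have hsum : ∑ η ∈ S, c η * charDegree (η : Subgroup.normalizer (P : Set G) → ℂ) = 1 := by
    have h2 : (Nat.card P : ℂ) * 1 = (Nat.card P : ℂ) *
        ∑ η ∈ S, (c η : ℂ) * (η : Subgroup.normalizer (P : Set G) → ℂ) 1 := by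
      rw [mul_one]
      exact h1'
    have h3 := mul_left_cancel₀ hP h2
    simp only [hdeg] at h3
    exact_mod_cast h3.symm
  obtain ⟨η₀, hη₀S, hη₀⟩ : ∃ η₀ ∈ S,
      c η₀ * charDegree (η₀ : Subgroup.normalizer (P : Set G) → ℂ) ≠ 0 := by
    by_contra hcon
    have h0 : ∀ η ∈ S, c η * charDegree (η : Subgroup.normalizer (P : Set G) → ℂ) = 0 := by
      intro η hη
      by_contra hne
      exact hcon ⟨η, hη, hne⟩
    rw [Finset.sum_eq_zero h0] at hsum
    exact zero_ne_one hsum
  have hsplit := (Finset.add_sum_erase S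
    (fun η => c η * charDegree (η : Subgroup.normalizer (P : Set G) → ℂ)) hη₀S)
  have heq1 : c η₀ * charDegree (η₀ : Subgroup.normalizer (P : Set G) → ℂ) = 1 := by omega
  have hrest : ∑ η ∈ S.erase η₀,
      c η * charDegree (η : Subgroup.normalizer (P : Set G) → ℂ) = 0 := by omega
  have hc1 : c η₀ = 1 := Nat.eq_one_of_mul_eq_one_right heq1
  have hd1 : charDegree (η₀ : Subgroup.normalizer (P : Set G) → ℂ) = 1 :=
    Nat.eq_one_of_mul_eq_one_left heq1
  have hothers : ∀ η ∈ S, η ≠ η₀ → c η = 0 := by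
    intro η hη hne
    have h4 := (Finset.sum_eq_zero_iff.mp hrest) η (Finset.mem_erase.mpr ⟨hne, hη⟩)
    rcases Nat.mul_eq_zero.mp h4 with h5 | h5
    · exact h5
    · exact absurd h5 (Helper83.irr_degree η.2).1.ne'
  have hη1 : (η₀ : Subgroup.normalizer (P : Set G) → ℂ) 1 = 1 := by
    rw [hdeg, hd1]
    simp
  have hne0 : ∀ y : Subgroup.normalizer (P : Set G),
      (η₀ : Subgroup.normalizer (P : Set G) → ℂ) y ≠ 0 := by
    intro y hy0
    have h4 := Helper83.irr_linear_mul η₀.2 hη1 y y⁻¹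
    rw [mul_inv_cancel, hη1, hy0, zero_mul] at h4
    exact one_ne_zero h4
  let lam : Subgroup.normalizer (P : Set G) →* ℂˣ :=
    { toFun := fun y => Units.mk0 ((η₀ : Subgroup.normalizer (P : Set G) → ℂ) y) (hne0 y)
      map_one' := by
        apply Units.ext
        simpa using hη1
      map_mul' := by
        intro a b
        apply Units.ext
        simpa using Helper83.irr_linear_mul η₀.2 hη1 a b }
  refine ⟨lam, fun y => ?_⟩
  rw [h y]
  congr 1
  rw [Finset.sum_eq_single η₀]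
  · rw [hc1]
    simp [lam]
  · intro η hη hne
    rw [hothers η hη hne]
    simp
  · intro hnot
    exact absurd hη₀S hnot

end Cfsg.Agent.Lib.Helper10.BR
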