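import Mathlib
import Cfsg.Agent.Lib.Helper18.CTDefs

/-!
# Project CT (S4699, helper18), piece TAU4B (backup copy by helper83)

The orbit of a generator `x` of the cyclic group `P` of order `p ^ n` under the normalizer of `P`
has at most `p - 1` elements, if the elements of the normalizer acting on `P` by a power map
congruent to `1` modulo `p` centralise `x`: the exponent modulo `p` is injective on the orbit and
never zero.
-/

set_option autoImplicit false

namespace Cfsg.Agent.Lib.Helper18.CT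

variable {G : Type*} [Group G] {F : Type*} [Field F] {V : Type*} [AddCommGroup V] [Module F V]

theorem tau4bb_mem_orbN [Finite G] (P : Subgroup G) (x u : G) :
    u ∈ orbN P x ↔ ∃ g ∈ Subgroup.normalizer (P : Set G), u = g * x * g⁻¹ := by
  unfold orbN
  rw [Set.Finite.mem_toFinset]
  rfl

/-- A conjugate of `x` by an element of the normalizer is a natural power of `x`. -/
theorem tau4bb_pow [Finite G] (P : Subgroup G) (x : G) (hx : Subgroup.zpowers x = P) (c : G)
    (hc : c ∈ Subgroup.normalizer (P : Set G)) : ∃ a : ℕ, x ^ a = c * x * c⁻¹ := by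
  have hxP : x ∈ P := by
    rw [← hx]
    exact Subgroup.mem_zpowers x
  have h1 : c * x * c⁻¹ ∈ P := (Subgroup.mem_normalizer_iff.1 hc x).1 hxP
  rw [← hx, ← mem_powers_iff_mem_zpowers] at h1
  exact (Submonoid.mem_powers_iff _ _).1 h1

-- piece TAU4B
theorem orbN_card_le [Finite G] (p : ℕ) [Fact p.Prime] (P : Subgroup G) (x : G)
    (hx : Subgroup.zpowers x = P) (n : ℕ) (hn : 1 ≤ n) (hord : orderOf x = p ^ n)
    (hA : ∀ k ∈ Subgroup.normalizer (P : Set G), ∀ c : ℕ, k * x * k⁻¹ = x ^ c → c % p = 1 % p →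
      k * x * k⁻¹ = x) :
    (orbN P x).card ≤ p - 1 := by
  classical
  have hp := (Fact.out : p.Prime)
  obtain ⟨m, rfl⟩ : ∃ m, n = m + 1 := ⟨n - 1, by omega⟩
  have hex : ∀ u ∈ orbN P x, ∃ a : ℕ, x ^ a = u := by
    intro u hu
    obtain ⟨g, hg, rfl⟩ := (tau4bb_mem_orbN P x u).1 hu
    exact tau4bb_pow P x hx g hg
  let f : G → ZMod p := fun u =>
    if h : ∃ a : ℕ, x ^ a = u then ((Classical.choose h : ℕ) : ZMod p) else 0
  have hf : ∀ u ∈ orbN P x, ∃ a : ℕ, x ^ a = u ∧ f u = (a : ZMod p) := by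
    intro u hu
    have h := hex u hu
    refine ⟨Classical.choose h, Classical.choose_spec h, ?_⟩
    show (if h : ∃ a : ℕ, x ^ a = u then ((Classical.choose h : ℕ) : ZMod p) else 0) = _
    rw [dif_pos h]
  have hcard : (Finset.univ.erase (0 : ZMod p)).card = p - 1 := by
    rw [Finset.card_erase_of_mem (Finset.mem_univ _), Finset.card_univ, ZMod.card]
  rw [← hcard]
  apply Finset.card_le_card_of_injOn f
  · intro u hu
    obtain ⟨a, hau, hfa⟩ := hf u hu
    obtain ⟨g, hg, hug⟩ := (tau4bb_mem_orbN P x u).1 hu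
    rw [Finset.mem_coe, Finset.mem_erase]
    refine ⟨?_, Finset.mem_univ _⟩
    rw [hfa]
    intro h0
    rw [ZMod.natCast_eq_zero_iff] at h0
    obtain ⟨a', rfl⟩ := h0
    have ho : orderOf u = p ^ (m + 1) := by
      rw [hug, ← hord]
      have := (MulAut.conj g).orderOf_eq x
      simpa [MulAut.conj_apply] using this
    have h1 : u ^ (p ^ m) = 1 := by
      rw [← hau, ← pow_mul]
      have e : p * a' * p ^ m = p ^ (m + 1) * a' := by
        rw [pow_succ]
        ring
      rw [e, pow_mul, ← hord, pow_orderOf_eq_one, one_pow]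
    have h2 := orderOf_dvd_of_pow_eq_one h1
    rw [ho] at h2
    have h3 := Nat.le_of_dvd (pow_pos hp.pos _) h2
    have h4 : p ^ m < p ^ (m + 1) := Nat.pow_lt_pow_right hp.one_lt (Nat.lt_succ_self m)
    omega
  · intro u hu u' hu' hff
    rw [Finset.mem_coe] at hu hu'
    obtain ⟨a, hau, hfa⟩ := hf u hu
    obtain ⟨b, hbu, hfb⟩ := hf u' hu'
    obtain ⟨g, hg, hug⟩ := (tau4bb_mem_orbN P x u).1 hu
    obtain ⟨h, hh, hug'⟩ := (tau4bb_mem_orbN P x u').1 hu'
    rw [hfa, hfb, ZMod.natCast_eq_natCast_iff] at hff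
    have hhi : h⁻¹ ∈ Subgroup.normalizer (P : Set G) := inv_mem hh
    obtain ⟨b', hb'⟩ := tau4bb_pow P x hx h⁻¹ hhi
    have hconj : ∀ k : ℕ, h⁻¹ * x ^ k * h⁻¹⁻¹ = x ^ (b' * k) := by
      intro k
      rw [← conj_pow, ← hb', ← pow_mul]
    have h1 : x ^ (b' * b) = x ^ 1 := by
      rw [← hconj b, hbu, hug', pow_one]
      group
    have h2 : b' * b ≡ 1 [MOD p] := by
      have h2' := pow_eq_pow_iff_modEq.1 h1
      rw [hord] at h2'
      exact h2'.of_dvd (dvd_pow_self p (Nat.succ_ne_zero m))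
    have h3 : b' * a ≡ 1 [MOD p] := (Nat.ModEq.mul_left b' hff).trans h2
    have hk : h⁻¹ * g ∈ Subgroup.normalizer (P : Set G) := mul_mem hhi hg
    have h4 : (h⁻¹ * g) * x * (h⁻¹ * g)⁻¹ = x ^ (b' * a) := by
      rw [← hconj a, hau, hug]
      group
    have h5 := hA (h⁻¹ * g) hk (b' * a) h4 h3
    rw [hug, hug']
    have h6 : g * x * g⁻¹ = h * (h⁻¹ * g * x * (h⁻¹ * g)⁻¹) * h⁻¹ := by group
    rw [h6, h5]

end Cfsg.Agent.Lib.Helper18.CT
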