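import Mathlib
import Cfsg.Agent.S0868
import Cfsg.Agent.Lib.Helper4.CharClosure
import Cfsg.Agent.Lib.Helper80.Galois
import Cfsg.Agent.Lib.Helper20.DetChar

/-!
General character-theoretic lemmas used for the Glauberman correspondence (cyclic case):
composition with homomorphisms, the coset average `eta` of two characters is a character,
the "cross" character of a centralising pair of subgroups, and the determinantal order of a
Galois conjugate.
-/

set_option autoImplicit false

namespace Cfsg.Agent.Lib.Helper83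

open Cfsg
open scoped ComplexConjugate

section comp

variable {A B : Type*} [Group A] [Group B]

theorem isCharacter_comp_hom (f : A →* B) {χ : B → ℂ} (h : IsCharacter B χ) :
    IsCharacter A (fun a => χ (f a)) := by
  obtain ⟨n, ρ, rfl⟩ := h
  exact ⟨n, ρ.comp f, rfl⟩

theorem isIrrCharacter_comp_surj (f : A →* B) (hf : Function.Surjective f) {χ : B → ℂ}
    (h : IsIrrCharacter B χ) : IsIrrCharacter A (fun a => χ (f a)) := by
  obtain ⟨n, ρ, hρ, rfl⟩ := h
  refine ⟨n, ρ.comp f, ?_, rfl⟩
  exact irreducible_of_equiv ρ (ρ.comp f) (LinearEquiv.refl ℂ _) (fun b => by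
    obtain ⟨a, rfl⟩ := hf b
    exact ⟨a, fun v => rfl⟩) hρ

end comp

/-- the coset average of two characters is a character -/
theorem eta_isCharacter {G : Type*} [Group G] [Fintype G] (N : Subgroup G) [N.Normal] [Fintype N]
    {ψ χ : G → ℂ} (hψ : IsCharacter G ψ) (hχ : IsCharacter G χ) :
    IsCharacter G (Cfsg.Agent.S0868.eta N ψ χ) := by
  have hcfψ := Helper35.isClassFunction_of_isCharacter hψ
  have hcfχ := Helper35.isClassFunction_of_isCharacter hχ
  apply Helper4.isCharacter_of_classInner_nat _ (Cfsg.Agent.S0868.eta_classFunction N hcfψ hcfχ)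
  intro ξ
  by_cases hker : ∀ n : N, (ξ : G → ℂ) n = (ξ : G → ℂ) 1
  · have hξ : ∀ (g : G) (n : N), (ξ : G → ℂ) (n * g) = (ξ : G → ℂ) g :=
      fun g n => Cfsg.Agent.S0868.irr_ker_mul N ξ.2 hker g n
    rw [Cfsg.Agent.S0868.classInner_eta N ψ χ hξ]
    exact Helper4.classInner_isCharacter_isCharacter_nat _ _ hψ
      (Helper35.isCharacter_mul (Helper35.isChar_of_irr ξ.2) hχ)
  · push Not at hker
    obtain ⟨x, hx⟩ := hker
    refine ⟨0, ?_⟩
    rw [Cfsg.Agent.S0868.classInner_eq_zero_of_not_ker N
      (Cfsg.Agent.S0868.eta_mul_right N hcfψ hcfχ) ξ.2 x hx]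
    simp

/-- If `C` and `S` centralise each other, `ψ` is a character of the ambient group and `β` a
character of `C`, then `t ↦ ⟨ψ(· t), β⟩_C` is a character of `S`. -/
theorem cross_isCharacter {Γ : Type*} [Group Γ] (C S : Subgroup Γ) [Fintype C] [Finite S]
    (hcomm : ∀ c ∈ C, ∀ t ∈ S, c * t = t * c) {ψ : Γ → ℂ} (hψ : IsCharacter Γ ψ)
    {β : C → ℂ} (hβ : IsCharacter C β) :
    IsCharacter S (fun t : S => (Nat.card C : ℂ)⁻¹ * ∑ c : C, ψ ((c : Γ) * t) * conj (β c)) := by
  classical
  let _ : Fintype S := Fintype.ofFinite S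
  let ι : C × S →* Γ := MonoidHom.noncommCoprod C.subtype S.subtype
    (fun c t => hcomm c c.2 t t.2)
  let N : Subgroup (C × S) := (MonoidHom.snd C S).ker
  let _ : Fintype N := Fintype.ofFinite N
  have hψ' : IsCharacter (C × S) (fun p => ψ (ι p)) := isCharacter_comp_hom ι hψ
  have hβ' : IsCharacter (C × S) (fun p => β p.1) := isCharacter_comp_hom (MonoidHom.fst C S) hβ
  have hη := eta_isCharacter N hψ' hβ'
  have h2 := isCharacter_comp_hom (MonoidHom.inr C S) hη
  have h3 : (fun t : S => (Nat.card C : ℂ)⁻¹ * ∑ c : C, ψ ((c : Γ) * t) * conj (β c)) =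
      fun t : S => Cfsg.Agent.S0868.eta N (fun p => ψ (ι p)) (fun p => β p.1)
        (MonoidHom.inr C S t) := by
    funext t
    unfold Cfsg.Agent.S0868.eta
    let e : C ≃ N :=
      { toFun := fun c => ⟨(c, 1), MonoidHom.mem_ker.mpr rfl⟩
        invFun := fun n => n.1.1
        left_inv := fun c => rfl
        right_inv := fun n => by
          have h : (MonoidHom.snd C S) n.1 = 1 := MonoidHom.mem_ker.mp n.2
          apply Subtype.ext
          apply Prod.ext
          · rfl
          · exact h.symm }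
    have hcard : Nat.card N = Nat.card C := Nat.card_congr e.symm
    rw [hcard]
    congr 1
    rw [← Equiv.sum_comp e]
    apply Finset.sum_congr rfl
    intro c _
    have h4 : ((e c : N) : C × S) * MonoidHom.inr C S t = (c, t) := by
      apply Prod.ext
      · show c * 1 = c
        rw [mul_one]
      · show (1 : S) * t = t
        rw [one_mul]
    rw [h4]
    rfl
  rw [h3]
  exact h2

section galois

theorem det_twistRep {G : Type*} [Group G] {m : ℕ} (τ : ℂ →+* ℂ)
    (ρ : Representation ℂ G (Fin m → ℂ)) (g : G) :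
    LinearMap.det (Helper80.twistRep τ ρ g) = τ (LinearMap.det (ρ g)) := by
  have h1 : Helper80.twistRep τ ρ g = Matrix.toLin' ((LinearMap.toMatrix' (ρ g)).map τ) := rfl
  have h2 : ρ g = Matrix.toLin' (LinearMap.toMatrix' (ρ g)) := by rw [Matrix.toLin'_toMatrix']
  rw [h1, LinearMap.det_toLin']
  conv_rhs => rw [h2, LinearMap.det_toLin']
  exact (RingHom.map_det τ _).symm

/-- Galois conjugation `χ ↦ χ(· ^ k)` (for `k` prime to the group order) preserves irreducibility
and does not increase the determinantal order. -/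
theorem galois_twist {G : Type*} [Group G] [Fintype G] (k : ℕ)
    (hk : Nat.Coprime k (Nat.card G)) (χ : G → ℂ) (hχ : IsIrrCharacter G χ) :
    IsIrrCharacter G (fun g => χ (g ^ k)) ∧ detOrder (fun g => χ (g ^ k)) ∣ detOrder χ := by
  refine ⟨Helper80.isIrrCharacter_pow_coprime k hk ⟨χ, hχ⟩, ?_⟩
  obtain ⟨m, ρ, hρ, hχρ⟩ := hχ
  have hn : 0 < Nat.card G := Nat.card_pos
  have hζ := Complex.isPrimitiveRoot_exp (Nat.card G) hn.ne'
  obtain ⟨τ, hτ⟩ := Helper80.exists_ringEquiv_pow (Nat.card G) k hn hk _ hζ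
  have hτχ : ∀ g : G, τ (χ g) = χ (g ^ k) := by
    intro g
    obtain ⟨mult, hm⟩ := Helper80.character_pow_eq ρ g (Nat.card G) hn (pow_card_eq_one') _ hζ
    have h1 := hm 1
    have hk' := hm k
    rw [pow_one] at h1
    rw [← hχρ, h1, hk', map_sum]
    refine Finset.sum_congr rfl fun j _ => ?_
    rw [map_mul, map_natCast, pow_one, map_pow, hτ]
    ring
  have h2 : (fun g => χ (g ^ k)) = (Helper80.twistRep (τ : ℂ →+* ℂ) ρ).character := by
    funext g
    rw [Helper80.twistRep_character, hχρ]
    exact (hτχ g).symm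
  have h3 : ∀ g, detChar (fun g => χ (g ^ k)) g = τ (detChar χ g) := by
    intro g
    rw [h2, Helper20.detChar_eq, det_twistRep, ← hχρ, Helper20.detChar_eq]
    rfl
  unfold detOrder
  apply orderOf_dvd_of_pow_eq_one
  funext g
  rw [Pi.pow_apply, h3, ← map_pow, ← Pi.pow_apply, pow_orderOf_eq_one]
  simp

end galois

end Cfsg.Agent.Lib.Helper83
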