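import Mathlib
import Cfsg.Agent.S1496

/-!
Group-theoretic part of the Glauberman correspondence for a cyclic operator group:
`G` normal in `Γ = G⟨s⟩`, orders of `G` and `s` coprime, `C = C_G(s)`.

* `GSetup.conj_mem_C` : a `G`-conjugation between elements of `C s` is by an element of `C`;
* `GSetup.conj_in_C` : elements of `C` conjugate in `G` are conjugate in `C`;
* `GSetup.exists_conj_mem_C` : every `s`-stable class of `G` meets `C`;
* `GSetup.coset_sum` : `|C| Σ_{g ∈ G} F(g s) = |G| Σ_{c ∈ C} F(c s)` for class functions `F`;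
* `GSetup.card_fixed_classes` : the number of `s`-stable classes of `G` is the class number of `C`.
-/

set_option autoImplicit false

namespace Cfsg.Agent.Lib.Helper83

/-- `G` is normal in `Γ = G⟨s⟩`, `|G|` is coprime to the order of `s`, and `C = C_G(s)`. -/
structure GSetup {Γ : Type*} [Group Γ] (G C : Subgroup Γ) (s : Γ) : Prop where
  normal : G.Normal
  cop : (Nat.card G).Coprime (orderOf s)
  top : G ⊔ Subgroup.zpowers s = ⊤
  memC : ∀ x : Γ, x ∈ C ↔ x ∈ G ∧ x * s = s * x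

/-- conjugation by `s` on the normal subgroup `G` -/
noncomputable def sAut {Γ : Type*} [Group Γ] (G : Subgroup Γ) [G.Normal] (s : Γ) : G ≃* G :=
  MulAut.conjNormal s

theorem sAut_apply {Γ : Type*} [Group Γ] (G : Subgroup Γ) [G.Normal] (s : Γ) (g : G) :
    ((sAut G s g : G) : Γ) = s * g * s⁻¹ := rfl

namespace GSetup

variable {Γ : Type*} [Group Γ] [Finite Γ] {G C : Subgroup Γ} {s : Γ}

omit [Finite Γ] in
theorem le (h : GSetup G C s) : C ≤ G := fun x hx => ((h.memC x).mp hx).1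

omit [Finite Γ] in
theorem comm (h : GSetup G C s) {c : Γ} (hc : c ∈ C) : c * s = s * c := ((h.memC c).mp hc).2

omit [Finite Γ] in
theorem one_memC (_h : GSetup G C s) : (1 : Γ) ∈ C := C.one_mem

omit [Finite Γ] in
theorem index_eq (h : GSetup G C s) : G.index = orderOf s := by
  have := h.normal
  have h1 : G ⊓ Subgroup.zpowers s = ⊥ :=
    (Subgroup.disjoint_of_coprime_natCard (by rw [Nat.card_zpowers]; exact h.cop)).eq_bot
  rw [← Subgroup.relIndex_top_right, ← h.top, sup_comm, Subgroup.relIndex_sup_right,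
    ← Subgroup.inf_relIndex_right, h1, Subgroup.relIndex_bot_left, Nat.card_zpowers]

omit [Finite Γ] in
theorem card_eq (h : GSetup G C s) : Nat.card Γ = Nat.card G * orderOf s := by
  rw [← h.index_eq, Subgroup.card_mul_index]

omit [Finite Γ] in
/-- an exponent killing `G` and fixing `s` -/
theorem exists_exp (h : GSetup G C s) : ∃ a : ℕ, s ^ a = s ∧ ∀ g ∈ G, g ^ a = 1 := by
  obtain ⟨m, hm⟩ := exists_pow_eq_self_of_coprime h.cop
  refine ⟨Nat.card G * m, ?_, ?_⟩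
  · rw [pow_mul]
    exact hm
  · intro g hg
    rw [pow_mul]
    have h1 : (⟨g, hg⟩ : G) ^ Nat.card G = 1 := pow_card_eq_one'
    have h2 : g ^ Nat.card G = 1 := by
      have h3 : ((⟨g, hg⟩ : G) : Γ) ^ Nat.card G = 1 := by
        rw [← Subgroup.coe_pow, h1, Subgroup.coe_one]
      exact h3
    rw [h2, one_pow]

omit [Finite Γ] in
/-- a `G`-conjugation between two elements of `C s` is a conjugation by an element of `C` -/
theorem conj_mem_C (h : GSetup G C s) {y c c' : Γ} (hy : y ∈ G) (hc : c ∈ C) (hc' : c' ∈ C)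
    (hyc : y * (c * s) * y⁻¹ = c' * s) : y ∈ C ∧ y * c * y⁻¹ = c' := by
  obtain ⟨a, ha, hG⟩ := h.exists_exp
  have h1 : ∀ d ∈ C, (d * s) ^ a = s := by
    intro d hd
    have hcomm : Commute d s := h.comm hd
    rw [hcomm.mul_pow, hG d (h.le hd), ha, one_mul]
  have h2 : y * s * y⁻¹ = s := by
    have h3 := congrArg (· ^ a) hyc
    simp only [conj_pow, h1 c hc, h1 c' hc'] at h3
    exact h3
  have h3 : y * s = s * y := by
    calc y * s = (y * s * y⁻¹) * y := by group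
      _ = s * y := by rw [h2]
  refine ⟨(h.memC y).mpr ⟨hy, h3⟩, ?_⟩
  have h4 : y * c * y⁻¹ * s = c' * s := by
    calc y * c * y⁻¹ * s = y * c * y⁻¹ * (y * s * y⁻¹) := by rw [h2]
      _ = y * (c * s) * y⁻¹ := by group
      _ = c' * s := hyc
  exact mul_right_cancel h4

/-- elements of `C` that are conjugate in `G` are conjugate in `C` -/
theorem conj_in_C (h : GSetup G C s) {x c c' : Γ} (hx : x ∈ G) (hc : c ∈ C) (hc' : c' ∈ C)
    (hxc : x * c * x⁻¹ = c') : ∃ y ∈ C, y * c * y⁻¹ = c' := by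
  have hn := h.normal
  have hsc : s * c * s⁻¹ = c := by
    rw [← h.comm hc]; group
  have hsc' : s * c' * s⁻¹ = c' := by
    rw [← h.comm hc']; group
  have hsc'' : s⁻¹ * c' * s = c' := by
    rw [mul_assoc, h.comm hc']; group
  let H : Subgroup Γ := G ⊓ Subgroup.centralizer {c'}
  have hmemH : ∀ n : Γ, n ∈ H ↔ n ∈ G ∧ n * c' = c' * n := by
    intro n
    simp only [H, Subgroup.mem_inf, Subgroup.mem_centralizer_iff, Set.mem_singleton_iff,
      forall_eq]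
    constructor
    · rintro ⟨h1, h2⟩
      exact ⟨h1, h2.symm⟩
    · rintro ⟨h1, h2⟩
      exact ⟨h1, h2.symm⟩
  have hsn : s ∈ Subgroup.normalizer (H : Set Γ) := by
    rw [Subgroup.mem_set_normalizer_iff]
    intro n
    show n ∈ H ↔ s * n * s⁻¹ ∈ H
    rw [hmemH, hmemH]
    constructor
    · rintro ⟨h1, h2⟩
      refine ⟨hn.conj_mem n h1 s, ?_⟩
      calc s * n * s⁻¹ * c' = s * n * s⁻¹ * (s * c' * s⁻¹) := by rw [hsc']
        _ = s * (n * c') * s⁻¹ := by group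
        _ = s * (c' * n) * s⁻¹ := by rw [h2]
        _ = (s * c' * s⁻¹) * (s * n * s⁻¹) := by group
        _ = c' * (s * n * s⁻¹) := by rw [hsc']
    · rintro ⟨h1, h2⟩
      have h3 : n = s⁻¹ * (s * n * s⁻¹) * s⁻¹⁻¹ := by group
      refine ⟨by rw [h3]; exact hn.conj_mem _ h1 s⁻¹, ?_⟩
      calc n * c' = s⁻¹ * (s * n * s⁻¹ * c') * s := by
            conv_lhs => rw [← hsc'']
            group
        _ = s⁻¹ * (c' * (s * n * s⁻¹)) * s := by rw [h2]
        _ = (s⁻¹ * c' * s) * n := by group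
        _ = c' * n := by rw [hsc'']
  have hcopH : Nat.Coprime (orderOf s) (Nat.card H) := by
    have hdvd : Nat.card H ∣ Nat.card G := Subgroup.card_dvd_of_le inf_le_left
    exact Nat.Coprime.coprime_dvd_right hdvd h.cop.symm
  -- the commutator `[s, x]` lies in `H`
  have hxc' : x⁻¹ * c' * x = c := by
    rw [← hxc]; group
  have hh : (s * x * s⁻¹ * x⁻¹)⁻¹ ∈ H := by
    apply H.inv_mem
    rw [hmemH]
    refine ⟨G.mul_mem (hn.conj_mem x hx s) (G.inv_mem hx), ?_⟩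
    calc s * x * s⁻¹ * x⁻¹ * c' = s * x * s⁻¹ * (x⁻¹ * c' * x) * x⁻¹ := by group
      _ = s * x * s⁻¹ * (s * c * s⁻¹) * x⁻¹ := by rw [hxc', hsc]
      _ = s * (x * c * x⁻¹) * x * s⁻¹ * x⁻¹ := by group
      _ = s * c' * x * s⁻¹ * x⁻¹ := by rw [hxc]
      _ = (s * c' * s⁻¹) * (s * x * s⁻¹ * x⁻¹) := by group
      _ = c' * (s * x * s⁻¹ * x⁻¹) := by rw [hsc']
  obtain ⟨z, hz, d, hd, hds, hzd⟩ := Cfsg.Agent.S1496.result H s hsn hcopH _ hh
  have hzH := (hmemH z).mp hz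
  have hdH := (hmemH d).mp hd
  have hdC : d ∈ C := (h.memC d).mpr ⟨hdH.1, hds⟩
  have h5 : (z * x) * (1 * s) * (z * x)⁻¹ = d * s := by
    rw [← hzd]
    group
  obtain ⟨hyC, -⟩ := h.conj_mem_C (G.mul_mem hzH.1 hx) h.one_memC hdC h5
  refine ⟨z * x, hyC, ?_⟩
  calc z * x * c * (z * x)⁻¹ = z * (x * c * x⁻¹) * z⁻¹ := by group
    _ = z * c' * z⁻¹ := by rw [hxc]
    _ = c' * z * z⁻¹ := by rw [hzH.2]
    _ = c' := by group

/-- every class of `G` stable under `s` meets `C` -/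
theorem exists_conj_mem_C (h : GSetup G C s) {g x : Γ} (hg : g ∈ G) (hx : x ∈ G)
    (hsg : s * g * s⁻¹ = x * g * x⁻¹) : ∃ z ∈ G, z * g * z⁻¹ ∈ C := by
  have hn := h.normal
  have hsn : s ∈ Subgroup.normalizer (G : Set Γ) := by
    rw [Subgroup.normalizer_eq_top]
    trivial
  obtain ⟨z, hz, c₁, hc₁, hcomm, hzc⟩ :=
    Cfsg.Agent.S1496.result G s hsn h.cop.symm x⁻¹ (G.inv_mem hx)
  refine ⟨z, hz, (h.memC _).mpr ⟨hn.conj_mem g hg z, ?_⟩⟩
  obtain ⟨a, ha, hG⟩ := h.exists_exp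
  have h1 : (c₁ * s) ^ a = s := by
    rw [(show Commute c₁ s from hcomm).mul_pow, hG c₁ hc₁, ha, one_mul]
  have h3 : x⁻¹ * s * g = g * x⁻¹ * s := by
    have h4 : s * g = x * g * x⁻¹ * s := by
      rw [← hsg]; group
    calc x⁻¹ * s * g = x⁻¹ * (s * g) := by group
      _ = x⁻¹ * (x * g * x⁻¹ * s) := by rw [h4]
      _ = g * x⁻¹ * s := by group
  have h2 : (c₁ * s) * (z * g * z⁻¹) = (z * g * z⁻¹) * (c₁ * s) := by
    rw [← hzc]
    calc z * (x⁻¹ * s) * z⁻¹ * (z * g * z⁻¹) = z * (x⁻¹ * s * g) * z⁻¹ := by group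
      _ = z * (g * x⁻¹ * s) * z⁻¹ := by rw [h3]
      _ = z * g * z⁻¹ * (z * (x⁻¹ * s) * z⁻¹) := by group
  have h4 : Commute (c₁ * s) (z * g * z⁻¹) := h2
  have h5 := h4.pow_left a
  rw [h1] at h5
  exact h5.eq.symm

/-- transfer of a sum over the coset `G s` to a sum over `C s` -/
theorem coset_sum (h : GSetup G C s) [Fintype G] [Fintype C] (F : Γ → ℂ)
    (hF : ∀ x ∈ G, ∀ y : Γ, F (x * y * x⁻¹) = F y) :
    (Nat.card C : ℂ) * ∑ g : G, F ((g : Γ) * s) =
      (Nat.card G : ℂ) * ∑ c : C, F ((c : Γ) * s) := by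
  classical
  have hn := h.normal
  have hsn : s ∈ Subgroup.normalizer (G : Set Γ) := by
    rw [Subgroup.normalizer_eq_top]
    trivial
  have hmem : ∀ p : G × C, (p.1 : Γ) * ((p.2 : Γ) * s) * (p.1 : Γ)⁻¹ * s⁻¹ ∈ G := by
    intro p
    have h1 : (p.1 : Γ) * ((p.2 : Γ) * s) * (p.1 : Γ)⁻¹ * s⁻¹ =
        (p.1 : Γ) * (p.2 : Γ) * (s * (p.1 : Γ)⁻¹ * s⁻¹) := by group
    rw [h1]
    exact G.mul_mem (G.mul_mem p.1.2 (h.le p.2.2)) (hn.conj_mem _ (G.inv_mem p.1.2) s)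
  let φ : G × C → G := fun p => ⟨_, hmem p⟩
  have hφ : ∀ p : G × C, ((φ p : G) : Γ) * s = (p.1 : Γ) * ((p.2 : Γ) * s) * (p.1 : Γ)⁻¹ := by
    intro p
    show (p.1 : Γ) * ((p.2 : Γ) * s) * (p.1 : Γ)⁻¹ * s⁻¹ * s = _
    group
  have h1 : ∑ p : G × C, F (((φ p : G) : Γ) * s) =
      (Nat.card G : ℂ) * ∑ c : C, F ((c : Γ) * s) := by
    rw [Fintype.sum_prod_type]
    have h5 : ∀ x : G, ∑ c : C, F (((φ (x, c) : G) : Γ) * s) = ∑ c : C, F ((c : Γ) * s) := by
      intro x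
      apply Finset.sum_congr rfl
      intro c _
      rw [hφ]
      exact hF x x.2 _
    rw [Finset.sum_congr rfl (fun x _ => h5 x), Finset.sum_const, Finset.card_univ,
      nsmul_eq_mul, Nat.card_eq_fintype_card]
  have hfib : ∀ g : G, (Finset.univ.filter (fun p : G × C => φ p = g)).card = Nat.card C := by
    intro g
    obtain ⟨x, hx, c, hc, hcomm, hxc⟩ :=
      Cfsg.Agent.S1496.result G s hsn h.cop.symm (g : Γ) g.2
    have hcC : c ∈ C := (h.memC c).mpr ⟨hc, hcomm⟩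
    let ψ : C → G × C := fun y =>
      (⟨x⁻¹ * (y : Γ)⁻¹, G.mul_mem (G.inv_mem hx) (h.le (C.inv_mem y.2))⟩,
        ⟨(y : Γ) * c * (y : Γ)⁻¹, C.mul_mem (C.mul_mem y.2 hcC) (C.inv_mem y.2)⟩)
    have hψinj : Function.Injective ψ := by
      intro y y' hyy'
      have h2 : x⁻¹ * (y : Γ)⁻¹ = x⁻¹ * (y' : Γ)⁻¹ :=
        congrArg (fun p : G × C => ((p.1 : G) : Γ)) hyy'
      exact Subtype.ext (inv_injective (mul_left_cancel h2))
    have himg : Finset.univ.filter (fun p : G × C => φ p = g) = Finset.univ.image ψ := by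
      ext p
      simp only [Finset.mem_filter, Finset.mem_univ, true_and, Finset.mem_image]
      constructor
      · intro hp
        have h2 : (p.1 : Γ) * ((p.2 : Γ) * s) * (p.1 : Γ)⁻¹ = x⁻¹ * (c * s) * x := by
          rw [← hφ p, hp, ← hxc]
          group
        have h3 : ((p.1 : Γ)⁻¹ * x⁻¹) * (c * s) * ((p.1 : Γ)⁻¹ * x⁻¹)⁻¹ = (p.2 : Γ) * s := by
          calc ((p.1 : Γ)⁻¹ * x⁻¹) * (c * s) * ((p.1 : Γ)⁻¹ * x⁻¹)⁻¹
              = (p.1 : Γ)⁻¹ * (x⁻¹ * (c * s) * x) * (p.1 : Γ) := by group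
            _ = (p.1 : Γ)⁻¹ * ((p.1 : Γ) * ((p.2 : Γ) * s) * (p.1 : Γ)⁻¹) * (p.1 : Γ) := by
                rw [h2]
            _ = (p.2 : Γ) * s := by group
        obtain ⟨hyC, hyc⟩ :=
          h.conj_mem_C (G.mul_mem (G.inv_mem p.1.2) (G.inv_mem hx)) hcC p.2.2 h3
        refine ⟨⟨_, hyC⟩, ?_⟩
        apply Prod.ext
        · apply Subtype.ext
          show x⁻¹ * ((p.1 : Γ)⁻¹ * x⁻¹)⁻¹ = (p.1 : Γ)
          group
        · apply Subtype.ext
          show ((p.1 : Γ)⁻¹ * x⁻¹) * c * ((p.1 : Γ)⁻¹ * x⁻¹)⁻¹ = (p.2 : Γ)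
          exact hyc
      · rintro ⟨y, rfl⟩
        apply Subtype.ext
        apply mul_right_cancel (b := s)
        rw [hφ]
        show x⁻¹ * (y : Γ)⁻¹ * ((y : Γ) * c * (y : Γ)⁻¹ * s) * (x⁻¹ * (y : Γ)⁻¹)⁻¹ = (g : Γ) * s
        have hy := h.comm y.2
        have h4 : (y : Γ)⁻¹ * s * (y : Γ) = s := by
          calc (y : Γ)⁻¹ * s * (y : Γ) = (y : Γ)⁻¹ * (s * (y : Γ)) := by group
            _ = (y : Γ)⁻¹ * ((y : Γ) * s) := by rw [hy]
            _ = s := by group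
        calc x⁻¹ * (y : Γ)⁻¹ * ((y : Γ) * c * (y : Γ)⁻¹ * s) * (x⁻¹ * (y : Γ)⁻¹)⁻¹
            = x⁻¹ * c * ((y : Γ)⁻¹ * s * (y : Γ)) * x := by group
          _ = x⁻¹ * (c * s) * x := by rw [h4]; group
          _ = x⁻¹ * (x * ((g : Γ) * s) * x⁻¹) * x := by rw [hxc]
          _ = (g : Γ) * s := by group
    rw [himg, Finset.card_image_of_injective _ hψinj, Finset.card_univ, Nat.card_eq_fintype_card]
  have h2 : ∑ p : G × C, F (((φ p : G) : Γ) * s) =
      (Nat.card C : ℂ) * ∑ g : G, F ((g : Γ) * s) := by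
    rw [← Finset.sum_fiberwise' Finset.univ φ (fun g : G => F ((g : Γ) * s)), Finset.mul_sum]
    apply Finset.sum_congr rfl
    intro g _
    rw [Finset.sum_const, nsmul_eq_mul, hfib]
  rw [← h2, h1]

/-- the classes of `G` stable under `s` correspond to the classes of `C` -/
theorem card_fixed_classes [G.Normal] (h : GSetup G C s) :
    Nat.card {K : ConjClasses G // ConjClasses.map (sAut G s).toMonoidHom K = K} =
      Nat.card (ConjClasses C) := by
  symm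
  let incl : C →* G := Subgroup.inclusion h.le
  have hfix : ∀ c : C, sAut G s (incl c) = incl c := by
    intro c
    apply Subtype.ext
    show s * (c : Γ) * s⁻¹ = c
    rw [← h.comm c.2]
    group
  have hj : ∀ k : ConjClasses C,
      ConjClasses.map (sAut G s).toMonoidHom (ConjClasses.map incl k) = ConjClasses.map incl k := by
    intro k
    obtain ⟨c, rfl⟩ := ConjClasses.exists_rep k
    show ConjClasses.mk (sAut G s (incl c)) = ConjClasses.mk (incl c)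
    rw [hfix]
  let j : ConjClasses C →
      {K : ConjClasses G // ConjClasses.map (sAut G s).toMonoidHom K = K} :=
    fun k => ⟨ConjClasses.map incl k, hj k⟩
  apply Nat.card_eq_of_bijective j
  constructor
  · intro k k' hkk'
    obtain ⟨c, rfl⟩ := ConjClasses.exists_rep k
    obtain ⟨c', rfl⟩ := ConjClasses.exists_rep k'
    have h1 : ConjClasses.mk (incl c) = ConjClasses.mk (incl c') := congrArg Subtype.val hkk'
    rw [ConjClasses.mk_eq_mk_iff_isConj, isConj_iff] at h1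
    obtain ⟨x, hx⟩ := h1
    have h2 : (x : Γ) * (c : Γ) * (x : Γ)⁻¹ = (c' : Γ) := congrArg (Subtype.val : G → Γ) hx
    obtain ⟨y, hy, hyc⟩ := h.conj_in_C x.2 c.2 c'.2 h2
    rw [ConjClasses.mk_eq_mk_iff_isConj, isConj_iff]
    exact ⟨⟨y, hy⟩, Subtype.ext hyc⟩
  · rintro ⟨K, hK⟩
    obtain ⟨g, rfl⟩ := ConjClasses.exists_rep K
    have h1 : ConjClasses.mk (sAut G s g) = ConjClasses.mk g := hK
    rw [ConjClasses.mk_eq_mk_iff_isConj, isConj_iff] at h1
    obtain ⟨x, hx⟩ := h1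
    have h2 : (x : Γ) * (s * (g : Γ) * s⁻¹) * (x : Γ)⁻¹ = (g : Γ) :=
      congrArg (Subtype.val : G → Γ) hx
    have h3 : s * (g : Γ) * s⁻¹ = (x : Γ)⁻¹ * (g : Γ) * (x : Γ)⁻¹⁻¹ := by
      calc s * (g : Γ) * s⁻¹
          = (x : Γ)⁻¹ * ((x : Γ) * (s * (g : Γ) * s⁻¹) * (x : Γ)⁻¹) * (x : Γ)⁻¹⁻¹ := by group
        _ = (x : Γ)⁻¹ * (g : Γ) * (x : Γ)⁻¹⁻¹ := by rw [h2]
    obtain ⟨z, hz, hzC⟩ := h.exists_conj_mem_C g.2 (G.inv_mem x.2) h3
    refine ⟨ConjClasses.mk ⟨z * (g : Γ) * z⁻¹, hzC⟩, ?_⟩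
    apply Subtype.ext
    show ConjClasses.mk (incl ⟨z * (g : Γ) * z⁻¹, hzC⟩) = ConjClasses.mk g
    rw [ConjClasses.mk_eq_mk_iff_isConj, isConj_comm, isConj_iff]
    exact ⟨⟨z, hz⟩, Subtype.ext rfl⟩

end GSetup

end Cfsg.Agent.Lib.Helper83
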