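import Mathlib
import Cfsg.Agent.Lib.Helper83.Glaub1
import Cfsg.Agent.Lib.Helper83.Glaub2
import Cfsg.Agent.Lib.Helper83.Count
import Cfsg.Agent.Lib.Helper83.Codeg
import Cfsg.Agent.Lib.Helper85.Burnside
import Cfsg.Agent.S0867
import Cfsg.Agent.S0173

/-!
The Glauberman correspondence for a cyclic operator group (Isaacs, Theorem 13.6), in the
setting `GSetup G C s` of `Glaub2`:

* `GSetup.canonical` : the canonical extension of an invariant irreducible character of `G`;
* `GSetup.gal_pow` : the canonical extension takes the same value on `c s` and `c s ^ k`;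
* `GSetup.key_exists` : `χ̂(c s') = ε β(c)` for all generators `s'`;
* `GSetup.key_inner`, `GSetup.key_inj`, `GSetup.key_surj`.
-/

set_option autoImplicit false

namespace Cfsg.Agent.Lib.Helper83

open Cfsg
open scoped ComplexConjugate

theorem detOrder_dvd_card {G : Type*} [Group G] [Finite G] (χ : G → ℂ) :
    detOrder χ ∣ Nat.card G := by
  unfold detOrder
  apply orderOf_dvd_of_pow_eq_one
  obtain ⟨f, hf⟩ := Helper20.exists_detHom χ
  funext g
  rw [Pi.pow_apply, ← hf, ← Units.val_pow_eq_pow_val, ← map_pow, pow_card_eq_one', map_one]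
  rfl

/-- generators of a finite cyclic group are coprime powers of each other -/
theorem exists_pow_of_zpowers_eq {Γ : Type*} [Group Γ] [Finite Γ] {s s' : Γ}
    (hs : Subgroup.zpowers s' = Subgroup.zpowers s) :
    ∃ k : ℕ, k.Coprime (orderOf s) ∧ s ^ k = s' := by
  have h1 : s' ∈ Subgroup.zpowers s := by
    rw [← hs]
    exact Subgroup.mem_zpowers s'
  rw [← mem_powers_iff_mem_zpowers, Submonoid.mem_powers_iff] at h1
  obtain ⟨k, rfl⟩ := h1
  refine ⟨k, ?_, rfl⟩
  have h2 : orderOf (s ^ k) = orderOf s := by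
    rw [← Nat.card_zpowers, hs, Nat.card_zpowers]
  rw [orderOf_pow] at h2
  have hpos : 0 < orderOf s := orderOf_pos s
  have hdvd : Nat.gcd (orderOf s) k ∣ orderOf s := Nat.gcd_dvd_left _ _
  have h3 := Nat.div_mul_cancel hdvd
  rw [h2] at h3
  have h4 : Nat.gcd (orderOf s) k = 1 := by
    have h5 : orderOf s * Nat.gcd (orderOf s) k = orderOf s * 1 := by rw [h3, mul_one]
    exact Nat.eq_of_mul_eq_mul_left hpos h5
  exact Nat.Coprime.symm h4

/-- the coprime cyclic setting obtained from the hypotheses in subgroup form -/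
theorem gsetup_of {Γ : Type*} [Group Γ] (G S C : Subgroup Γ)
    (hnorm : ∀ s ∈ S, ∀ g ∈ G, s * g * s⁻¹ ∈ G)
    (hcop : (Nat.card G).Coprime (Nat.card S)) (htop : G ⊔ S = ⊤)
    (hC : C = G ⊓ Subgroup.centralizer (S : Set Γ)) (s : Γ) (hs : Subgroup.zpowers s = S) :
    GSetup G C s := by
  subst hs
  refine ⟨?_, ?_, htop, ?_⟩
  · have h1 : G ≤ Subgroup.normalizer (G : Set Γ) := Subgroup.le_normalizer
    have h2 : Subgroup.zpowers s ≤ Subgroup.normalizer (G : Set Γ) := by
      intro t ht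
      rw [Subgroup.mem_set_normalizer_iff]
      intro g
      constructor
      · exact hnorm t ht g
      · intro hg
        have h3 := hnorm t⁻¹ (inv_mem ht) _ hg
        have e : t⁻¹ * (t * g * t⁻¹) * t⁻¹⁻¹ = g := by group
        rwa [e] at h3
    have h3 : Subgroup.normalizer (G : Set Γ) = ⊤ := by
      rw [eq_top_iff, ← htop]
      exact sup_le h1 h2
    exact Subgroup.normalizer_eq_top_iff.mp h3
  · rw [← Nat.card_zpowers]
    exact hcop
  · intro x
    rw [hC, Subgroup.mem_inf, Subgroup.mem_centralizer_iff]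
    constructor
    · rintro ⟨h1, h2⟩
      exact ⟨h1, (h2 s (Subgroup.mem_zpowers s)).symm⟩
    · rintro ⟨h1, h2⟩
      refine ⟨h1, ?_⟩
      intro t ht
      obtain ⟨i, rfl⟩ := Subgroup.mem_zpowers_iff.mp ht
      exact ((Commute.zpow_right (show Commute x s from h2) i).eq).symm

namespace GSetup

variable {Γ : Type*} [Group Γ] [Fintype Γ] {G C : Subgroup Γ} {s : Γ}

omit [Fintype Γ] in
theorem pow_card_G (_h : GSetup G C s) {g : Γ} (hg : g ∈ G) : g ^ Nat.card G = 1 := by
  have h1 : (⟨g, hg⟩ : G) ^ Nat.card G = 1 := pow_card_eq_one'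
  have h3 : ((⟨g, hg⟩ : G) : Γ) ^ Nat.card G = 1 := by
    rw [← Subgroup.coe_pow, h1, Subgroup.coe_one]
  exact h3

/-- the canonical extension of an invariant irreducible character of `G` -/
theorem canonical [hN : G.Normal] (h : GSetup G C s) (ϑ : G → ℂ) (hϑ : IsIrrCharacter G ϑ)
    (hinv : ∀ (x : Γ) (g : G), ϑ ⟨x * g * x⁻¹, hN.conj_mem (g : Γ) g.2 x⟩ = ϑ g) :
    ∃ χ : Γ → ℂ, (IsIrrCharacter Γ χ ∧ (∀ g : G, χ g = ϑ g) ∧
        (detOrder χ).Coprime (orderOf s)) ∧
      ∀ χ' : Γ → ℂ, IsIrrCharacter Γ χ' → (∀ g : G, χ' g = ϑ g) →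
        (detOrder χ').Coprime (orderOf s) → χ' = χ := by
  obtain ⟨-, hd⟩ := irr_degree hϑ
  have hcop : Nat.Coprime G.index (detOrder ϑ * charDegree ϑ) := by
    rw [h.index_eq]
    apply Nat.Coprime.mul_right
    · exact Nat.Coprime.coprime_dvd_right (detOrder_dvd_card ϑ) h.cop.symm
    · exact Nat.Coprime.coprime_dvd_right (irr_degree_dvd_card' hϑ) h.cop.symm
  obtain ⟨χ, ⟨hχ, hχG, hdet⟩, huniq⟩ :=
    Cfsg.Agent.S0867.result G ϑ hϑ hinv (charDegree ϑ) hd hcop
  refine ⟨χ, ⟨hχ, hχG, ?_⟩, ?_⟩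
  · rw [hdet]
    exact Nat.Coprime.coprime_dvd_left (detOrder_dvd_card ϑ) h.cop
  · intro χ' hχ' hχ'G hcop'
    exact huniq χ' hχ' hχ'G (by rw [h.index_eq]; exact hcop'.symm)

/-- the canonical extension is invariant under the Galois automorphisms fixing `|G|`-th roots of
unity, hence takes the same value on `c s` and `c s ^ k` -/
theorem gal_pow (h : GSetup G C s) {χh : Γ → ℂ} (hχh : IsIrrCharacter Γ χh)
    (hres : IsIrrCharacter G (fun g : G => χh g)) (hdet : (detOrder χh).Coprime (orderOf s))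
    (k : ℕ) (hk : k.Coprime (orderOf s)) {c : Γ} (hc : c ∈ C) :
    χh (c * s ^ k) = χh (c * s) := by
  have hN := h.normal
  obtain ⟨k', hk'1, hk'2⟩ := Nat.chineseRemainder h.cop 1 k
  have hcopΓ : k'.Coprime (Nat.card Γ) := by
    rw [h.card_eq]
    apply Nat.Coprime.mul_right
    · have h1 := hk'1.gcd_eq
      unfold Nat.Coprime
      rw [h1]
      exact Nat.gcd_one_left _
    · have h1 := hk'2.gcd_eq
      unfold Nat.Coprime
      rw [h1]
      exact hk
  obtain ⟨hirr2, hdet2⟩ := galois_twist k' hcopΓ χh hχh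
  have hpowG : ∀ g ∈ G, g ^ k' = g := by
    intro g hg
    have h1 : k' ≡ 1 [MOD orderOf g] :=
      hk'1.of_dvd (orderOf_dvd_of_pow_eq_one (h.pow_card_G hg))
    have h2 := pow_eq_pow_iff_modEq.mpr h1
    rw [h2, pow_one]
  have hpows : s ^ k' = s ^ k := pow_eq_pow_iff_modEq.mpr hk'2
  have hinv : ∀ (x : Γ) (g : G),
      (fun g : G => χh g) ⟨x * g * x⁻¹, hN.conj_mem (g : Γ) g.2 x⟩ = (fun g : G => χh g) g := by
    intro x g
    exact irr_classFunction hχh g x
  obtain ⟨χ₀, -, huniq⟩ := h.canonical _ hres hinv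
  have e1 : χh = χ₀ := huniq χh hχh (fun g => rfl) hdet
  have e2 : (fun x => χh (x ^ k')) = χ₀ :=
    huniq _ hirr2 (fun g => by
      show χh ((g : Γ) ^ k') = χh g
      rw [hpowG g g.2]) (Nat.Coprime.coprime_dvd_left hdet2 hdet)
  have e3 : χh ((c * s) ^ k') = χh (c * s) := congrFun (e2.trans e1.symm) (c * s)
  rw [← e3, (show Commute c s from h.comm hc).mul_pow, hpowG c (h.le hc), hpows]

/-- the coefficient of `β` in `c ↦ χ(c t)` is a character of `⟨s⟩` in the variable `t` -/
theorem coef_char (h : GSetup G C s) [Fintype C] {χh : Γ → ℂ} (hχh : IsCharacter Γ χh)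
    (β : C → ℂ) (hβ : IsCharacter C β) :
    IsCharacter (Subgroup.zpowers s) (fun t : Subgroup.zpowers s =>
      (Nat.card C : ℂ)⁻¹ * ∑ c : C, χh ((c : Γ) * t) * conj (β c)) := by
  apply cross_isCharacter C (Subgroup.zpowers s) _ hχh hβ
  intro c hc t ht
  obtain ⟨i, rfl⟩ := Subgroup.mem_zpowers_iff.mp ht
  exact (Commute.zpow_right (show Commute c s from h.comm hc) i).eq

theorem coef_dichotomy (h : GSetup G C s) [Fintype C] {χh : Γ → ℂ}
    (hχh : IsIrrCharacter Γ χh) (hres : IsIrrCharacter G (fun g : G => χh g))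
    (hdet : (detOrder χh).Coprime (orderOf s)) {β : C → ℂ} (hβ : IsCharacter C β) :
    classInner (fun c : C => χh ((c : Γ) * s)) β = 0 ∨
      (1 ≤ ‖classInner (fun c : C => χh ((c : Γ) * s)) β‖ ∧
        conj (classInner (fun c : C => χh ((c : Γ) * s)) β) =
          classInner (fun c : C => χh ((c : Γ) * s)) β) := by
  classical
  obtain ⟨m, ρ, hρ⟩ := h.coef_char (Helper35.isChar_of_irr hχh) β hβ
  let g₀ : Subgroup.zpowers s := ⟨s, Subgroup.mem_zpowers s⟩
  have hval : ∀ k : ℕ, k.Coprime (orderOf s) →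
      ρ.character (g₀ ^ k) = classInner (fun c : C => χh ((c : Γ) * s)) β := by
    intro k hk
    rw [hρ]
    show (Nat.card C : ℂ)⁻¹ * ∑ c : C,
      χh ((c : Γ) * ((g₀ ^ k : Subgroup.zpowers s) : Γ)) * conj (β c) = _
    unfold classInner
    congr 1
    apply Finset.sum_congr rfl
    intro c _
    rw [Subgroup.coe_pow]
    show χh ((c : Γ) * s ^ k) * conj (β c) = _
    rw [h.gal_pow hχh hres hdet k hk c.2]
  have hval1 : ρ.character g₀ = classInner (fun c : C => χh ((c : Γ) * s)) β := by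
    have h1 := hval 1 (Nat.coprime_one_left _)
    rwa [pow_one] at h1
  by_cases h0 : classInner (fun c : C => χh ((c : Γ) * s)) β = 0
  · left
    exact h0
  · right
    have h1 : ρ.character g₀ ≠ 0 := by
      rw [hval1]
      exact h0
    have h2 := Helper85.prod_norm_char ρ g₀ h1
    rw [Nat.card_zpowers] at h2
    have h3 : ∏ k ∈ Helper85.expSet (orderOf s), ‖ρ.character (g₀ ^ k)‖ =
        ‖classInner (fun c : C => χh ((c : Γ) * s)) β‖ ^ (Helper85.expSet (orderOf s)).card := by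
      rw [Finset.prod_congr rfl (fun k hk => by
        rw [hval k ((Helper85.mem_expSet.mp hk).2.symm)])]
      rw [Finset.prod_const]
    rw [h3] at h2
    constructor
    · by_contra hlt
      push Not at hlt
      have hpos : 0 < (Helper85.expSet (orderOf s)).card :=
        Helper85.card_expSet_pos (orderOf_pos s)
      have h4 := pow_lt_one₀ (norm_nonneg _) hlt hpos.ne'
      linarith
    · have hpos : 1 ≤ orderOf s := orderOf_pos s
      have h4 := hval (orderOf s - 1) ((Nat.coprime_self_sub_left hpos).mpr (Nat.coprime_one_left _))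
      have h5 : g₀ ^ (orderOf s - 1) = g₀⁻¹ := by
        apply eq_inv_of_mul_eq_one_left
        rw [← pow_succ, Nat.sub_add_cancel hpos]
        apply Subtype.ext
        rw [Subgroup.coe_pow]
        exact pow_orderOf_eq_one s
      rw [h5, char_inv, hval1] at h4
      exact h4

/-- **Glauberman correspondence, cyclic case**: the canonical extension on `C s'`. -/
theorem key_exists (h : GSetup G C s) [Fintype G] [Fintype C] {χh : Γ → ℂ}
    (hχh : IsIrrCharacter Γ χh) (hres : IsIrrCharacter G (fun g : G => χh g))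
    (hdet : (detOrder χh).Coprime (orderOf s)) :
    ∃ (β : IrrCharacter C) (ε : ℤ), (ε = 1 ∨ ε = -1) ∧
      ∀ c : C, ∀ s' : Γ, Subgroup.zpowers s' = Subgroup.zpowers s →
        χh ((c : Γ) * s') = (ε : ℂ) * (β : C → ℂ) c := by
  classical
  have hN := h.normal
  have := Helper4.irr_finite (G := C)
  let _ : Fintype (IrrCharacter C) := Fintype.ofFinite _
  have hfcf : IsClassFunction C (fun c : C => χh ((c : Γ) * s)) := by
    intro c y
    show χh (((y * c * y⁻¹ : C) : Γ) * s) = χh ((c : Γ) * s)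
    have h1 : ((y * c * y⁻¹ : C) : Γ) * s = (y : Γ) * ((c : Γ) * s) * (y : Γ)⁻¹ := by
      have hy := h.comm y.2
      simp only [Subgroup.coe_mul, Subgroup.coe_inv]
      calc (y : Γ) * c * (y : Γ)⁻¹ * s
          = (y : Γ) * c * ((y : Γ)⁻¹ * (s * y) * (y : Γ)⁻¹) := by group
        _ = (y : Γ) * c * ((y : Γ)⁻¹ * (y * s) * (y : Γ)⁻¹) := by rw [hy]
        _ = (y : Γ) * (c * s) * (y : Γ)⁻¹ := by group
    rw [h1]
    exact irr_classFunction hχh _ _
  have hexp := Helper4.classFunction_expansion _ hfcf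
  have hG0 : (Nat.card G : ℂ) ≠ 0 := by exact_mod_cast Nat.card_pos.ne'
  have hC0 : (Nat.card C : ℂ) ≠ 0 := by exact_mod_cast Nat.card_pos.ne'
  have hnorm : classInner (fun c : C => χh ((c : Γ) * s)) (fun c : C => χh ((c : Γ) * s)) = 1 := by
    have hF : ∀ x ∈ G, ∀ y : Γ, (fun z => χh z * conj (χh z)) (x * y * x⁻¹) =
        (fun z => χh z * conj (χh z)) y := by
      intro x _ y
      simp only [irr_classFunction hχh y x]
    have h1 := h.coset_sum (fun z => χh z * conj (χh z)) hF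
    have h2 := congrFun (Cfsg.Agent.S0868.eta_self G hχh hres) s
    unfold Cfsg.Agent.S0868.eta at h2
    have h3 : ∑ n : G, χh ((n : Γ) * s) * conj (χh ((n : Γ) * s)) = (Nat.card G : ℂ) := by
      field_simp at h2
      exact h2
    rw [h3] at h1
    unfold classInner
    have h4 : ∑ c : C, χh ((c : Γ) * s) * conj (χh ((c : Γ) * s)) = (Nat.card C : ℂ) := by
      have h5 : (Nat.card G : ℂ) * ∑ c : C, χh ((c : Γ) * s) * conj (χh ((c : Γ) * s)) =
          (Nat.card G : ℂ) * (Nat.card C : ℂ) := by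
        rw [← h1, mul_comm]
      exact mul_left_cancel₀ hG0 h5
    rw [h4, inv_mul_cancel₀ hC0]
  have hsum : ∑ β : IrrCharacter C,
      classInner (fun c : C => χh ((c : Γ) * s)) (β : C → ℂ) *
        conj (classInner (fun c : C => χh ((c : Γ) * s)) (β : C → ℂ)) = 1 := by
    rw [← hnorm]
    conv_rhs => rw [hexp]
    exact (Helper4.classInner_sum_sum_irr _ _).symm
  have hdich : ∀ β : IrrCharacter C,
      classInner (fun c : C => χh ((c : Γ) * s)) (β : C → ℂ) = 0 ∨
      (1 ≤ ‖classInner (fun c : C => χh ((c : Γ) * s)) (β : C → ℂ)‖ ∧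
        conj (classInner (fun c : C => χh ((c : Γ) * s)) (β : C → ℂ)) =
          classInner (fun c : C => χh ((c : Γ) * s)) (β : C → ℂ)) :=
    fun β => h.coef_dichotomy hχh hres hdet (Helper35.isChar_of_irr β.2)
  generalize hadef : (fun β : IrrCharacter C =>
    classInner (fun c : C => χh ((c : Γ) * s)) (β : C → ℂ)) = a at *
  have ha : ∀ β : IrrCharacter C,
      classInner (fun c : C => χh ((c : Γ) * s)) (β : C → ℂ) = a β := fun β => by rw [← hadef]
  simp only [ha] at hsum hdich hexp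
  have hsumR : ∑ β : IrrCharacter C, ‖a β‖ ^ 2 = 1 := by
    have h1 : ((∑ β : IrrCharacter C, ‖a β‖ ^ 2 : ℝ) : ℂ) = 1 := by
      rw [← hsum]
      push_cast
      apply Finset.sum_congr rfl
      intro β _
      rw [Complex.mul_conj']
    exact_mod_cast h1
  have hex : ∃ β₀, a β₀ ≠ 0 := by
    by_contra hcon
    push Not at hcon
    simp [hcon] at hsumR
  obtain ⟨β₀, hβ₀⟩ := hex
  have h1le : 1 ≤ ‖a β₀‖ := ((hdich β₀).resolve_left hβ₀).1
  have hreal : conj (a β₀) = a β₀ := ((hdich β₀).resolve_left hβ₀).2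
  have hothers : ∀ β, β ≠ β₀ → a β = 0 := by
    intro β hne
    by_contra hβ
    have h2 : 1 ≤ ‖a β‖ := ((hdich β).resolve_left hβ).1
    have hle : ‖a β₀‖ ^ 2 + ‖a β‖ ^ 2 ≤ ∑ β : IrrCharacter C, ‖a β‖ ^ 2 := by
      have h3 := Finset.sum_le_sum_of_subset_of_nonneg (f := fun β => ‖a β‖ ^ 2)
        (Finset.subset_univ ({β₀, β} : Finset (IrrCharacter C))) (fun _ _ _ => by positivity)
      rwa [Finset.sum_pair hne.symm] at h3
    nlinarith
  have hnorm1 : ‖a β₀‖ ^ 2 = 1 := by
    rw [← hsumR]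
    symm
    apply Finset.sum_eq_single β₀
    · intro b _ hb
      rw [hothers b hb]
      simp
    · intro hh
      exact absurd (Finset.mem_univ _) hh
  have hsq : a β₀ * a β₀ = 1 := by
    have h1 := Complex.mul_conj' (a β₀)
    rw [hreal] at h1
    rw [h1]
    exact_mod_cast hnorm1
  have hpm : a β₀ = 1 ∨ a β₀ = -1 := by
    have h1 : (a β₀ - 1) * (a β₀ + 1) = 0 := by linear_combination hsq
    rcases mul_eq_zero.mp h1 with h2 | h2
    · left
      linear_combination h2
    · right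
      linear_combination h2
  have hf_eq : (fun c : C => χh ((c : Γ) * s)) = a β₀ • (β₀ : C → ℂ) := by
    refine hexp.trans ?_
    rw [Finset.sum_eq_single β₀]
    · intro b _ hb
      rw [hothers b hb, zero_smul]
    · intro hh
      exact absurd (Finset.mem_univ _) hh
  obtain ⟨ε, hε, hεa⟩ : ∃ ε : ℤ, (ε = 1 ∨ ε = -1) ∧ a β₀ = (ε : ℂ) := by
    rcases hpm with h1 | h1
    · exact ⟨1, Or.inl rfl, by rw [h1]; simp⟩
    · exact ⟨-1, Or.inr rfl, by rw [h1]; simp⟩
  refine ⟨β₀, ε, hε, ?_⟩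
  intro c s' hs'
  obtain ⟨k, hk, rfl⟩ := exists_pow_of_zpowers_eq hs'
  rw [h.gal_pow hχh hres hdet k hk c.2]
  have h1 := congrFun hf_eq c
  simp only [Pi.smul_apply, smul_eq_mul] at h1
  rw [← hεa]
  exact h1

/-- the Glauberman correspondent is a constituent of the restriction -/
theorem key_inner (h : GSetup G C s) [Fintype C] {χh : Γ → ℂ} (hχh : IsCharacter Γ χh)
    {β : C → ℂ} (hβ : IsIrrCharacter C β) (ε : ℂ) (hε : ε ≠ 0)
    (hval : ∀ c : C, χh ((c : Γ) * s) = ε * β c) :
    classInner (fun c : C => χh (c : Γ)) β ≠ 0 := by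
  obtain ⟨m, ρ, hρ⟩ := h.coef_char hχh β (Helper35.isChar_of_irr hβ)
  let g₀ : Subgroup.zpowers s := ⟨s, Subgroup.mem_zpowers s⟩
  have h1 : ρ.character 1 = classInner (fun c : C => χh (c : Γ)) β := by
    rw [hρ]
    unfold classInner
    simp
  have h2 : ρ.character g₀ = ε := by
    rw [hρ]
    show (Nat.card C : ℂ)⁻¹ * ∑ c : C, χh ((c : Γ) * s) * conj (β c) = ε
    have h3 := Helper35.classInner_irr' hβ hβ
    rw [if_pos rfl] at h3
    unfold classInner at h3
    simp only [hval, mul_assoc]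
    rw [← Finset.mul_sum, mul_left_comm, h3, mul_one]
  intro h0
  rw [← h1, Representation.char_one] at h0
  have h3 := norm_char_le ρ g₀
  rw [h2] at h3
  have h4 : (Module.finrank ℂ (Fin m → ℂ) : ℝ) = 0 := by exact_mod_cast h0
  rw [h4] at h3
  exact hε (norm_le_zero_iff.mp h3)

/-- injectivity of the correspondence -/
theorem key_inj (h : GSetup G C s) [Fintype G] [Fintype C] {χh χh' : Γ → ℂ}
    (hχh : IsIrrCharacter Γ χh) (hχh' : IsIrrCharacter Γ χh')
    (hres : IsIrrCharacter G (fun g : G => χh g))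
    (hres' : IsIrrCharacter G (fun g : G => χh' g))
    {β : C → ℂ} (hβ : IsIrrCharacter C β) (ε ε' : ℂ) (hε : ε ≠ 0) (hε' : ε' ≠ 0)
    (hval : ∀ c : C, χh ((c : Γ) * s) = ε * β c)
    (hval' : ∀ c : C, χh' ((c : Γ) * s) = ε' * β c) :
    (fun g : G => χh g) = (fun g : G => χh' g) := by
  have hN := h.normal
  by_contra hne
  have h0 : classInner (fun g : G => χh g) (fun g : G => χh' g) = 0 := by
    rw [Helper35.classInner_irr' hres hres', if_neg hne]
  have h1 := (Cfsg.Agent.S0868.result G χh' hχh' hres' χh hχh _ rfl).2.1 h0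
  have h2 := congrFun h1 s
  simp only [Pi.zero_apply] at h2
  have hG0 : (Nat.card G : ℂ) ≠ 0 := by exact_mod_cast Nat.card_pos.ne'
  have hC0 : (Nat.card C : ℂ) ≠ 0 := by exact_mod_cast Nat.card_pos.ne'
  have h3 : ∑ n : G, χh ((n : Γ) * s) * conj (χh' ((n : Γ) * s)) = 0 := by
    rcases mul_eq_zero.mp h2 with h | h
    · exact absurd (inv_eq_zero.mp h) hG0
    · exact h
  have hF : ∀ x ∈ G, ∀ y : Γ, (fun z => χh z * conj (χh' z)) (x * y * x⁻¹) =
      (fun z => χh z * conj (χh' z)) y := by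
    intro x _ y
    simp only [irr_classFunction hχh y x, irr_classFunction hχh' y x]
  have h4 := h.coset_sum (fun z => χh z * conj (χh' z)) hF
  rw [h3, mul_zero] at h4
  have h5 : ∑ c : C, χh ((c : Γ) * s) * conj (χh' ((c : Γ) * s)) =
      ε * conj ε' * (Nat.card C : ℂ) := by
    have h6 := Helper35.classInner_irr' hβ hβ
    rw [if_pos rfl] at h6
    unfold classInner at h6
    have h7 : ∑ c : C, β c * conj (β c) = (Nat.card C : ℂ) := by
      field_simp at h6
      exact h6
    simp only [hval, hval', map_mul]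
    rw [← h7, Finset.mul_sum]
    apply Finset.sum_congr rfl
    intro c _
    ring
  rw [h5] at h4
  have h8 : (Nat.card G : ℂ) * (ε * conj ε' * (Nat.card C : ℂ)) ≠ 0 :=
    mul_ne_zero hG0 (mul_ne_zero (mul_ne_zero hε ((map_ne_zero _).mpr hε')) hC0)
  exact h8 h4.symm

/-- an `s`-invariant irreducible character of `G` has a canonical extension -/
theorem canonical_of_fixed [hN : G.Normal] (h : GSetup G C s) (χ : IrrCharacter G)
    (hfix : (χ : G → ℂ) ∘ (sAut G s) = (χ : G → ℂ)) :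
    ∃ χh : Γ → ℂ, IsIrrCharacter Γ χh ∧ (∀ g : G, χh g = (χ : G → ℂ) g) ∧
      (detOrder χh).Coprime (orderOf s) := by
  have hinv : ∀ (x : Γ) (g : G),
      (χ : G → ℂ) ⟨x * g * x⁻¹, hN.conj_mem (g : Γ) g.2 x⟩ = (χ : G → ℂ) g := by
    let T : Subgroup Γ :=
      { carrier := {x | ∀ g : G,
          (χ : G → ℂ) ⟨x * g * x⁻¹, hN.conj_mem (g : Γ) g.2 x⟩ = (χ : G → ℂ) g}
        mul_mem' := by
          intro x y hx hy g
          have h1 := hx ⟨y * g * y⁻¹, hN.conj_mem (g : Γ) g.2 y⟩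
          rw [hy g] at h1
          rw [← h1]
          exact congrArg (χ : G → ℂ) (Subtype.ext
            (show x * y * (g : Γ) * (x * y)⁻¹ = x * (y * g * y⁻¹) * x⁻¹ by group))
        one_mem' := by
          intro g
          exact congrArg (χ : G → ℂ) (Subtype.ext
            (show 1 * (g : Γ) * 1⁻¹ = g by group))
        inv_mem' := by
          intro x hx g
          have h1 := hx ⟨x⁻¹ * g * x⁻¹⁻¹, hN.conj_mem (g : Γ) g.2 x⁻¹⟩
          rw [← h1]
          exact congrArg (χ : G → ℂ) (Subtype.ext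
            (show x * (x⁻¹ * (g : Γ) * x⁻¹⁻¹) * x⁻¹ = g by group)) }
    have hG : G ≤ T := by
      intro x hx g
      have h1 := irr_classFunction χ.2 g ⟨x, hx⟩
      exact (congrArg (χ : G → ℂ) (Subtype.ext rfl)).trans h1
    have hs : Subgroup.zpowers s ≤ T := by
      rw [Subgroup.zpowers_le]
      intro g
      have h1 := congrFun hfix g
      exact h1
    have hT : T = ⊤ := by
      rw [eq_top_iff, ← h.top]
      exact sup_le hG hs
    intro x g
    have hx : x ∈ T := by
      rw [hT]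
      trivial
    exact hx g
  obtain ⟨χ₀, ⟨h1, h2, h3⟩, -⟩ := h.canonical _ χ.2 hinv
  exact ⟨χ₀, h1, h2, h3⟩

/-- the number of `s`-invariant irreducible characters of `G` is the number of irreducible
characters of `C` -/
theorem card_fixed [G.Normal] (h : GSetup G C s) :
    Nat.card {χ : IrrCharacter G // (χ : G → ℂ) ∘ (sAut G s) = (χ : G → ℂ)} =
      Nat.card (IrrCharacter C) := by
  rw [← Cfsg.Agent.S0173.result (sAut G s), h.card_fixed_classes, card_irr_eq_card_conjClasses]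

/-- surjectivity of the correspondence -/
theorem key_surj [G.Normal] (h : GSetup G C s) [Fintype G] [Fintype C] (β : IrrCharacter C) :
    ∃ (χh : Γ → ℂ) (ε : ℤ), IsIrrCharacter Γ χh ∧ IsIrrCharacter G (fun g : G => χh g) ∧
      (detOrder χh).Coprime (orderOf s) ∧ (ε = 1 ∨ ε = -1) ∧
      ∀ c : C, ∀ s' : Γ, Subgroup.zpowers s' = Subgroup.zpowers s →
        χh ((c : Γ) * s') = (ε : ℂ) * (β : C → ℂ) c := by
  classical
  have hP : ∀ χ : {χ : IrrCharacter G // (χ : G → ℂ) ∘ (sAut G s) = (χ : G → ℂ)},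
      ∃ β' : IrrCharacter C, ∃ (χh : Γ → ℂ) (ε : ℤ), IsIrrCharacter Γ χh ∧
        (∀ g : G, χh g = (χ.1 : G → ℂ) g) ∧
        (detOrder χh).Coprime (orderOf s) ∧ (ε = 1 ∨ ε = -1) ∧
        ∀ c : C, ∀ s' : Γ, Subgroup.zpowers s' = Subgroup.zpowers s →
          χh ((c : Γ) * s') = (ε : ℂ) * (β' : C → ℂ) c := by
    intro χ
    obtain ⟨χh, h1, h2, h3⟩ := h.canonical_of_fixed χ.1 χ.2
    have hres : IsIrrCharacter G (fun g : G => χh g) := by
      have h4 : (fun g : G => χh g) = (χ.1 : G → ℂ) := funext h2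
      rw [h4]
      exact χ.1.2
    obtain ⟨β', ε, hε, hval⟩ := h.key_exists h1 hres h3
    exact ⟨β', χh, ε, h1, h2, h3, hε, hval⟩
  choose Φ hΦ using hP
  have hεne : ∀ ε : ℤ, (ε = 1 ∨ ε = -1) → (ε : ℂ) ≠ 0 := by
    intro ε hε
    rcases hε with rfl | rfl <;> simp
  have hinj : Function.Injective Φ := by
    intro χ χ' hχχ'
    obtain ⟨χh, ε, h1, h2, h3, hε, hval⟩ := hΦ χ
    obtain ⟨χh', ε', h1', h2', h3', hε', hval'⟩ := hΦ χ'
    rw [← hχχ'] at hval'
    have hres : IsIrrCharacter G (fun g : G => χh g) := by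
      have h4 : (fun g : G => χh g) = (χ.1 : G → ℂ) := funext h2
      rw [h4]
      exact χ.1.2
    have hres' : IsIrrCharacter G (fun g : G => χh' g) := by
      have h4 : (fun g : G => χh' g) = (χ'.1 : G → ℂ) := funext h2'
      rw [h4]
      exact χ'.1.2
    have h5 := h.key_inj h1 h1' hres hres' (Φ χ).2 (ε : ℂ) (ε' : ℂ) (hεne ε hε) (hεne ε' hε')
      (fun c => hval c s rfl) (fun c => hval' c s rfl)
    apply Subtype.ext
    apply Subtype.ext
    funext g
    rw [← h2 g, ← h2' g]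
    exact congrFun h5 g
  have hfin : Finite (IrrCharacter C) := Helper4.irr_finite
  have hbij := hinj.bijective_of_nat_card_le (le_of_eq h.card_fixed.symm)
  obtain ⟨χ, hχ⟩ := hbij.2 β
  obtain ⟨χh, ε, h1, h2, h3, hε, hval⟩ := hΦ χ
  rw [hχ] at hval
  refine ⟨χh, ε, h1, ?_, h3, hε, hval⟩
  have h4 : (fun g : G => χh g) = (χ.1 : G → ℂ) := funext h2
  rw [h4]
  exact χ.1.2

end GSetup

end Cfsg.Agent.Lib.Helper83
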