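import Mathlib
import Cfsg.Agent.S0867
import Cfsg.Agent.Lib.Helper5.GlRes
import Cfsg.Agent.Lib.Helper83.Glaub3
import Cfsg.Agent.Lib.Helper83.Rg1

/-!
# Relative Glauberman correspondence, part 2: groups of operators

* `quotAut`: the induced action on the quotient by an invariant normal subgroup;
* `indFun_equiv`: induction commutes with automorphisms;
* `detOrder_comp_equiv`: the determinantal order is invariant under automorphisms;
* `exists_inv_extension`: an invariant character of a normal Sylow `p`-subgroup which is invariant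
  in the group has an extension invariant under any group of operators;
* `exists_inv_constituent`: an irreducible character invariant under a `p`-group of operators has
  an invariant constituent on an invariant normal subgroup of index prime to `p`.
-/

set_option autoImplicit false

namespace Cfsg.Agent.Lib.Helper83

open scoped ComplexConjugate
open Cfsg Cfsg.Agent.Lib

section quotAut

variable {P G : Type*} [Group P] [Group G]

/-- the induced action on the quotient by an invariant normal subgroup -/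
def quotAut (φ : P →* MulAut G) (N : Subgroup G) [N.Normal] (hN : ∀ x, ∀ n ∈ N, φ x n ∈ N) :
    P →* MulAut (G ⧸ N) where
  toFun x := QuotientGroup.congr N N (φ x) (by
    apply le_antisymm
    · rintro _ ⟨n, hn, rfl⟩
      exact hN x n hn
    · intro n hn
      refine ⟨φ x⁻¹ n, hN x⁻¹ n hn, ?_⟩
      show φ x (φ x⁻¹ n) = n
      rw [← MulAut.mul_apply, ← map_mul, mul_inv_cancel, map_one, MulAut.one_apply])
  map_one' := by
    ext q
    obtain ⟨g, rfl⟩ := QuotientGroup.mk_surjective q
    rw [QuotientGroup.congr_mk, map_one, MulAut.one_apply, MulAut.one_apply]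
  map_mul' x y := by
    ext q
    obtain ⟨g, rfl⟩ := QuotientGroup.mk_surjective q
    rw [MulAut.mul_apply, QuotientGroup.congr_mk, QuotientGroup.congr_mk, QuotientGroup.congr_mk,
      map_mul, MulAut.mul_apply]

theorem quotAut_mk (φ : P →* MulAut G) (N : Subgroup G) [N.Normal]
    (hN : ∀ x, ∀ n ∈ N, φ x n ∈ N) (x : P) (g : G) :
    quotAut φ N hN x (g : G ⧸ N) = ((φ x g : G) : G ⧸ N) := rfl

end quotAut

/-- induction commutes with automorphisms -/
theorem indFun_equiv {G : Type*} [Group G] [Fintype G] (T : Subgroup G) (e : G ≃* G)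
    (eT : T ≃* T) (h : ∀ t : T, ((eT t : T) : G) = e t) (ψ : T → ℂ) (g : G) :
    indFun T (fun t => ψ (eT t)) g = indFun T ψ (e g) := by
  unfold indFun
  congr 1
  rw [← Equiv.sum_comp e.toEquiv (fun x => extendByZero T ψ (x⁻¹ * e g * x))]
  apply Finset.sum_congr rfl
  intro x _
  show extendByZero T (fun t => ψ (eT t)) (x⁻¹ * g * x) =
    extendByZero T ψ ((e x)⁻¹ * e g * e x)
  have h1 : (e x)⁻¹ * e g * e x = e (x⁻¹ * g * x) := by
    rw [map_mul, map_mul, map_inv]
  rw [h1]
  by_cases hm : x⁻¹ * g * x ∈ T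
  · have hm' : e (x⁻¹ * g * x) ∈ T := by
      have h2 := (eT ⟨_, hm⟩).2
      rwa [h] at h2
    rw [Helper35.ext_mem T _ _ hm, Helper35.ext_mem T _ _ hm']
    exact congrArg ψ (Subtype.ext (h ⟨_, hm⟩))
  · have hm' : e (x⁻¹ * g * x) ∉ T := by
      intro hc
      apply hm
      have h2 := h (eT.symm ⟨_, hc⟩)
      rw [MulEquiv.apply_symm_apply] at h2
      have h3 := e.injective h2
      rw [h3]
      exact (eT.symm ⟨_, hc⟩).2
    rw [Helper35.ext_not_mem T _ _ hm, Helper35.ext_not_mem T _ _ hm']

/-- the determinantal order is invariant under automorphisms -/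
theorem detOrder_comp_equiv {A : Type*} [Group A] [Finite A] (e : A ≃* A) {χ : A → ℂ}
    (hχ : IsCharacter A χ) : detOrder (fun a => χ (e a)) = detOrder χ := by
  unfold detOrder
  have h1 : detChar (fun a => χ (e a)) = fun a => detChar χ (e a) := by
    funext a
    exact Helper20.detChar_comp e.toMonoidHom hχ a
  rw [h1]
  let F : (A → ℂ) →* (A → ℂ) :=
    { toFun := fun d a => d (e a)
      map_one' := rfl
      map_mul' := fun _ _ => rfl }
  have hF : Function.Injective F := by
    intro d d' hdd
    funext a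
    have h2 := congrFun hdd (e.symm a)
    change d (e (e.symm a)) = d' (e (e.symm a)) at h2
    rwa [MulEquiv.apply_symm_apply] at h2
  exact orderOf_injective F hF (detChar χ)

/-- an invariant extension to the group of an invariant irreducible character of a normal
`p`-subgroup of index prime to `p` -/
theorem exists_inv_extension {P : Type*} [Group P] {G : Type*} [Group G] [Finite G] (p : ℕ)
    [hp : Fact p.Prime] (N : Subgroup G) [hN : N.Normal] (φ : P →* MulAut G)
    (φN : P →* MulAut N) (hφN : ∀ x n, ((φN x n : N) : G) = φ x n)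
    (hNp : ∃ a : ℕ, Nat.card N = p ^ a) (hidx : ¬ p ∣ N.index)
    {θ : N → ℂ} (hθ : IsIrrCharacter N θ)
    (hinv : ∀ (g : G) (n : N), θ ⟨g * n * g⁻¹, hN.conj_mem (n : G) n.2 g⟩ = θ n)
    (hθP : ∀ x n, θ (φN x n) = θ n) :
    ∃ η : G → ℂ, IsIrrCharacter G η ∧ (∀ n : N, η n = θ n) ∧ ∀ x g, η (φ x g) = η g := by
  obtain ⟨a, ha⟩ := hNp
  have hcopp : Nat.Coprime N.index p :=
    ((Nat.Prime.coprime_iff_not_dvd hp.out).mpr hidx).symm
  have hd1 : detOrder θ ∣ p ^ a := ha ▸ detOrder_dvd_card θ
  have hd2 : charDegree θ ∣ p ^ a := ha ▸ irr_degree_dvd_card' hθ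
  have hcop : Nat.Coprime N.index (detOrder θ * charDegree θ) := by
    apply Nat.Coprime.mul_right
    · exact Nat.Coprime.coprime_dvd_right hd1 (Nat.Coprime.pow_right a hcopp)
    · exact Nat.Coprime.coprime_dvd_right hd2 (Nat.Coprime.pow_right a hcopp)
  obtain ⟨η, ⟨hη, hηN, hdet⟩, huniq⟩ :=
    S0867.result N θ hθ hinv (charDegree θ) (irr_degree hθ).2 hcop
  refine ⟨η, hη, hηN, ?_⟩
  intro x g
  have h1 : (fun g => η (φ x g)) = η := by
    apply huniq
    · exact Helper20.irr_comp_surjective (φ x).toMonoidHom (φ x).surjective hη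
    · intro n
      show η (φ x n) = θ n
      rw [← hφN, hηN, hθP]
    · rw [detOrder_comp_equiv (φ x) (Helper35.isChar_of_irr hη), hdet]
      exact Nat.Coprime.coprime_dvd_right hd1 (Nat.Coprime.pow_right a hcopp)
  exact congrFun h1 g

/-- an irreducible character invariant under a `p`-group of operators has an invariant
constituent on an invariant normal subgroup of index prime to `p` -/
theorem exists_inv_constituent {P : Type*} [Group P] (p : ℕ) [hp : Fact p.Prime]
    (hP : IsPGroup p P) {G : Type*} [Group G] [Fintype G] (N : Subgroup G) [hN : N.Normal]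
    [Fintype N] (φ : P →* MulAut G) (φN : P →* MulAut N)
    (hφN : ∀ x n, ((φN x n : N) : G) = φ x n) (hidx : ¬ p ∣ N.index)
    (χ : IrrCharacter G) (hχ : ∀ x g, (χ : G → ℂ) (φ x g) = (χ : G → ℂ) g) :
    ∃ θ : IrrCharacter N, (∀ x n, (θ : N → ℂ) (φN x n) = (θ : N → ℂ) n) ∧
      classInner (fun n : N => (χ : G → ℂ) n) (θ : N → ℂ) ≠ 0 := by
  classical
  have hfinN := Helper4.irr_finite (G := N)
  let _ : Fintype (IrrCharacter N) := Fintype.ofFinite _
  have hχch : IsCharacter G (χ : G → ℂ) := Helper35.isChar_of_irr χ.2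
  have hcf : IsClassFunction G (χ : G → ℂ) := Helper35.isClassFunction_of_isCharacter hχch
  have hψ : IsCharacter N (fun n : N => (χ : G → ℂ) n) := Helper35.isCharacter_res N hχch
  have hψinv : ∀ x n, (fun n : N => (χ : G → ℂ) n) (φN x n) = (fun n : N => (χ : G → ℂ) n) n := by
    intro x n
    show (χ : G → ℂ) ((φN x n : N) : G) = (χ : G → ℂ) n
    rw [hφN, hχ]
  obtain ⟨θ₀, hθ₀, hθ₀c⟩ := Helper20.exists_constituent_of_char hψ (irr_one_ne_zero χ.2)
  -- the set of constituents
  let S : Finset (IrrCharacter N) :=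
    Finset.univ.filter (fun θ => classInner (fun n : N => (χ : G → ℂ) n) (θ : N → ℂ) ≠ 0)
  let c : G → IrrCharacter N := fun x => ⟨Helper20.conjFun N θ₀ x, Helper20.conjFun_irr N hθ₀ x⟩
  have hcS : ∀ x ∈ (Finset.univ : Finset G), c x ∈ S := by
    intro x _
    rw [Finset.mem_filter]
    refine ⟨Finset.mem_univ _, ?_⟩
    show classInner (fun n : N => (χ : G → ℂ) n) (Helper20.conjFun N θ₀ x) ≠ 0
    rw [Helper20.classInner_res_conjFun N hcf]
    exact hθ₀c
  have hfib : ∀ θ ∈ S, (Finset.univ.filter (fun x : G => c x = θ)).card =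
      Nat.card (inertia N θ₀) := by
    intro θ hθ
    rw [Finset.mem_filter] at hθ
    obtain ⟨y, hy⟩ := Helper20.clifford_conj N hθ₀ χ.2 hθ₀c θ.2 hθ.2
    have h1 := Helper20.card_conjFun_eq N θ₀ (inertia N θ₀) (fun g => mem_inertia N θ₀ g) y
    rw [← h1, Nat.card_eq_fintype_card, Fintype.card_subtype]
    congr 1
    apply Finset.filter_congr
    intro x _
    constructor
    · intro h
      have h2 := congrArg Subtype.val h
      rw [hy] at h2
      exact h2
    · intro h
      apply Subtype.ext
      rw [hy]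
      exact h
  have hcard : Fintype.card G = S.card * Nat.card (inertia N θ₀) := by
    rw [← Finset.card_univ, Finset.card_eq_sum_card_fiberwise hcS,
      Finset.sum_congr rfl hfib, Finset.sum_const, smul_eq_mul]
  have hSidx : S.card = (inertia N θ₀).index := by
    have h1 := Subgroup.index_mul_card (inertia N θ₀)
    rw [Nat.card_eq_fintype_card (α := G), hcard] at h1
    exact (Nat.eq_of_mul_eq_mul_right Nat.card_pos h1).symm
  have hSp : ¬ p ∣ S.card := by
    rw [hSidx]
    intro h
    exact hidx (dvd_trans h (Subgroup.index_dvd_of_le (le_inertia N hθ₀)))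
  have hQ : ∀ η : IrrCharacter N, (∀ x n, (η : N → ℂ) (φN x n) = (η : N → ℂ) n) ↔
      ∀ g : P, (Helper5.irrAct φN).toSMul.smul g η = η :=
    fun η => (Helper5.irrAct_fixed_iff φN η).symm
  have hsum := @Helper5.sum_modEq_fixed P (IrrCharacter N) _ (Helper5.irrAct φN) _ p _ hP
    (fun η => if classInner (fun n : N => (χ : G → ℂ) n) (η : N → ℂ) ≠ 0 then 1 else 0)
    (fun g η => by
      change (if classInner (fun n : N => (χ : G → ℂ) n)
        (((Helper5.irrAct φN).toSMul.smul g η : IrrCharacter N) : N → ℂ) ≠ 0 then 1 else 0) =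
        (if classInner (fun n : N => (χ : G → ℂ) n) (η : N → ℂ) ≠ 0 then 1 else 0)
      rw [Helper5.irrAct_inner φN _ hψinv])
    (fun η => ∀ x n, (η : N → ℂ) (φN x n) = (η : N → ℂ) n) _ hQ
  have hS : ∑ η : IrrCharacter N,
      (if classInner (fun n : N => (χ : G → ℂ) n) (η : N → ℂ) ≠ 0 then 1 else 0) = S.card := by
    rw [Finset.card_filter]
  by_contra hcon
  push Not at hcon
  apply hSp
  rw [← hS]
  apply (Nat.modEq_zero_iff_dvd).mp
  refine hsum.trans ((Nat.modEq_zero_iff_dvd).mpr (Finset.dvd_sum fun η _ => ?_))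
  by_cases hq : ∀ x n, (η : N → ℂ) (φN x n) = (η : N → ℂ) n
  · rw [if_pos hq, if_neg (not_not.mpr (hcon η hq))]
    exact dvd_zero p
  · rw [if_neg hq]
    exact dvd_zero p

end Cfsg.Agent.Lib.Helper83
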