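import Mathlib
import Cfsg.Agent.Lib.Helper20.Mackey
import Cfsg.Agent.Lib.Helper83.Rg2

/-!
# Relative Glauberman correspondence, part 3: Mackey's formula modulo `p`

`mackey_mod`: let a `p`-group `P` act on `K`, let `Q` be an invariant normal subgroup, and let
`C` be the full preimage of the fixed points of `P` on `K/Q`.  For an invariant subgroup `T ≥ Q`,
an invariant character `ψ` of `T` and an invariant character `ξ` of `C`,
`|C/Q| |T/Q| [(ψ^K)_C, ξ] ≡ |C/Q| |(C ∩ T)/Q| [ψ_{C ∩ T}, ξ_{C ∩ T}]` modulo `p`.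
-/

set_option autoImplicit false

namespace Cfsg.Agent.Lib.Helper83

open scoped ComplexConjugate
open Cfsg Cfsg.Agent.Lib

/-- the order of the preimage of a subgroup of the range of an injective homomorphism -/
theorem card_comap_of_le_range {C K : Type*} [Group C] [Group K] (j : C →* K)
    (hj : Function.Injective j) (Q : Subgroup K) (hQ : Q ≤ j.range) :
    Nat.card (Q.comap j) = Nat.card Q := by
  rw [← Subgroup.card_map_of_injective hj, Subgroup.map_comap_eq_self hQ]

set_option maxHeartbeats 1000000 in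
theorem mackey_mod {P : Type*} [Group P] (p : ℕ) [hp : Fact p.Prime] (hP : IsPGroup p P)
    {K : Type*} [Group K] [Fintype K] (φ : P →* MulAut K)
    (Q : Subgroup K) [hQn : Q.Normal] (hQφ : ∀ x, ∀ q ∈ Q, φ x q ∈ Q)
    {C : Type*} [Group C] [Fintype C] (j : C →* K) (hj : Function.Injective j)
    (hC : ∀ k : K, k ∈ j.range ↔ ∀ x, φ x k * k⁻¹ ∈ Q)
    (φC : P →* MulAut C) (hφC : ∀ x c, j (φC x c) = φ x (j c))
    (T : Subgroup K) (hQT : Q ≤ T) (hTφ : ∀ x, ∀ t ∈ T, φ x t ∈ T) [Fintype (T.comap j)]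
    {ψ : T → ℂ} (hψ : IsCharacter T ψ)
    (hψP : ∀ x (t : T), ψ (Helper5.resAut φ T hTφ x t) = ψ t)
    {ξ : C → ℂ} (hξ : IsCharacter C ξ) (hξP : ∀ x c, ξ (φC x c) = ξ c)
    (r t tC : ℕ) (hr : Nat.card C = r * Nat.card Q) (ht : Nat.card T = t * Nat.card Q)
    (htC : Nat.card (T.comap j) = tC * Nat.card Q)
    (m₀ m₁ : ℕ) (hm₀ : classInner (fun c => indFun T ψ (j c)) ξ = m₀)
    (hm₁ : classInner (fun c : T.comap j => ψ (j.subgroupComap T c))
      (fun c : T.comap j => ξ c) = m₁) :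
    r * t * m₀ ≡ r * tC * m₁ [MOD p] := by
  classical
  let _ : Fintype Q := Fintype.ofFinite _
  let _ : Fintype T := Fintype.ofFinite _
  let _ : Fintype (K ⧸ Q) := Fintype.ofFinite _
  have hcfψ : IsClassFunction T ψ := Helper35.isClassFunction_of_isCharacter hψ
  have hcfξ : IsClassFunction C ξ := Helper35.isClassFunction_of_isCharacter hξ
  have hcardC : (Nat.card C : ℂ) ≠ 0 := by exact_mod_cast (Nat.card_pos (α := C)).ne'
  have hcardT : (Nat.card T : ℂ) ≠ 0 := by exact_mod_cast (Nat.card_pos (α := T)).ne'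
  have hcardQ : (Nat.card Q : ℂ) ≠ 0 := by exact_mod_cast (Nat.card_pos (α := Q)).ne'
  let A : K → ℂ := fun k => ∑ c : C, extendByZero T ψ (k⁻¹ * j c * k) * conj (ξ c)
  have hAdef : ∀ k, A k = ∑ c : C, extendByZero T ψ (k⁻¹ * j c * k) * conj (ξ c) := fun k => rfl
  -- invariance under right multiplication by `Q`
  have hA2 : ∀ (k : K) (q : Q), A (k * q) = A k := by
    intro k q
    rw [hAdef, hAdef]
    apply Finset.sum_congr rfl
    intro c _
    have h1 : (k * (q : K))⁻¹ * j c * (k * (q : K)) = (q : K)⁻¹ * (k⁻¹ * j c * k) * (q : K) := by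
      group
    rw [h1, Helper20.ext_conj_mem T hcfψ _ _ (hQT q.2)]
  have hA2' : ∀ k k' : K, (k : K ⧸ Q) = (k' : K ⧸ Q) → A k = A k' := by
    intro k k' h
    have h1 : k⁻¹ * k' ∈ Q := (QuotientGroup.eq (s := Q)).mp h
    have h2 := hA2 k ⟨_, h1⟩
    rw [← h2]
    congr 1
    show k * (k⁻¹ * k') = k'
    rw [mul_inv_cancel_left]
  -- invariance of the extension by zero
  have hext : ∀ x (y : K), extendByZero T ψ (φ x y) = extendByZero T ψ y := by
    intro x y
    by_cases hy : y ∈ T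
    · rw [Helper35.ext_mem T ψ _ (hTφ x y hy), Helper35.ext_mem T ψ _ hy]
      exact hψP x ⟨y, hy⟩
    · have hy' : φ x y ∉ T := by
        intro h
        apply hy
        have h2 := hTφ x⁻¹ _ h
        rwa [← MulAut.mul_apply, ← map_mul, inv_mul_cancel, map_one, MulAut.one_apply] at h2
      rw [Helper35.ext_not_mem T ψ _ hy', Helper35.ext_not_mem T ψ _ hy]
  -- invariance under the operators
  have hA3 : ∀ x k, A (φ x k) = A k := by
    intro x k
    rw [hAdef, hAdef, ← Equiv.sum_comp (φC x).toEquiv]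
    apply Finset.sum_congr rfl
    intro c _
    show extendByZero T ψ ((φ x k)⁻¹ * j (φC x c) * φ x k) * conj (ξ (φC x c)) = _
    rw [hφC, hξP, ← map_inv, ← map_mul, ← map_mul, hext]
  -- the inner product as a sum
  have h1 : (Nat.card C : ℂ) * (Nat.card T : ℂ) * (m₀ : ℂ) = ∑ k : K, A k := by
    have e1 : ∑ k : K, A k =
        ∑ c : C, (∑ x : K, extendByZero T ψ (x⁻¹ * j c * x)) * conj (ξ c) := by
      show ∑ k : K, ∑ c : C, extendByZero T ψ (k⁻¹ * j c * k) * conj (ξ c) = _
      rw [Finset.sum_comm]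
      apply Finset.sum_congr rfl
      intro c _
      rw [Finset.sum_mul]
    have e2 : ∑ c : C, ((Nat.card T : ℂ)⁻¹ * ∑ x : K, extendByZero T ψ (x⁻¹ * j c * x)) *
        conj (ξ c) = (Nat.card T : ℂ)⁻¹ *
          ∑ c : C, (∑ x : K, extendByZero T ψ (x⁻¹ * j c * x)) * conj (ξ c) := by
      rw [Finset.mul_sum]
      apply Finset.sum_congr rfl
      intro c _
      rw [mul_assoc]
    rw [← hm₀]
    show (Nat.card C : ℂ) * (Nat.card T : ℂ) * ((Nat.card C : ℂ)⁻¹ *
      ∑ c : C, ((Nat.card T : ℂ)⁻¹ * ∑ x : K, extendByZero T ψ (x⁻¹ * j c * x)) *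
        conj (ξ c)) = _
    rw [e2, e1]
    field_simp
  -- `Q` lies in the range of `j`
  have hQle : Q ≤ j.range := by
    intro q hq
    rw [hC]
    intro x
    exact Q.mul_mem (hQφ x q hq) (Q.inv_mem hq)
  have hQC : Nat.card (Q.comap j) = Nat.card Q := card_comap_of_le_range j hj Q hQle
  -- integrality
  have hint : ∀ k : K, ∃ n : ℕ, A k = (Nat.card Q : ℂ) * n := by
    intro k
    let f : C →* K := (MulAut.conj k⁻¹).toMonoidHom.comp j
    have hf : ∀ c, f c = k⁻¹ * j c * k := by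
      intro c
      show k⁻¹ * j c * k⁻¹⁻¹ = _
      rw [inv_inv]
    let D : Subgroup C := T.comap f
    let _ : Fintype D := Fintype.ofFinite _
    have hQD : Q.comap j ≤ D := by
      intro c hc
      show f c ∈ T
      rw [hf]
      apply hQT
      have h3 := hQn.conj_mem (j c) hc k⁻¹
      rwa [inv_inv] at h3
    have hn : ∃ n : ℕ, classInner (fun d : D => ψ (f.subgroupComap T d)) (fun d : D => ξ d) = n :=
      Helper35.classInner_char_nat (Helper20.isCharacter_comp (f.subgroupComap T) hψ)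
        (Helper20.isCharacter_comp D.subtype hξ)
    obtain ⟨n, hn⟩ := hn
    have hsum : A k = ∑ d : D, ψ (f.subgroupComap T d) * conj (ξ d) := by
      rw [hAdef, Helper20.sum_eq_sum_subgroup D
        (fun c => extendByZero T ψ (k⁻¹ * j c * k) * conj (ξ c))]
      · apply Finset.sum_congr rfl
        intro d _
        have hd : k⁻¹ * j d * k ∈ T := by
          rw [← hf]
          exact d.2
        show extendByZero T ψ (k⁻¹ * j d * k) * conj (ξ d) = _
        rw [Helper35.ext_mem T ψ _ hd]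
        congr 2
        exact Subtype.ext (hf d).symm
      · intro c hc
        have h4 : k⁻¹ * j c * k ∉ T := by
          rw [← hf]
          exact hc
        show extendByZero T ψ (k⁻¹ * j c * k) * conj (ξ c) = 0
        rw [Helper35.ext_not_mem T ψ _ h4, zero_mul]
    obtain ⟨u, hu⟩ := Subgroup.card_dvd_of_le hQD
    refine ⟨u * n, ?_⟩
    have hD0 : (Nat.card D : ℂ) ≠ 0 := by exact_mod_cast (Nat.card_pos (α := D)).ne'
    have h5 : ∑ d : D, ψ (f.subgroupComap T d) * conj (ξ d) = (Nat.card D : ℂ) * n := by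
      rw [← hn]
      unfold classInner
      field_simp
    rw [hsum, h5, hu, hQC]
    push_cast
    ring
  choose F' hF' using hint
  let F : K ⧸ Q → ℕ := fun q => F' q.out
  have hF : ∀ q : K ⧸ Q, A q.out = (Nat.card Q : ℂ) * F q := fun q => hF' q.out
  have hFk : ∀ k : K, A k = (Nat.card Q : ℂ) * F (k : K ⧸ Q) := by
    intro k
    rw [← hF]
    exact hA2' _ _ (QuotientGroup.out_eq' _).symm
  have hsumA : ∑ k : K, A k = (Nat.card Q : ℂ) * ∑ q : K ⧸ Q, A q.out := sum_out Q A hA2
  have h2 : r * t * m₀ = ∑ q : K ⧸ Q, F q := by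
    have h3 : ((r * t * m₀ : ℕ) : ℂ) * (Nat.card Q : ℂ) ^ 2 =
        ((∑ q : K ⧸ Q, F q : ℕ) : ℂ) * (Nat.card Q : ℂ) ^ 2 := by
      push_cast
      have e1 : (Nat.card C : ℂ) = r * Nat.card Q := by exact_mod_cast hr
      have e2 : (Nat.card T : ℂ) = t * Nat.card Q := by exact_mod_cast ht
      rw [e1, e2, hsumA, Finset.sum_congr rfl (fun q _ => hF q), ← Finset.mul_sum] at h1
      linear_combination h1
    exact_mod_cast mul_right_cancel₀ (pow_ne_zero 2 hcardQ) h3
  -- the action on the quotient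
  have hFinv : ∀ (x : P) (q : K ⧸ Q), F (quotAut φ Q hQφ x q) = F q := by
    intro x q
    obtain ⟨k, rfl⟩ := QuotientGroup.mk_surjective q
    have h3 : (Nat.card Q : ℂ) * F (quotAut φ Q hQφ x (k : K ⧸ Q)) =
        (Nat.card Q : ℂ) * F (k : K ⧸ Q) := by
      rw [quotAut_mk, ← hFk, ← hFk, hA3]
    exact_mod_cast mul_left_cancel₀ hcardQ h3
  let g : C →* K ⧸ Q := (QuotientGroup.mk' Q).comp j
  have hfix : ∀ q : K ⧸ Q, q ∈ g.range ↔ ∀ x : P, quotAut φ Q hQφ x q = q := by
    intro q
    obtain ⟨k, rfl⟩ := QuotientGroup.mk_surjective q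
    have hk : (∀ x : P, quotAut φ Q hQφ x (k : K ⧸ Q) = (k : K ⧸ Q)) ↔ k ∈ j.range := by
      rw [hC]
      apply forall_congr'
      intro x
      rw [quotAut_mk, eq_comm, QuotientGroup.eq]
      constructor
      · intro h
        have h3 := hQn.conj_mem _ h k
        rwa [mul_inv_cancel_left] at h3
      · intro h
        have h3 := hQn.conj_mem _ h k⁻¹
        rwa [inv_inv, mul_assoc, inv_mul_cancel_right] at h3
    rw [hk]
    constructor
    · rintro ⟨c, hc⟩
      have h4 : (j c)⁻¹ * k ∈ Q := (QuotientGroup.eq (s := Q)).mp hc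
      obtain ⟨c', hc'⟩ := hQle h4
      exact ⟨c * c', by rw [map_mul, hc', mul_inv_cancel_left]⟩
    · rintro ⟨c, rfl⟩
      exact ⟨c, rfl⟩
  -- the values at the fixed points
  have hA1 : A 1 = (Nat.card (T.comap j) : ℂ) * m₁ := by
    rw [hAdef, Helper20.sum_eq_sum_subgroup (T.comap j)
      (fun c => extendByZero T ψ (1⁻¹ * j c * 1) * conj (ξ c))]
    · rw [← hm₁]
      unfold classInner
      have h3 : ∀ d : T.comap j, extendByZero T ψ (1⁻¹ * j d * 1) * conj (ξ d) =
          ψ (j.subgroupComap T d) * conj (ξ d) := by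
        intro d
        have hd : (1 : K)⁻¹ * j d * 1 ∈ T := by
          rw [inv_one, one_mul, mul_one]
          exact d.2
        rw [Helper35.ext_mem T ψ _ hd]
        congr 2
        apply Subtype.ext
        show (1 : K)⁻¹ * j d * 1 = j d
        rw [inv_one, one_mul, mul_one]
      rw [Finset.sum_congr rfl (fun d _ => h3 d)]
      have hTC0 : (Nat.card (T.comap j) : ℂ) ≠ 0 := by
        exact_mod_cast (Nat.card_pos (α := T.comap j)).ne'
      field_simp
    · intro c hc
      have h4 : (1 : K)⁻¹ * j c * 1 ∉ T := by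
        rw [inv_one, one_mul, mul_one]
        exact hc
      show extendByZero T ψ (1⁻¹ * j c * 1) * conj (ξ c) = 0
      rw [Helper35.ext_not_mem T ψ _ h4, zero_mul]
  have hAfix : ∀ c₀ : C, A (j c₀) = A 1 := by
    intro c₀
    rw [hAdef, hAdef, ← Equiv.sum_comp (MulAut.conj c₀).toEquiv]
    apply Finset.sum_congr rfl
    intro c _
    show extendByZero T ψ ((j c₀)⁻¹ * j (c₀ * c * c₀⁻¹) * j c₀) * conj (ξ (c₀ * c * c₀⁻¹)) = _
    rw [hcfξ c c₀]
    congr 2
    rw [map_mul, map_mul, map_inv]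
    group
  have hFfix : ∀ q : K ⧸ Q, q ∈ g.range → F q = tC * m₁ := by
    rintro q ⟨c₀, rfl⟩
    have h3 : (Nat.card Q : ℂ) * F (g c₀) = (Nat.card Q : ℂ) * ((tC * m₁ : ℕ) : ℂ) := by
      show (Nat.card Q : ℂ) * F ((j c₀ : K) : K ⧸ Q) = _
      rw [← hFk, hAfix, hA1, htC]
      push_cast
      ring
    exact_mod_cast mul_left_cancel₀ hcardQ h3
  have hcount : (Finset.univ.filter (fun q : K ⧸ Q => q ∈ g.range)).card = r := by
    have h3 : Nat.card g.range = r := by
      have h4 := Subgroup.index_mul_card g.ker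
      rw [Subgroup.index_ker] at h4
      have h5 : g.ker = Q.comap j := by
        rw [← MonoidHom.comap_ker, QuotientGroup.ker_mk']
      rw [h5, hQC, hr] at h4
      exact Nat.eq_of_mul_eq_mul_right Nat.card_pos h4
    rw [← h3, Nat.card_eq_fintype_card, Fintype.card_subtype]
  have hsum := @Helper5.sum_modEq_fixed P (K ⧸ Q) _
    (MulAction.compHom (K ⧸ Q) (quotAut φ Q hQφ)) _ p _ hP F (fun x q => hFinv x q)
    (fun q => q ∈ g.range) _ (fun q => hfix q)
  rw [h2]
  refine hsum.trans ?_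
  have h6 : ∑ q : K ⧸ Q, (if q ∈ g.range then F q else 0) = r * (tC * m₁) := by
    rw [← Finset.sum_filter, Finset.sum_congr rfl
      (fun q hq => hFfix q (Finset.mem_filter.mp hq).2), Finset.sum_const, smul_eq_mul, hcount]
  rw [h6, mul_assoc]

end Cfsg.Agent.Lib.Helper83
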