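import Mathlib
import Cfsg.Agent.Lib.Helper5.GlMain
import Cfsg.Agent.Lib.Helper83.Rg3

/-!
# Relative Glauberman correspondence, part 4: the local set-up

A `p`-group `P` acts on `K`; `Q` is an invariant normal Sylow `p`-subgroup of `K`, and `j : C → K`
is the inclusion of the full preimage of the fixed points of `P` on `K/Q` (`RgSetup`).  For an
invariant `θ ∈ Irr(Q)` with inertia group `T` and invariant extension `η ∈ Irr(T)` (`RgLocal`),
the Glauberman correspondence of `P` acting on `T/Q` is available (`bar_glok`).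
-/

set_option autoImplicit false

namespace Cfsg.Agent.Lib.Helper83

open scoped ComplexConjugate
open Cfsg Cfsg.Agent.Lib

universe u v

section setup

variable {P : Type v} [Group P] {K C : Type u} [Group K] [Group C]

/-- the global hypotheses of the relative Glauberman correspondence -/
structure RgSetup (p : ℕ) (φ : P →* MulAut K) (Q : Subgroup K) (j : C →* K)
    (φC : P →* MulAut C) : Prop where
  hP : IsPGroup p P
  hQφ : ∀ x, ∀ q ∈ Q, φ x q ∈ Q
  hQp : ∃ a : ℕ, Nat.card Q = p ^ a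
  hQidx : ¬ p ∣ Q.index
  hj : Function.Injective j
  hC : ∀ k : K, k ∈ j.range ↔ ∀ x, φ x k * k⁻¹ ∈ Q
  hφC : ∀ x c, j (φC x c) = φ x (j c)

/-- the local data attached to an invariant irreducible character `θ` of `Q` -/
structure RgLocal (φ : P →* MulAut K) (Q : Subgroup K) [Q.Normal] (θ : Q → ℂ) (T : Subgroup K)
    (η : T → ℂ) : Prop where
  hθ : IsIrrCharacter Q θ
  hT : ∀ g, g ∈ T ↔ Helper20.conjFun Q θ g = θ
  hQT : Q ≤ T
  hTφ : ∀ x, ∀ t ∈ T, φ x t ∈ T
  hη : IsIrrCharacter T η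
  hηN : ∀ n : Q, η ⟨(n : K), hQT n.2⟩ = θ n
  hηP : ∀ x (t : T), η (Helper5.resAut φ T hTφ x t) = η t

variable {p : ℕ} {φ : P →* MulAut K} {Q : Subgroup K} {j : C →* K} {φC : P →* MulAut C}

theorem RgSetup.hQle (S : RgSetup p φ Q j φC) : Q ≤ j.range := by
  intro q hq
  rw [S.hC]
  intro x
  exact Q.mul_mem (S.hQφ x q hq) (Q.inv_mem hq)

theorem RgSetup.comm [hQn : Q.Normal] (S : RgSetup p φ Q j φC) (c : C) (x : P) :
    (φ x (j c))⁻¹ * j c ∈ Q := by
  have h1 := (S.hC (j c)).mp ⟨c, rfl⟩ x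
  have h2 := hQn.conj_mem _ (Q.inv_mem h1) (j c)⁻¹
  rwa [mul_inv_rev, inv_inv, inv_mul_cancel_left] at h2

theorem RgSetup.surj (S : RgSetup p φ Q j φC) : Function.Surjective (j.subgroupComap Q) := by
  intro q
  obtain ⟨c, hc⟩ := S.hQle q.2
  exact ⟨⟨c, by rw [Subgroup.mem_comap, hc]; exact q.2⟩, Subtype.ext hc⟩

/-- the inertia group of an invariant character is invariant -/
theorem inertia_inv [hQn : Q.Normal] (hQφ : ∀ x, ∀ q ∈ Q, φ x q ∈ Q) (θ : Q → ℂ)
    (hθP : ∀ x (q : Q), θ (Helper5.resAut φ Q hQφ x q) = θ q) (x : P) (t : K)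
    (ht : t ∈ inertia Q θ) : φ x t ∈ inertia Q θ := by
  rw [mem_inertia] at ht ⊢
  funext q
  rw [Helper20.conjFun_apply]
  have hq' : φ x⁻¹ (q : K) ∈ Q := hQφ x⁻¹ q q.2
  have h1 := congrFun ht ⟨φ x⁻¹ q, hq'⟩
  rw [Helper20.conjFun_apply] at h1
  calc θ ⟨φ x t * q * (φ x t)⁻¹, hQn.conj_mem (q : K) q.2 (φ x t)⟩
      = θ (Helper5.resAut φ Q hQφ x ⟨t * φ x⁻¹ q * t⁻¹, hQn.conj_mem _ hq' t⟩) := by
        apply congrArg θ
        apply Subtype.ext
        show φ x t * q * (φ x t)⁻¹ = φ x (t * φ x⁻¹ q * t⁻¹)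
        rw [map_mul, map_mul, map_inv (φ x) t, ← MulAut.mul_apply, ← map_mul, mul_inv_cancel,
          map_one, MulAut.one_apply]
    _ = θ ⟨t * φ x⁻¹ q * t⁻¹, hQn.conj_mem _ hq' t⟩ := hθP x _
    _ = θ ⟨φ x⁻¹ q, hq'⟩ := h1
    _ = θ q := hθP x⁻¹ q

/-- an invariant extension to the inertia group -/
theorem exists_inv_ext_inertia [hp : Fact p.Prime] [Finite K] [hQn : Q.Normal]
    (hQφ : ∀ x, ∀ q ∈ Q, φ x q ∈ Q) (hQp : ∃ a : ℕ, Nat.card Q = p ^ a)
    (hQidx : ¬ p ∣ Q.index) {θ : Q → ℂ} (hθ : IsIrrCharacter Q θ)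
    (hθP : ∀ x (q : Q), θ (Helper5.resAut φ Q hQφ x q) = θ q)
    (T : Subgroup K) (hT : ∀ g, g ∈ T ↔ Helper20.conjFun Q θ g = θ) (hQT : Q ≤ T)
    (hTφ : ∀ x, ∀ t ∈ T, φ x t ∈ T) :
    ∃ η : T → ℂ, IsIrrCharacter T η ∧ (∀ n : Q, η ⟨(n : K), hQT n.2⟩ = θ n) ∧
      ∀ x (t : T), η (Helper5.resAut φ T hTφ x t) = η t := by
  let e : Q.subgroupOf T ≃* Q := Subgroup.subgroupOfEquivOfLe hQT
  have he : ∀ m : Q.subgroupOf T, ((e m : Q) : K) = ((m : T) : K) :=
    fun m => Subgroup.subgroupOfEquivOfLe_apply_coe hQT m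
  have hQTφ : ∀ x, ∀ m ∈ Q.subgroupOf T, Helper5.resAut φ T hTφ x m ∈ Q.subgroupOf T := by
    intro x m hm
    rw [Subgroup.mem_subgroupOf] at hm ⊢
    exact hQφ x _ hm
  obtain ⟨a, ha⟩ := hQp
  obtain ⟨η, hη, hηN, hηP⟩ := exists_inv_extension p (Q.subgroupOf T)
    (Helper5.resAut φ T hTφ) (Helper5.resAut (Helper5.resAut φ T hTφ) (Q.subgroupOf T) hQTφ)
    (fun x n => rfl) ⟨a, by rw [Nat.card_congr e.toEquiv]; exact ha⟩
    (fun h => hQidx (dvd_trans h (Subgroup.relIndex_dvd_index_of_normal Q T)))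
    (θ := fun m => θ (e m)) (Helper20.irr_comp_surjective e.toMonoidHom e.surjective hθ)
    (by
      intro g n
      have h1 := congrFun ((hT g).mp g.2) (e n)
      rw [Helper20.conjFun_apply] at h1
      rw [← h1]
      apply congrArg θ
      apply Subtype.ext
      rw [he]
      show (g : K) * ((n : T) : K) * (g : K)⁻¹ = (g : K) * ((e n : Q) : K) * (g : K)⁻¹
      rw [he])
    (by
      intro x n
      rw [← hθP x (e n)]
      apply congrArg θ
      apply Subtype.ext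
      rw [he]
      show φ x ((n : T) : K) = φ x ((e n : Q) : K)
      rw [he])
  refine ⟨η, hη, ?_, hηP⟩
  intro n
  have h1 := hηN (e.symm n)
  rw [MulEquiv.apply_symm_apply] at h1
  rw [← h1]
  apply congrArg η
  apply Subtype.ext
  show (n : K) = (((e.symm n : Q.subgroupOf T) : T) : K)
  rw [← he, MulEquiv.apply_symm_apply]

end setup

section bar

variable {P : Type v} [Group P] {K C : Type u} [Group K] [Group C]

/-- the map `(C ∩ T)/Q → T/Q` induced by `j` -/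
def barMap (j : C →* K) (Q T : Subgroup K) [Q.Normal] :
    (T.comap j) ⧸ (Q.comap j).subgroupOf (T.comap j) →* T ⧸ Q.subgroupOf T :=
  QuotientGroup.map _ _ (j.subgroupComap T) (by
    intro c hc
    exact hc)

theorem barMap_mk (j : C →* K) (Q T : Subgroup K) [Q.Normal] (c : T.comap j) :
    barMap j Q T (c : (T.comap j) ⧸ (Q.comap j).subgroupOf (T.comap j)) =
      ((j.subgroupComap T c : T) : T ⧸ Q.subgroupOf T) := rfl

/-- the action on `T/Q` -/
def barAut (φ : P →* MulAut K) (Q T : Subgroup K) [Q.Normal] (hQφ : ∀ x, ∀ q ∈ Q, φ x q ∈ Q)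
    (hTφ : ∀ x, ∀ t ∈ T, φ x t ∈ T) : P →* MulAut (T ⧸ Q.subgroupOf T) :=
  quotAut (Helper5.resAut φ T hTφ) (Q.subgroupOf T) (fun x m hm => by
    rw [Subgroup.mem_subgroupOf] at hm ⊢
    exact hQφ x _ hm)

theorem barAut_mk (φ : P →* MulAut K) (Q T : Subgroup K) [Q.Normal]
    (hQφ : ∀ x, ∀ q ∈ Q, φ x q ∈ Q) (hTφ : ∀ x, ∀ t ∈ T, φ x t ∈ T) (x : P) (t : T) :
    barAut φ Q T hQφ hTφ x (t : T ⧸ Q.subgroupOf T) =
      ((Helper5.resAut φ T hTφ x t : T) : T ⧸ Q.subgroupOf T) := rfl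

theorem bar_inj (j : C →* K) (Q T : Subgroup K) [Q.Normal] :
    Function.Injective (barMap j Q T) := by
  rw [injective_iff_map_eq_one]
  intro q hq
  obtain ⟨c, rfl⟩ := QuotientGroup.mk_surjective q
  rw [barMap_mk, QuotientGroup.eq_one_iff, Subgroup.mem_subgroupOf] at hq
  rw [QuotientGroup.eq_one_iff, Subgroup.mem_subgroupOf, Subgroup.mem_comap]
  exact hq

variable {p : ℕ} {φ : P →* MulAut K} {Q : Subgroup K} [hQn : Q.Normal] {j : C →* K}
  {φC : P →* MulAut C}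

theorem bar_range (S : RgSetup p φ Q j φC) {T : Subgroup K} (hTφ : ∀ x, ∀ t ∈ T, φ x t ∈ T)
    (q : T ⧸ Q.subgroupOf T) :
    q ∈ (barMap j Q T).range ↔ ∀ x, barAut φ Q T S.hQφ hTφ x q = q := by
  obtain ⟨t, rfl⟩ := QuotientGroup.mk_surjective q
  constructor
  · rintro ⟨q', hq'⟩ x
    obtain ⟨c, rfl⟩ := QuotientGroup.mk_surjective q'
    rw [← hq', barMap_mk, barAut_mk, QuotientGroup.eq, Subgroup.mem_subgroupOf]
    exact S.comm c x
  · intro h
    have h1 : (t : K) ∈ j.range := by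
      rw [S.hC]
      intro x
      have h2 := h x
      rw [barAut_mk, QuotientGroup.eq, Subgroup.mem_subgroupOf] at h2
      have h3 := hQn.conj_mem _ (Q.inv_mem h2) (t : K)
      have h4 : (t : K) * (((Helper5.resAut φ T hTφ x t)⁻¹ * t : T) : K)⁻¹ * (t : K)⁻¹ =
          φ x t * (t : K)⁻¹ := by
        show (t : K) * ((φ x t)⁻¹ * (t : K))⁻¹ * (t : K)⁻¹ = φ x t * (t : K)⁻¹
        group
      rwa [h4] at h3
    obtain ⟨c, hc⟩ := h1
    have hcT : c ∈ T.comap j := by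
      rw [Subgroup.mem_comap, hc]
      exact t.2
    refine ⟨((⟨c, hcT⟩ : T.comap j) : (T.comap j) ⧸ (Q.comap j).subgroupOf (T.comap j)), ?_⟩
    rw [barMap_mk]
    congr 1
    exact Subtype.ext hc

/-- the Glauberman correspondence for the action on `T/Q` -/
theorem bar_glok [hp : Fact p.Prime] [Finite P] (S : RgSetup p φ Q j φC) {T : Subgroup K}
    (hTφ : ∀ x, ∀ t ∈ T, φ x t ∈ T) [Fintype (T ⧸ Q.subgroupOf T)]
    [Fintype ((T.comap j) ⧸ (Q.comap j).subgroupOf (T.comap j))] :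
    Helper5.GlOK p (barAut φ Q T S.hQφ hTφ) (barMap j Q T) := by
  refine Helper5.gl_pgroup p _ _ S.hP ?_ (bar_inj j Q T) (fun q => bar_range S hTφ q)
  obtain ⟨n, hn⟩ := IsPGroup.iff_card.mp S.hP
  rw [hn, ← Nat.card_eq_fintype_card, ← Subgroup.index_eq_card]
  apply Nat.Coprime.pow_right
  exact ((Nat.Prime.coprime_iff_not_dvd hp.out).mpr (fun h => S.hQidx
    (dvd_trans h (Subgroup.relIndex_dvd_index_of_normal Q T)))).symm

/-- the number of fixed points on `T/Q` -/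
theorem bar_card [hp : Fact p.Prime] (S : RgSetup p φ Q j φC) {T : Subgroup K}
    (hTφ : ∀ x, ∀ t ∈ T, φ x t ∈ T) [Finite K] [Finite C] :
    Nat.card (T ⧸ Q.subgroupOf T) ≡
      Nat.card ((T.comap j) ⧸ (Q.comap j).subgroupOf (T.comap j)) [MOD p] := by
  classical
  let _ : Fintype (T ⧸ Q.subgroupOf T) := Fintype.ofFinite _
  have hsum := @Helper5.sum_modEq_fixed P (T ⧸ Q.subgroupOf T) _
    (MulAction.compHom _ (barAut φ Q T S.hQφ hTφ)) _ p _ S.hP (fun _ => 1) (fun _ _ => rfl)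
    (fun q => q ∈ (barMap j Q T).range) _ (fun q => bar_range S hTφ q)
  rw [Finset.sum_const, Finset.card_univ, smul_eq_mul, mul_one, ← Finset.card_filter,
    ← Fintype.card_subtype, ← Nat.card_eq_fintype_card, ← Nat.card_eq_fintype_card] at hsum
  have h1 : Nat.card {q // q ∈ (barMap j Q T).range} =
      Nat.card ((T.comap j) ⧸ (Q.comap j).subgroupOf (T.comap j)) :=
    (Nat.card_congr (MonoidHom.ofInjective (bar_inj j Q T)).toEquiv).symm
  rw [h1] at hsum
  exact hsum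

end bar

end Cfsg.Agent.Lib.Helper83
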