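import Mathlib
import Cfsg.Agent.Lib.Helper83.Rg4

/-!
# Relative Glauberman correspondence, part 5: the local correspondence

For an invariant `θ ∈ Irr(Q)` with local data `RgLocal`:

* `rg_core`: for an invariant `β ∈ Irr(T/Q)` and an invariant `ξ ∈ Irr(C)`, the multiplicity of `ξ`
  in the restriction to `C` of the character of `K` attached to `β` is congruent modulo `p` to
  the multiplicity of `β''` in `β_{(C ∩ T)/Q}` if `ξ` is attached to `β''`, and is divisible by `p`
  if `ξ` does not lie over `θ`;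
* `rg_local_a`, `rg_local_b`, `rg_local_c`: existence, injectivity and surjectivity of the
  correspondence over `θ`.
-/

set_option autoImplicit false

namespace Cfsg.Agent.Lib.Helper83

open scoped ComplexConjugate
open Cfsg Cfsg.Agent.Lib

universe u v

section cside

variable {P : Type v} [Group P] {K C : Type u} [Group K] [Group C]

/-- the character of `Q` seen on its preimage in `C` -/
def thetaC (j : C →* K) (Q : Subgroup K) (θ : Q → ℂ) : Q.comap j → ℂ :=
  fun n => θ (j.subgroupComap Q n)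

/-- the extension `η` seen on the preimage of `T` in `C` -/
def etaC (j : C →* K) (T : Subgroup K) (η : T → ℂ) : T.comap j → ℂ :=
  fun c => η (j.subgroupComap T c)

variable {p : ℕ} {φ : P →* MulAut K} {Q : Subgroup K} [hQn : Q.Normal] {j : C →* K}
  {φC : P →* MulAut C} {θ : Q → ℂ} {T : Subgroup K} {η : T → ℂ}

omit hQn in
theorem thetaC_irr (S : RgSetup p φ Q j φC) (hθ : IsIrrCharacter Q θ) :
    IsIrrCharacter (Q.comap j) (thetaC j Q θ) :=
  Helper20.irr_comp_surjective (j.subgroupComap Q) S.surj hθ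

theorem comap_le (L : RgLocal φ Q θ T η) : Q.comap j ≤ T.comap j := Subgroup.comap_mono L.hQT

theorem comap_inertia (S : RgSetup p φ Q j φC) (L : RgLocal φ Q θ T η) (c : C) :
    c ∈ T.comap j ↔ Helper20.conjFun (Q.comap j) (thetaC j Q θ) c = thetaC j Q θ := by
  rw [Subgroup.mem_comap, L.hT]
  have key : ∀ n : Q.comap j, Helper20.conjFun (Q.comap j) (thetaC j Q θ) c n =
      Helper20.conjFun Q θ (j c) (j.subgroupComap Q n) := by
    intro n
    rw [Helper20.conjFun_apply, Helper20.conjFun_apply]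
    apply congrArg θ
    apply Subtype.ext
    show j (c * n * c⁻¹) = j c * j n * (j c)⁻¹
    rw [map_mul, map_mul, map_inv]
  constructor
  · intro h
    funext n
    rw [key, h]
    rfl
  · intro h
    funext q
    obtain ⟨n, rfl⟩ := S.surj q
    rw [← key, h]
    rfl

theorem etaC_res (L : RgLocal φ Q θ T η) (n : Q.comap j) :
    etaC j T η ⟨(n : C), comap_le L n.2⟩ = thetaC j Q θ n := by
  show η (j.subgroupComap T ⟨(n : C), _⟩) = θ (j.subgroupComap Q n)
  rw [← L.hηN (j.subgroupComap Q n)]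
  exact congrArg η (Subtype.ext rfl)

theorem etaC_irr [Finite C] (S : RgSetup p φ Q j φC) (L : RgLocal φ Q θ T η) :
    IsIrrCharacter (T.comap j) (etaC j T η) := by
  have hch : IsCharacter (T.comap j) (etaC j T η) :=
    Helper20.isCharacter_comp (j.subgroupComap T) (Helper35.isChar_of_irr L.hη)
  apply Helper20.irr_of_res_irr ((Q.comap j).subgroupOf (T.comap j)) hch
  let e : (Q.comap j).subgroupOf (T.comap j) ≃* Q.comap j :=
    Subgroup.subgroupOfEquivOfLe (comap_le L)
  have h1 : (fun x : (Q.comap j).subgroupOf (T.comap j) => etaC j T η x) =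
      fun x => thetaC j Q θ (e x) := by
    funext x
    rw [← etaC_res L (e x)]
    exact congrArg (etaC j T η)
      (Subtype.ext (Subgroup.subgroupOfEquivOfLe_apply_coe (comap_le L) x).symm)
  rw [h1]
  exact Helper20.irr_comp_surjective e.toMonoidHom e.surjective (thetaC_irr S L.hθ)

theorem psi_inv (L : RgLocal φ Q θ T η) (hQφ : ∀ x, ∀ q ∈ Q, φ x q ∈ Q)
    (β : T ⧸ Q.subgroupOf T → ℂ) (hβ : ∀ x q, β (barAut φ Q T hQφ L.hTφ x q) = β q) (x : P)
    (t : T) : cgPsi Q T η β (Helper5.resAut φ T L.hTφ x t) = cgPsi Q T η β t := by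
  rw [cgPsi_apply, cgPsi_apply, L.hηP, ← barAut_mk φ Q T hQφ L.hTφ, hβ]

omit hQn in
theorem ind_inv [Fintype K] {T : Subgroup K} (hTφ : ∀ x, ∀ t ∈ T, φ x t ∈ T) (ψ : T → ℂ)
    (hψ : ∀ x (t : T), ψ (Helper5.resAut φ T hTφ x t) = ψ t) (x : P) (g : K) :
    indFun T ψ (φ x g) = indFun T ψ g := by
  rw [← indFun_equiv T (φ x) (Helper5.resAut φ T hTφ x) (fun t => rfl) ψ g]
  congr 1
  funext t
  exact hψ x t

theorem beta_inv [Fintype K] [Fintype Q] [Fintype T] (S : RgSetup p φ Q j φC)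
    (L : RgLocal φ Q θ T η) (β : IrrCharacter (T ⧸ Q.subgroupOf T))
    (hχ : ∀ x g, indFun T (cgPsi Q T η (β : T ⧸ Q.subgroupOf T → ℂ)) (φ x g) =
      indFun T (cgPsi Q T η (β : T ⧸ Q.subgroupOf T → ℂ)) g) (x : P)
    (q : T ⧸ Q.subgroupOf T) :
    (β : T ⧸ Q.subgroupOf T → ℂ) (barAut φ Q T S.hQφ L.hTφ x q) =
      (β : T ⧸ Q.subgroupOf T → ℂ) q := by
  let βx : IrrCharacter (T ⧸ Q.subgroupOf T) :=
    ⟨fun q => (β : T ⧸ Q.subgroupOf T → ℂ) (barAut φ Q T S.hQφ L.hTφ x q),
      Helper20.irr_comp_surjective (barAut φ Q T S.hQφ L.hTφ x).toMonoidHom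
        (barAut φ Q T S.hQφ L.hTφ x).surjective β.2⟩
  have h1 : cgPsi Q T η (βx : T ⧸ Q.subgroupOf T → ℂ) =
      fun t => cgPsi Q T η (β : T ⧸ Q.subgroupOf T → ℂ) (Helper5.resAut φ T L.hTφ x t) := by
    funext t
    rw [cgPsi_apply, cgPsi_apply, L.hηP]
    rfl
  have h2 : indFun T (cgPsi Q T η (βx : T ⧸ Q.subgroupOf T → ℂ)) =
      indFun T (cgPsi Q T η (β : T ⧸ Q.subgroupOf T → ℂ)) := by
    funext g
    rw [h1, indFun_equiv T (φ x) (Helper5.resAut φ T L.hTφ x) (fun t => rfl), hχ]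
  have h3 := cg_inj Q T L.hθ L.hT L.hQT L.hη L.hηN βx β h2
  exact congrFun (congrArg Subtype.val h3) q

theorem comap_inv (S : RgSetup p φ Q j φC) (L : RgLocal φ Q θ T η) :
    ∀ x, ∀ c ∈ T.comap j, φC x c ∈ T.comap j := by
  intro x c hc
  rw [Subgroup.mem_comap, S.hφC]
  exact L.hTφ x _ hc

theorem psiC_inv (S : RgSetup p φ Q j φC) (L : RgLocal φ Q θ T η)
    (β : (T.comap j) ⧸ (Q.comap j).subgroupOf (T.comap j) → ℂ) (x : P) (c : T.comap j) :
    cgPsi (Q.comap j) (T.comap j) (etaC j T η) β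
        (Helper5.resAut φC (T.comap j) (comap_inv S L) x c) =
      cgPsi (Q.comap j) (T.comap j) (etaC j T η) β c := by
  rw [cgPsi_apply, cgPsi_apply]
  congr 1
  · congr 1
    rw [QuotientGroup.eq, Subgroup.mem_subgroupOf, Subgroup.mem_comap]
    show j ((φC x c)⁻¹ * (c : C)) ∈ Q
    rw [map_mul, map_inv, S.hφC]
    exact S.comm c x
  · show η (j.subgroupComap T (Helper5.resAut φC (T.comap j) (comap_inv S L) x c)) =
      η (j.subgroupComap T c)
    rw [← L.hηP x (j.subgroupComap T c)]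
    exact congrArg η (Subtype.ext (S.hφC x c))

end cside

section core

variable {P : Type v} [Group P] {K C : Type u} [Group K] [Group C] [Fintype K] [Fintype C]
  {p : ℕ} [hp : Fact p.Prime] {φ : P →* MulAut K} {Q : Subgroup K} [hQn : Q.Normal] {j : C →* K}
  {φC : P →* MulAut C} {θ : Q → ℂ} {T : Subgroup K} {η : T → ℂ}

set_option maxHeartbeats 1000000 in
/-- the multiplicities modulo `p` -/
theorem rg_core [Fintype Q] [Fintype T] [Fintype (Q.comap j)] [Fintype (T.comap j)]
    [Fintype (T ⧸ Q.subgroupOf T)]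
    [Fintype ((T.comap j) ⧸ (Q.comap j).subgroupOf (T.comap j))]
    (S : RgSetup p φ Q j φC) (L : RgLocal φ Q θ T η)
    (β : IrrCharacter (T ⧸ Q.subgroupOf T))
    (hβ : ∀ x q, (β : T ⧸ Q.subgroupOf T → ℂ) (barAut φ Q T S.hQφ L.hTφ x q) =
      (β : T ⧸ Q.subgroupOf T → ℂ) q)
    {ξ : C → ℂ} (hξ : IsIrrCharacter C ξ) (hξP : ∀ x c, ξ (φC x c) = ξ c) :
    ∃ m : ℕ, classInner (fun c => indFun T (cgPsi Q T η (β : T ⧸ Q.subgroupOf T → ℂ)) (j c)) ξ
        = m ∧
      (∀ β'' : IrrCharacter ((T.comap j) ⧸ (Q.comap j).subgroupOf (T.comap j)),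
        ξ = indFun (T.comap j) (cgPsi (Q.comap j) (T.comap j) (etaC j T η)
          (β'' : (T.comap j) ⧸ (Q.comap j).subgroupOf (T.comap j) → ℂ)) →
        ∀ n : ℕ, classInner (fun c => (β : T ⧸ Q.subgroupOf T → ℂ) (barMap j Q T c))
          (β'' : (T.comap j) ⧸ (Q.comap j).subgroupOf (T.comap j) → ℂ) = n → m ≡ n [MOD p]) ∧
      ((∀ β'' : IrrCharacter ((T.comap j) ⧸ (Q.comap j).subgroupOf (T.comap j)),
        ξ ≠ indFun (T.comap j) (cgPsi (Q.comap j) (T.comap j) (etaC j T η)
          (β'' : (T.comap j) ⧸ (Q.comap j).subgroupOf (T.comap j) → ℂ))) → p ∣ m) := by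
  classical
  have hfin := Helper4.irr_finite (G := (T.comap j) ⧸ (Q.comap j).subgroupOf (T.comap j))
  let _ : Fintype (IrrCharacter ((T.comap j) ⧸ (Q.comap j).subgroupOf (T.comap j))) :=
    Fintype.ofFinite _
  have hψirr : IsIrrCharacter T (cgPsi Q T η (β : T ⧸ Q.subgroupOf T → ℂ)) :=
    cg_psi_irr Q T L.hθ L.hQT L.hη L.hηN β
  have hψch := Helper35.isChar_of_irr hψirr
  have hψP := psi_inv L S.hQφ (β : T ⧸ Q.subgroupOf T → ℂ) hβ
  have hξch := Helper35.isChar_of_irr hξ
  have hcfξ := Helper35.isClassFunction_of_isCharacter hξch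
  obtain ⟨m₀, hm₀⟩ := Helper35.classInner_char_nat
    (Helper20.isCharacter_comp j (Helper35.isCharacter_indFun T hψch)) hξch
  have hm₁ : ∃ m₁ : ℕ, classInner (fun c : T.comap j =>
      cgPsi Q T η (β : T ⧸ Q.subgroupOf T → ℂ) (j.subgroupComap T c))
      (fun c : T.comap j => ξ c) = m₁ :=
    Helper35.classInner_char_nat (Helper20.isCharacter_comp (j.subgroupComap T) hψch)
      (Helper20.isCharacter_comp (T.comap j).subtype hξch)
  obtain ⟨m₁, hm₁⟩ := hm₁
  -- orders
  have hQC : Nat.card (Q.comap j) = Nat.card Q := card_comap_of_le_range j S.hj Q S.hQle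
  have hr : Nat.card C = (Q.comap j).index * Nat.card Q := by
    rw [← hQC, Subgroup.index_mul_card]
  have ht : Nat.card T = (Q.subgroupOf T).index * Nat.card Q := by
    rw [← Nat.card_congr (Subgroup.subgroupOfEquivOfLe L.hQT).toEquiv, Subgroup.index_mul_card]
  have htC : Nat.card (T.comap j) =
      ((Q.comap j).subgroupOf (T.comap j)).index * Nat.card Q := by
    rw [← hQC, ← Nat.card_congr (Subgroup.subgroupOfEquivOfLe (comap_le L)).toEquiv,
      Subgroup.index_mul_card]
  have hmack := mackey_mod p S.hP φ Q S.hQφ j S.hj S.hC φC S.hφC T L.hQT L.hTφ hψch hψP hξch hξP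
    _ _ _ hr ht htC m₀ m₁ hm₀ hm₁
  have hcard := bar_card S L.hTφ (j := j) (T := T)
  rw [← Subgroup.index_eq_card, ← Subgroup.index_eq_card] at hcard
  have hpr : Nat.Coprime p (Q.comap j).index := by
    apply (Nat.Prime.coprime_iff_not_dvd hp.out).mpr
    intro h
    apply S.hQidx
    refine dvd_trans h ?_
    rw [Subgroup.index_comap]
    exact Subgroup.relIndex_dvd_index_of_normal Q j.range
  have hpt : Nat.Coprime p (Q.subgroupOf T).index :=
    (Nat.Prime.coprime_iff_not_dvd hp.out).mpr (fun h => S.hQidx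
      (dvd_trans h (Subgroup.relIndex_dvd_index_of_normal Q T)))
  have hm01 : m₀ ≡ m₁ [MOD p] := by
    have h1 : (Q.comap j).index * (Q.subgroupOf T).index * m₀ ≡
        (Q.comap j).index * (Q.subgroupOf T).index * m₁ [MOD p] :=
      hmack.trans (Nat.ModEq.mul_right _ (Nat.ModEq.mul_left _ hcard.symm))
    exact Nat.ModEq.cancel_left_of_coprime (Nat.Coprime.mul_right hpr hpt) h1
  -- the decomposition of the restriction of `β`
  obtain ⟨nn, hnn⟩ := Helper4.exists_decomp_of_isCharacter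
    (fun c => (β : T ⧸ Q.subgroupOf T → ℂ) (barMap j Q T c))
    (Helper20.isCharacter_comp (barMap j Q T) (Helper35.isChar_of_irr β.2))
  have hnn' : ∀ β'' : IrrCharacter ((T.comap j) ⧸ (Q.comap j).subgroupOf (T.comap j)),
      classInner (fun c => (β : T ⧸ Q.subgroupOf T → ℂ) (barMap j Q T c))
        (β'' : (T.comap j) ⧸ (Q.comap j).subgroupOf (T.comap j) → ℂ) = nn β'' := by
    intro β''
    have h1 := Helper4.classInner_sum_irr (fun χ => (nn χ : ℂ)) β''
    rw [← hnn] at h1
    exact h1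
  have hψsum : (fun c : T.comap j =>
      cgPsi Q T η (β : T ⧸ Q.subgroupOf T → ℂ) (j.subgroupComap T c)) =
      ∑ β'' : IrrCharacter ((T.comap j) ⧸ (Q.comap j).subgroupOf (T.comap j)),
        (nn β'' : ℂ) • cgPsi (Q.comap j) (T.comap j) (etaC j T η)
          (β'' : (T.comap j) ⧸ (Q.comap j).subgroupOf (T.comap j) → ℂ) := by
    funext c
    have h1 := congrFun hnn (c : (T.comap j) ⧸ (Q.comap j).subgroupOf (T.comap j))
    simp only [Finset.sum_apply, Pi.smul_apply, smul_eq_mul] at h1 ⊢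
    rw [cgPsi_apply, ← barMap_mk, h1, Finset.sum_mul]
    apply Finset.sum_congr rfl
    intro β'' _
    rw [cgPsi_apply, mul_assoc]
    rfl
  have hirrC : ∀ β'' : IrrCharacter ((T.comap j) ⧸ (Q.comap j).subgroupOf (T.comap j)),
      IsIrrCharacter C (indFun (T.comap j) (cgPsi (Q.comap j) (T.comap j) (etaC j T η)
        (β'' : (T.comap j) ⧸ (Q.comap j).subgroupOf (T.comap j) → ℂ))) := fun β'' =>
    cg_irr (Q.comap j) (T.comap j) (thetaC_irr S L.hθ) (comap_inertia S L) (comap_le L)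
      (etaC_irr S L) (etaC_res L) β''
  have hm₁' : (m₁ : ℂ) =
      ∑ β'' : IrrCharacter ((T.comap j) ⧸ (Q.comap j).subgroupOf (T.comap j)), (nn β'' : ℂ) *
        (if indFun (T.comap j) (cgPsi (Q.comap j) (T.comap j) (etaC j T η)
          (β'' : (T.comap j) ⧸ (Q.comap j).subgroupOf (T.comap j) → ℂ)) = ξ then 1 else 0) := by
    rw [← hm₁, hψsum, Helper35.classInner_sum_left]
    apply Finset.sum_congr rfl
    intro β'' _
    rw [Helper35.classInner_smul_left]
    congr 1
    have hfr := Helper35.frobenius_reciprocity (T.comap j)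
      (cgPsi (Q.comap j) (T.comap j) (etaC j T η)
        (β'' : (T.comap j) ⧸ (Q.comap j).subgroupOf (T.comap j) → ℂ)) ξ hcfξ
    rw [← Helper35.classInner_irr' (hirrC β'') hξ, hfr]
    rfl
  refine ⟨m₀, hm₀, ?_, ?_⟩
  · intro β'' hξeq n hn
    have h3 : m₁ = nn β'' := by
      have h4 : (m₁ : ℂ) = nn β'' := by
        rw [hm₁', Finset.sum_eq_single β'']
        · rw [if_pos hξeq.symm, mul_one]
        · intro b _ hb
          rw [if_neg, mul_zero]
          intro hb'
          apply hb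
          exact cg_inj (Q.comap j) (T.comap j) (thetaC_irr S L.hθ) (comap_inertia S L)
            (comap_le L) (etaC_irr S L) (etaC_res L) b β'' (hb'.trans hξeq)
        · intro h
          exact absurd (Finset.mem_univ _) h
      exact_mod_cast h4
    have h5 : n = nn β'' := by
      have h6 := hnn' β''
      rw [hn] at h6
      exact_mod_cast h6
    rw [h5, ← h3]
    exact hm01
  · intro hno
    have h3 : m₁ = 0 := by
      have h4 : (m₁ : ℂ) = 0 := by
        rw [hm₁']
        apply Finset.sum_eq_zero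
        intro b _
        rw [if_neg (fun h => hno b h.symm), mul_zero]
      exact_mod_cast h4
    rw [h3] at hm01
    exact (Nat.modEq_zero_iff_dvd).mp hm01

end core

end Cfsg.Agent.Lib.Helper83
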