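import Mathlib
import Cfsg.Agent.Lib.Helper83.Rg5

/-!
# Relative Glauberman correspondence, part 6: the correspondence

* `rg_local_a`, `rg_local_b`, `rg_local_c`: existence, injectivity and surjectivity of the
  correspondence over an invariant `θ ∈ Irr(Q)`;
* `rg_ex`, `rg_inj`, `rg_surj`: the global statements;
* `rg_main`: the bijection.
-/

set_option autoImplicit false

namespace Cfsg.Agent.Lib.Helper83

open scoped ComplexConjugate
open Cfsg Cfsg.Agent.Lib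

universe u v

section loc

variable {P : Type v} [Group P] [Finite P] {K C : Type u} [Group K] [Group C] [Fintype K]
  [Fintype C] {p : ℕ} [hp : Fact p.Prime] {φ : P →* MulAut K} {Q : Subgroup K} [hQn : Q.Normal]
  {j : C →* K} {φC : P →* MulAut C} {θ : Q → ℂ} {T : Subgroup K} {η : T → ℂ}

set_option maxHeartbeats 1000000 in
theorem rg_local_a [Fintype Q] (S : RgSetup p φ Q j φC) (L : RgLocal φ Q θ T η)
    (χ : IrrCharacter K) (hχ : ∀ x g, (χ : K → ℂ) (φ x g) = (χ : K → ℂ) g)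
    (hχθ : classInner (fun n : Q => (χ : K → ℂ) n) θ ≠ 0) :
    ∃ ξ₀ : IrrCharacter C, (∀ x c, (ξ₀ : C → ℂ) (φC x c) = (ξ₀ : C → ℂ) c) ∧
      (∃ m : ℕ, classInner (fun c => (χ : K → ℂ) (j c)) (ξ₀ : C → ℂ) = m ∧
        ((m : ℤ) ≡ 1 [ZMOD p] ∨ (m : ℤ) ≡ -1 [ZMOD p])) ∧
      ∀ ξ : IrrCharacter C, (∀ x c, (ξ : C → ℂ) (φC x c) = (ξ : C → ℂ) c) → ξ ≠ ξ₀ →
        ∃ m : ℕ, classInner (fun c => (χ : K → ℂ) (j c)) (ξ : C → ℂ) = m ∧ p ∣ m := by
  classical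
  let _ : Fintype T := Fintype.ofFinite _
  let _ : Fintype (Q.comap j) := Fintype.ofFinite _
  let _ : Fintype (T.comap j) := Fintype.ofFinite _
  let _ : Fintype (T ⧸ Q.subgroupOf T) := Fintype.ofFinite _
  let _ : Fintype ((T.comap j) ⧸ (Q.comap j).subgroupOf (T.comap j)) := Fintype.ofFinite _
  obtain ⟨β, hβ⟩ := cg_exists Q T L.hθ L.hT L.hQT L.hη L.hηN χ.2 hχθ
  have hβinv := beta_inv S L β (by
    intro x g
    rw [← hβ]
    exact hχ x g)
  have hOK := bar_glok S L.hTφ (j := j) (T := T)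
  obtain ⟨β₀, ⟨n₀, hn₀, hn₀pm⟩, hdiv⟩ := hOK.ex β hβinv
  have hirr₀ := cg_irr (Q.comap j) (T.comap j) (thetaC_irr S L.hθ) (comap_inertia S L)
    (comap_le L) (etaC_irr S L) (etaC_res L) β₀
  have hinv₀ : ∀ x c, indFun (T.comap j) (cgPsi (Q.comap j) (T.comap j) (etaC j T η)
      (β₀ : (T.comap j) ⧸ (Q.comap j).subgroupOf (T.comap j) → ℂ)) (φC x c) =
      indFun (T.comap j) (cgPsi (Q.comap j) (T.comap j) (etaC j T η)
      (β₀ : (T.comap j) ⧸ (Q.comap j).subgroupOf (T.comap j) → ℂ)) c :=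
    fun x c => ind_inv (comap_inv S L) _ (psiC_inv S L _) x c
  refine ⟨⟨_, hirr₀⟩, hinv₀, ?_, ?_⟩
  · obtain ⟨m, hm, h1, -⟩ := rg_core S L β hβinv hirr₀ hinv₀
    refine ⟨m, by rw [hβ]; exact hm, ?_⟩
    have h2 := h1 β₀ rfl n₀ hn₀
    have h3 : (m : ℤ) ≡ n₀ [ZMOD p] := Int.natCast_modEq_iff.mpr h2
    rcases hn₀pm with h | h
    · left
      exact h3.trans h
    · right
      exact h3.trans h
  · intro ξ hξP hne
    obtain ⟨m, hm, h1, h2⟩ := rg_core S L β hβinv ξ.2 hξP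
    refine ⟨m, by rw [hβ]; exact hm, ?_⟩
    by_cases hex : ∃ β'' : IrrCharacter ((T.comap j) ⧸ (Q.comap j).subgroupOf (T.comap j)),
        (ξ : C → ℂ) = indFun (T.comap j) (cgPsi (Q.comap j) (T.comap j) (etaC j T η)
          (β'' : (T.comap j) ⧸ (Q.comap j).subgroupOf (T.comap j) → ℂ))
    · obtain ⟨β'', hβ''⟩ := hex
      have hne' : β'' ≠ β₀ := by
        intro h
        apply hne
        apply Subtype.ext
        rw [hβ'', h]
      obtain ⟨n, hn, hpn⟩ := hdiv β'' hne'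
      have h3 := h1 β'' hβ'' n hn
      exact (Nat.modEq_zero_iff_dvd).mp (h3.trans ((Nat.modEq_zero_iff_dvd).mpr hpn))
    · push Not at hex
      exact h2 hex

set_option maxHeartbeats 1000000 in
theorem rg_local_b [Fintype Q] (S : RgSetup p φ Q j φC) (L : RgLocal φ Q θ T η)
    (χ₁ χ₂ : IrrCharacter K) (hχ₁ : ∀ x g, (χ₁ : K → ℂ) (φ x g) = (χ₁ : K → ℂ) g)
    (hχ₂ : ∀ x g, (χ₂ : K → ℂ) (φ x g) = (χ₂ : K → ℂ) g)
    (hχ₁θ : classInner (fun n : Q => (χ₁ : K → ℂ) n) θ ≠ 0)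
    (ξ : IrrCharacter C) (hξP : ∀ x c, (ξ : C → ℂ) (φC x c) = (ξ : C → ℂ) c) (m₁ m₂ : ℕ)
    (hm₁ : classInner (fun c => (χ₁ : K → ℂ) (j c)) (ξ : C → ℂ) = m₁) (hp₁ : ¬ p ∣ m₁)
    (hm₂ : classInner (fun c => (χ₂ : K → ℂ) (j c)) (ξ : C → ℂ) = m₂) (hp₂ : ¬ p ∣ m₂) :
    χ₁ = χ₂ := by
  classical
  let _ : Fintype T := Fintype.ofFinite _
  let _ : Fintype (Q.comap j) := Fintype.ofFinite _
  let _ : Fintype (T.comap j) := Fintype.ofFinite _
  let _ : Fintype (T ⧸ Q.subgroupOf T) := Fintype.ofFinite _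
  let _ : Fintype ((T.comap j) ⧸ (Q.comap j).subgroupOf (T.comap j)) := Fintype.ofFinite _
  obtain ⟨β₁, hβ₁⟩ := cg_exists Q T L.hθ L.hT L.hQT L.hη L.hηN χ₁.2 hχ₁θ
  have hβ₁inv := beta_inv S L β₁ (by
    intro x g
    rw [← hβ₁]
    exact hχ₁ x g)
  obtain ⟨m, hm, h1, h2⟩ := rg_core S L β₁ hβ₁inv ξ.2 hξP
  have hmm : m = m₁ := by
    rw [← hβ₁, hm₁] at hm
    exact_mod_cast hm.symm
  subst hmm
  have hex : ∃ β'' : IrrCharacter ((T.comap j) ⧸ (Q.comap j).subgroupOf (T.comap j)),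
      (ξ : C → ℂ) = indFun (T.comap j) (cgPsi (Q.comap j) (T.comap j) (etaC j T η)
        (β'' : (T.comap j) ⧸ (Q.comap j).subgroupOf (T.comap j) → ℂ)) := by
    by_contra hno
    push Not at hno
    exact hp₁ (h2 hno)
  obtain ⟨β'', hβ''⟩ := hex
  -- `χ₂` lies over `θ`
  have hχ₂θ : classInner (fun n : Q => (χ₂ : K → ℂ) n) θ ≠ 0 := by
    have hψirr := cg_psi_irr (Q.comap j) (T.comap j) (thetaC_irr S L.hθ) (comap_le L)
      (etaC_irr S L) (etaC_res L) β''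
    have hψover := cg_psi_over (Q.comap j) (T.comap j) (thetaC_irr S L.hθ) (comap_le L)
      (etaC_res L) β''
    have hch₂ : IsCharacter C (fun c => (χ₂ : K → ℂ) (j c)) :=
      Helper20.isCharacter_comp j (Helper35.isChar_of_irr χ₂.2)
    have hcf₂ := Helper35.isClassFunction_of_isCharacter hch₂
    have hfr := Helper35.frobenius_reciprocity' (T.comap j)
      (cgPsi (Q.comap j) (T.comap j) (etaC j T η)
        (β'' : (T.comap j) ⧸ (Q.comap j).subgroupOf (T.comap j) → ℂ)) _ hcf₂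
    have h3 : classInner (Helper35.res (T.comap j) (fun c => (χ₂ : K → ℂ) (j c)))
        (cgPsi (Q.comap j) (T.comap j) (etaC j T η)
          (β'' : (T.comap j) ⧸ (Q.comap j).subgroupOf (T.comap j) → ℂ)) ≠ 0 := by
      rw [← hfr, ← hβ'', hm₂]
      have h4 : m₂ ≠ 0 := fun h0 => hp₂ (h0 ▸ dvd_zero p)
      exact_mod_cast h4
    have h4 := const_trans (Subgroup.inclusion (comap_le L))
      (Helper35.isCharacter_res (T.comap j) hch₂) hψirr h3
      (Helper35.isChar_of_irr (thetaC_irr S L.hθ)) hψover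
    let e : Q.comap j ≃* Q := MulEquiv.ofBijective (j.subgroupComap Q)
      ⟨fun a b h => Subtype.ext (S.hj (congrArg Subtype.val h)), S.surj⟩
    have h5 := Helper20.classInner_comp_equiv e (fun n : Q => (χ₂ : K → ℂ) n) θ
    rw [← h5]
    exact h4
  obtain ⟨β₂, hβ₂⟩ := cg_exists Q T L.hθ L.hT L.hQT L.hη L.hηN χ₂.2 hχ₂θ
  have hβ₂inv := beta_inv S L β₂ (by
    intro x g
    rw [← hβ₂]
    exact hχ₂ x g)
  obtain ⟨m', hm', h1', -⟩ := rg_core S L β₂ hβ₂inv ξ.2 hξP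
  have hmm' : m' = m₂ := by
    rw [← hβ₂, hm₂] at hm'
    exact_mod_cast hm'.symm
  subst hmm'
  obtain ⟨n₁, hn₁⟩ := Helper35.classInner_char_nat
    (Helper20.isCharacter_comp (barMap j Q T) (Helper35.isChar_of_irr β₁.2))
    (Helper35.isChar_of_irr β''.2)
  obtain ⟨n₂, hn₂⟩ := Helper35.classInner_char_nat
    (Helper20.isCharacter_comp (barMap j Q T) (Helper35.isChar_of_irr β₂.2))
    (Helper35.isChar_of_irr β''.2)
  have hpn₁ : ¬ p ∣ n₁ := fun h => hp₁ ((Nat.modEq_zero_iff_dvd).mp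
    ((h1 β'' hβ'' n₁ hn₁).trans ((Nat.modEq_zero_iff_dvd).mpr h)))
  have hpn₂ : ¬ p ∣ n₂ := fun h => hp₂ ((Nat.modEq_zero_iff_dvd).mp
    ((h1' β'' hβ'' n₂ hn₂).trans ((Nat.modEq_zero_iff_dvd).mpr h)))
  have hOK := bar_glok S L.hTφ (j := j) (T := T)
  have hββ : β₁ = β₂ := hOK.inj β₁ β₂ hβ₁inv hβ₂inv β'' n₁ n₂ hn₁ hpn₁ hn₂ hpn₂
  apply Subtype.ext
  rw [hβ₁, hβ₂, hββ]

set_option maxHeartbeats 1000000 in
theorem rg_local_c [Fintype Q] [Fintype (Q.comap j)] (S : RgSetup p φ Q j φC)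
    (L : RgLocal φ Q θ T η)
    (ξ : IrrCharacter C) (hξP : ∀ x c, (ξ : C → ℂ) (φC x c) = (ξ : C → ℂ) c)
    (hξθ : classInner (fun n : Q.comap j => (ξ : C → ℂ) n) (thetaC j Q θ) ≠ 0) :
    ∃ χ : IrrCharacter K, (∀ x g, (χ : K → ℂ) (φ x g) = (χ : K → ℂ) g) ∧
      ∃ m : ℕ, classInner (fun c => (χ : K → ℂ) (j c)) (ξ : C → ℂ) = m ∧ ¬ p ∣ m := by
  classical
  let _ : Fintype T := Fintype.ofFinite _
  let _ : Fintype (T.comap j) := Fintype.ofFinite _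
  let _ : Fintype (T ⧸ Q.subgroupOf T) := Fintype.ofFinite _
  let _ : Fintype ((T.comap j) ⧸ (Q.comap j).subgroupOf (T.comap j)) := Fintype.ofFinite _
  obtain ⟨β'', hβ''⟩ := cg_exists (Q.comap j) (T.comap j) (thetaC_irr S L.hθ)
    (comap_inertia S L) (comap_le L) (etaC_irr S L) (etaC_res L) ξ.2 hξθ
  have hOK := bar_glok S L.hTφ (j := j) (T := T)
  obtain ⟨β, hβinv, n, hn, hpn⟩ := hOK.surj β''
  have hirr := cg_irr Q T L.hθ L.hT L.hQT L.hη L.hηN β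
  refine ⟨⟨_, hirr⟩, fun x g => ind_inv L.hTφ _ (psi_inv L S.hQφ _ hβinv) x g, ?_⟩
  obtain ⟨m, hm, h1, -⟩ := rg_core S L β hβinv ξ.2 hξP
  refine ⟨m, hm, ?_⟩
  intro hpm
  exact hpn ((Nat.modEq_zero_iff_dvd).mp
    ((h1 β'' hβ'' n hn).symm.trans ((Nat.modEq_zero_iff_dvd).mpr hpm)))

end loc

section glob

variable {P : Type v} [Group P] [Finite P] {K C : Type u} [Group K] [Group C] [Fintype K]
  [Fintype C] {p : ℕ} [hp : Fact p.Prime] {φ : P →* MulAut K} {Q : Subgroup K} [hQn : Q.Normal]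
  {j : C →* K} {φC : P →* MulAut C}

omit [Finite P] [Fintype C] in
/-- local data exist for every invariant `θ` -/
theorem exists_local (S : RgSetup p φ Q j φC) {θ : Q → ℂ} (hθ : IsIrrCharacter Q θ)
    (hθP : ∀ x (q : Q), θ (Helper5.resAut φ Q S.hQφ x q) = θ q) :
    ∃ (T : Subgroup K) (η : T → ℂ), RgLocal φ Q θ T η := by
  have hTφ : ∀ x, ∀ t ∈ inertia Q θ, φ x t ∈ inertia Q θ :=
    fun x t ht => inertia_inv S.hQφ θ hθP x t ht
  obtain ⟨η, hη, hηN, hηP⟩ := exists_inv_ext_inertia S.hQφ S.hQp S.hQidx hθ hθP (inertia Q θ)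
    (fun g => mem_inertia Q θ g) (le_inertia Q hθ) hTφ
  exact ⟨inertia Q θ, η, ⟨hθ, fun g => mem_inertia Q θ g, le_inertia Q hθ, hTφ, hη, hηN, hηP⟩⟩

theorem rg_ex (S : RgSetup p φ Q j φC) (χ : IrrCharacter K)
    (hχ : ∀ x g, (χ : K → ℂ) (φ x g) = (χ : K → ℂ) g) :
    ∃ ξ₀ : IrrCharacter C, (∀ x c, (ξ₀ : C → ℂ) (φC x c) = (ξ₀ : C → ℂ) c) ∧
      (∃ m : ℕ, classInner (fun c => (χ : K → ℂ) (j c)) (ξ₀ : C → ℂ) = m ∧
        ((m : ℤ) ≡ 1 [ZMOD p] ∨ (m : ℤ) ≡ -1 [ZMOD p])) ∧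
      ∀ ξ : IrrCharacter C, (∀ x c, (ξ : C → ℂ) (φC x c) = (ξ : C → ℂ) c) → ξ ≠ ξ₀ →
        ∃ m : ℕ, classInner (fun c => (χ : K → ℂ) (j c)) (ξ : C → ℂ) = m ∧ p ∣ m := by
  classical
  let _ : Fintype Q := Fintype.ofFinite _
  obtain ⟨θ, hθP, hθc⟩ := exists_inv_constituent p S.hP Q φ (Helper5.resAut φ Q S.hQφ)
    (fun x n => rfl) S.hQidx χ hχ
  obtain ⟨T, η, L⟩ := exists_local S θ.2 hθP
  exact rg_local_a S L χ hχ hθc

theorem rg_inj (S : RgSetup p φ Q j φC) (χ₁ χ₂ : IrrCharacter K)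
    (hχ₁ : ∀ x g, (χ₁ : K → ℂ) (φ x g) = (χ₁ : K → ℂ) g)
    (hχ₂ : ∀ x g, (χ₂ : K → ℂ) (φ x g) = (χ₂ : K → ℂ) g)
    (ξ : IrrCharacter C) (hξP : ∀ x c, (ξ : C → ℂ) (φC x c) = (ξ : C → ℂ) c) (m₁ m₂ : ℕ)
    (hm₁ : classInner (fun c => (χ₁ : K → ℂ) (j c)) (ξ : C → ℂ) = m₁) (hp₁ : ¬ p ∣ m₁)
    (hm₂ : classInner (fun c => (χ₂ : K → ℂ) (j c)) (ξ : C → ℂ) = m₂) (hp₂ : ¬ p ∣ m₂) :
    χ₁ = χ₂ := by
  classical
  let _ : Fintype Q := Fintype.ofFinite _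
  obtain ⟨θ, hθP, hθc⟩ := exists_inv_constituent p S.hP Q φ (Helper5.resAut φ Q S.hQφ)
    (fun x n => rfl) S.hQidx χ₁ hχ₁
  obtain ⟨T, η, L⟩ := exists_local S θ.2 hθP
  exact rg_local_b S L χ₁ χ₂ hχ₁ hχ₂ hθc ξ hξP m₁ m₂ hm₁ hp₁ hm₂ hp₂

theorem rg_surj (S : RgSetup p φ Q j φC) (ξ : IrrCharacter C)
    (hξP : ∀ x c, (ξ : C → ℂ) (φC x c) = (ξ : C → ℂ) c) :
    ∃ χ : IrrCharacter K, (∀ x g, (χ : K → ℂ) (φ x g) = (χ : K → ℂ) g) ∧
      ∃ m : ℕ, classInner (fun c => (χ : K → ℂ) (j c)) (ξ : C → ℂ) = m ∧ ¬ p ∣ m := by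
  classical
  let _ : Fintype Q := Fintype.ofFinite _
  let _ : Fintype (Q.comap j) := Fintype.ofFinite _
  have hQCφ : ∀ x, ∀ n ∈ Q.comap j, φC x n ∈ Q.comap j := by
    intro x n hn
    rw [Subgroup.mem_comap, S.hφC]
    exact S.hQφ x _ hn
  have hidx : ¬ p ∣ (Q.comap j).index := by
    intro h
    apply S.hQidx
    refine dvd_trans h ?_
    rw [Subgroup.index_comap]
    exact Subgroup.relIndex_dvd_index_of_normal Q j.range
  obtain ⟨θC, hθCP, hθCc⟩ := exists_inv_constituent p S.hP (Q.comap j) φC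
    (Helper5.resAut φC (Q.comap j) hQCφ) (fun x n => rfl) hidx ξ hξP
  let e : Q.comap j ≃* Q := MulEquiv.ofBijective (j.subgroupComap Q)
    ⟨fun a b h => Subtype.ext (S.hj (congrArg Subtype.val h)), S.surj⟩
  have he : ∀ n : Q.comap j, ((e n : Q) : K) = j n := fun n => rfl
  let θ : Q → ℂ := fun q => (θC : Q.comap j → ℂ) (e.symm q)
  have hθ : IsIrrCharacter Q θ :=
    Helper20.irr_comp_surjective e.symm.toMonoidHom e.symm.surjective θC.2
  have hθP : ∀ x (q : Q), θ (Helper5.resAut φ Q S.hQφ x q) = θ q := by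
    intro x q
    show (θC : Q.comap j → ℂ) (e.symm (Helper5.resAut φ Q S.hQφ x q)) =
      (θC : Q.comap j → ℂ) (e.symm q)
    rw [← hθCP x (e.symm q)]
    apply congrArg (θC : Q.comap j → ℂ)
    apply e.injective
    rw [MulEquiv.apply_symm_apply]
    apply Subtype.ext
    rw [he]
    show φ x (q : K) = j (φC x ((e.symm q : Q.comap j) : C))
    rw [S.hφC, ← he, MulEquiv.apply_symm_apply]
  have hθeq : thetaC j Q θ = (θC : Q.comap j → ℂ) := by
    funext n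
    show (θC : Q.comap j → ℂ) (e.symm (j.subgroupComap Q n)) = (θC : Q.comap j → ℂ) n
    exact congrArg (θC : Q.comap j → ℂ) (e.symm_apply_apply n)
  obtain ⟨T, η, L⟩ := exists_local S hθ hθP
  exact rg_local_c S L ξ hξP (by rw [hθeq]; exact hθCc)

set_option maxHeartbeats 1000000 in
/-- **the relative Glauberman correspondence** for a `p`-group `P` acting on a group `K` with a
normal Sylow `p`-subgroup `Q`, where `C/Q` is the fixed point subgroup of `P` on `K/Q` -/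
theorem rg_main (S : RgSetup p φ Q j φC) :
    ∃ f : {χ : IrrCharacter K // ∀ x g, (χ : K → ℂ) (φ x g) = (χ : K → ℂ) g} →
        {ξ : IrrCharacter C // ∀ x c, (ξ : C → ℂ) (φC x c) = (ξ : C → ℂ) c},
      Function.Bijective f ∧ ∀ χ,
        (∀ ξ : {ξ : IrrCharacter C // ∀ x c, (ξ : C → ℂ) (φC x c) = (ξ : C → ℂ) c},
          ∃ m : ℕ, classInner (fun c => (χ.1 : K → ℂ) (j c)) (ξ.1 : C → ℂ) = m ∧
            (ξ = f χ → ((m : ℤ) ≡ 1 [ZMOD p] ∨ (m : ℤ) ≡ -1 [ZMOD p])) ∧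
            (ξ ≠ f χ → p ∣ m)) ∧
        ((charDegree ((f χ).1 : C → ℂ) : ℤ) ≡ (charDegree (χ.1 : K → ℂ) : ℤ) [ZMOD p] ∨
          (charDegree ((f χ).1 : C → ℂ) : ℤ) ≡ -(charDegree (χ.1 : K → ℂ) : ℤ) [ZMOD p]) := by
  classical
  have hE := fun (χ : {χ : IrrCharacter K // ∀ x g, (χ : K → ℂ) (φ x g) = (χ : K → ℂ) g}) =>
    rg_ex S χ.1 χ.2
  choose f₀ hf₀inv hf₀pm hf₀div using hE
  have hnd : ∀ χ, ∀ (m : ℕ),
      classInner (fun c => (χ.1 : K → ℂ) (j c)) ((f₀ χ : IrrCharacter C) : C → ℂ) = m →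
      ¬ p ∣ m := by
    intro χ m hm
    obtain ⟨m', hm', hpm'⟩ := hf₀pm χ
    have h1 : m' = m := by
      rw [hm] at hm'
      exact_mod_cast hm'.symm
    subst h1
    exact Helper5.pm_not_dvd p m' hpm'
  refine ⟨fun χ => ⟨f₀ χ, hf₀inv χ⟩, ⟨?_, ?_⟩, ?_⟩
  · intro χ₁ χ₂ h
    obtain ⟨m₁, hm₁, -⟩ := hf₀pm χ₁
    obtain ⟨m₂, hm₂, -⟩ := hf₀pm χ₂
    have h' : f₀ χ₁ = f₀ χ₂ := congrArg Subtype.val h
    apply Subtype.ext
    have hm₂' := hm₂
    rw [← h'] at hm₂'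
    exact rg_inj S χ₁.1 χ₂.1 χ₁.2 χ₂.2 (f₀ χ₁) (hf₀inv χ₁) m₁ m₂ hm₁ (hnd χ₁ m₁ hm₁) hm₂'
      (hnd χ₂ m₂ hm₂)
  · intro ξ
    obtain ⟨χ, hχ, m, hm, hpm⟩ := rg_surj S ξ.1 ξ.2
    refine ⟨⟨χ, hχ⟩, ?_⟩
    by_contra hne
    have hne' : ξ.1 ≠ f₀ ⟨χ, hχ⟩ := fun h => hne (Subtype.ext h.symm)
    obtain ⟨m', hm', hpm'⟩ := hf₀div ⟨χ, hχ⟩ ξ.1 ξ.2 hne'
    have h1 : m' = m := by
      rw [hm] at hm'
      exact_mod_cast hm'.symm
    exact hpm (h1 ▸ hpm')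
  · intro χ
    constructor
    · intro ξ
      by_cases h : ξ = ⟨f₀ χ, hf₀inv χ⟩
      · obtain ⟨m, hm, hpm⟩ := hf₀pm χ
        refine ⟨m, by rw [h]; exact hm, fun _ => hpm, fun hne => absurd h hne⟩
      · have hne' : ξ.1 ≠ f₀ χ := fun h' => h (Subtype.ext h')
        obtain ⟨m, hm, hpm⟩ := hf₀div χ ξ.1 ξ.2 hne'
        exact ⟨m, hm, fun h' => absurd h' h, fun _ => hpm⟩
    · have hfinC := Helper4.irr_finite (G := C)
      let _ : Fintype (IrrCharacter C) := Fintype.ofFinite _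
      have hψ : IsCharacter C (fun c => (χ.1 : K → ℂ) (j c)) :=
        Helper20.isCharacter_comp j (Helper35.isChar_of_irr χ.1.2)
      obtain ⟨mm, hmm⟩ := Helper4.exists_decomp_of_isCharacter _ hψ
      have hmm' : ∀ ξ : IrrCharacter C,
          classInner (fun c => (χ.1 : K → ℂ) (j c)) (ξ : C → ℂ) = mm ξ := by
        intro ξ
        have h1 := Helper4.classInner_sum_irr (fun χ => (mm χ : ℂ)) ξ
        rw [← hmm] at h1
        exact h1
      have hψinv : ∀ x c, (fun c => (χ.1 : K → ℂ) (j c)) (φC x c) =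
          (fun c => (χ.1 : K → ℂ) (j c)) c := by
        intro x c
        show (χ.1 : K → ℂ) (j (φC x c)) = (χ.1 : K → ℂ) (j c)
        rw [S.hφC, χ.2]
      have hmminv : ∀ (x : P) (ξ : IrrCharacter C),
          mm ((Helper5.irrAct φC).toSMul.smul x ξ) = mm ξ := by
        intro x ξ
        have h1 := Helper5.irrAct_inner φC (fun c => (χ.1 : K → ℂ) (j c)) hψinv x ξ
        rw [hmm', hmm'] at h1
        exact_mod_cast h1
      have hdeg : charDegree (χ.1 : K → ℂ) =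
          ∑ ξ : IrrCharacter C, mm ξ * charDegree (ξ : C → ℂ) := by
        have h1 := congrFun hmm 1
        simp only [Finset.sum_apply, Pi.smul_apply, smul_eq_mul] at h1
        rw [map_one, (irr_degree χ.1.2).2] at h1
        have h3 : ∀ ξ : IrrCharacter C, (ξ : C → ℂ) 1 = (charDegree (ξ : C → ℂ) : ℂ) :=
          fun ξ => (irr_degree ξ.2).2
        simp only [h3] at h1
        exact_mod_cast h1
      have hQ : ∀ ξ : IrrCharacter C, (∀ x c, (ξ : C → ℂ) (φC x c) = (ξ : C → ℂ) c) ↔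
          ∀ g : P, (Helper5.irrAct φC).toSMul.smul g ξ = ξ :=
        fun ξ => (Helper5.irrAct_fixed_iff φC ξ).symm
      have hsum := @Helper5.sum_modEq_fixed P (IrrCharacter C) _ (Helper5.irrAct φC) _ p _ S.hP
        (fun ξ => mm ξ * charDegree (ξ : C → ℂ)) (fun g ξ => by
          change mm ((Helper5.irrAct φC).toSMul.smul g ξ) *
            charDegree (((Helper5.irrAct φC).toSMul.smul g ξ : IrrCharacter C) : C → ℂ) =
              mm ξ * charDegree (ξ : C → ℂ)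
          rw [hmminv, Helper5.irrAct_deg])
        (fun ξ => ∀ x c, (ξ : C → ℂ) (φC x c) = (ξ : C → ℂ) c) _ hQ
      have hrhs : ∑ ξ : IrrCharacter C,
          (if (∀ x c, (ξ : C → ℂ) (φC x c) = (ξ : C → ℂ) c) then
            mm ξ * charDegree (ξ : C → ℂ) else 0) ≡
          mm (f₀ χ) * charDegree ((f₀ χ : IrrCharacter C) : C → ℂ) [MOD p] := by
        rw [← Finset.add_sum_erase Finset.univ _ (Finset.mem_univ (f₀ χ)), if_pos (hf₀inv χ)]
        have h4 : ∑ ξ ∈ Finset.univ.erase (f₀ χ),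
            (if (∀ x c, (ξ : C → ℂ) (φC x c) = (ξ : C → ℂ) c) then
              mm ξ * charDegree (ξ : C → ℂ) else 0) ≡ 0 [MOD p] := by
          apply (Nat.modEq_zero_iff_dvd).mpr
          apply Finset.dvd_sum
          intro ξ hξ
          by_cases hq : ∀ x c, (ξ : C → ℂ) (φC x c) = (ξ : C → ℂ) c
          · rw [if_pos hq]
            obtain ⟨m, hm, hpm⟩ := hf₀div χ ξ hq (Finset.ne_of_mem_erase hξ)
            rw [hmm'] at hm
            have h5 : mm ξ = m := by exact_mod_cast hm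
            rw [h5]
            exact Dvd.dvd.mul_right hpm _
          · rw [if_neg hq]
            exact dvd_zero p
        simpa using Nat.ModEq.add_left
          (mm (f₀ χ) * charDegree ((f₀ χ : IrrCharacter C) : C → ℂ)) h4
      have hfin : charDegree (χ.1 : K → ℂ) ≡
          mm (f₀ χ) * charDegree ((f₀ χ : IrrCharacter C) : C → ℂ) [MOD p] := by
        rw [hdeg]
        exact hsum.trans hrhs
      obtain ⟨m, hm, hpm⟩ := hf₀pm χ
      have hm0 : mm (f₀ χ) = m := by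
        rw [hmm'] at hm
        exact_mod_cast hm
      rw [hm0] at hfin
      have hfinZ : (charDegree (χ.1 : K → ℂ) : ℤ) ≡
          (m : ℤ) * (charDegree ((f₀ χ : IrrCharacter C) : C → ℂ) : ℤ) [ZMOD p] := by
        have h6 := Int.natCast_modEq_iff.mpr hfin
        push_cast at h6
        exact h6
      rcases hpm with h | h
      · left
        have h5 := Int.ModEq.mul_right (charDegree ((f₀ χ : IrrCharacter C) : C → ℂ) : ℤ) h
        rw [one_mul] at h5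
        exact (hfinZ.trans h5).symm
      · right
        have h5 := Int.ModEq.mul_right (charDegree ((f₀ χ : IrrCharacter C) : C → ℂ) : ℤ) h
        have h6 := (hfinZ.trans h5).neg
        rw [neg_mul, one_mul, neg_neg] at h6
        exact h6.symm

end glob

end Cfsg.Agent.Lib.Helper83
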