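import Mathlib
import Cfsg.Agent.Lib.Helper83.Rg6

/-!
# Relative Glauberman correspondence, part 7: conjugation actions

* `conjAct`: the action by conjugation of a subgroup `P` on a subgroup `H` which it normalises;
* `mem_of_pow_of_coprime`: an element whose order is prime to the index of a normal subgroup lies
  in it.
-/

set_option autoImplicit false

namespace Cfsg.Agent.Lib.Helper83

open Cfsg

section conj

variable {G : Type*} [Group G]

/-- the action by conjugation of a subgroup `P` on a subgroup `H` which it normalises -/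
def conjAct (P H : Subgroup G) (h : ∀ x ∈ P, ∀ k ∈ H, x * k * x⁻¹ ∈ H) : P →* MulAut H where
  toFun x :=
    { toFun := fun k => ⟨(x : G) * (k : G) * (x : G)⁻¹, h x x.2 k k.2⟩
      invFun := fun k => ⟨(x : G)⁻¹ * (k : G) * (x : G), by
        have h1 := h (x : G)⁻¹ (P.inv_mem x.2) k k.2
        rwa [inv_inv] at h1⟩
      left_inv := fun k => by
        apply Subtype.ext
        show (x : G)⁻¹ * ((x : G) * (k : G) * (x : G)⁻¹) * (x : G) = (k : G)
        group
      right_inv := fun k => by
        apply Subtype.ext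
        show (x : G) * ((x : G)⁻¹ * (k : G) * (x : G)) * (x : G)⁻¹ = (k : G)
        group
      map_mul' := fun a b => by
        apply Subtype.ext
        show (x : G) * ((a : G) * (b : G)) * (x : G)⁻¹ =
          ((x : G) * (a : G) * (x : G)⁻¹) * ((x : G) * (b : G) * (x : G)⁻¹)
        group }
  map_one' := by
    apply MulEquiv.ext
    intro k
    apply Subtype.ext
    show ((1 : P) : G) * (k : G) * ((1 : P) : G)⁻¹ = (k : G)
    rw [Subgroup.coe_one, one_mul, inv_one, mul_one]
  map_mul' x y := by
    apply MulEquiv.ext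
    intro k
    apply Subtype.ext
    show ((x * y : P) : G) * (k : G) * ((x * y : P) : G)⁻¹ =
      (x : G) * ((y : G) * (k : G) * (y : G)⁻¹) * (x : G)⁻¹
    rw [Subgroup.coe_mul]
    group

theorem conjAct_apply (P H : Subgroup G) (h : ∀ x ∈ P, ∀ k ∈ H, x * k * x⁻¹ ∈ H) (x : P)
    (k : H) : ((conjAct P H h x k : H) : G) = (x : G) * (k : G) * (x : G)⁻¹ := rfl

end conj

/-- an element whose order is prime to the index of a normal subgroup lies in it -/
theorem mem_of_pow_of_coprime {H : Type*} [Group H] [Finite H] (N : Subgroup H) [N.Normal]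
    (h : H) (n : ℕ) (hn : h ^ n = 1) (hcop : Nat.Coprime n N.index) : h ∈ N := by
  rw [← QuotientGroup.eq_one_iff]
  have h1 : (h : H ⧸ N) ^ n = 1 := by
    rw [← QuotientGroup.mk_pow, hn]
    rfl
  have h2 : (h : H ⧸ N) ^ Nat.card (H ⧸ N) = 1 := pow_card_eq_one'
  have h3 := pow_gcd_eq_one.mpr ⟨h1, h2⟩
  rw [← Subgroup.index_eq_card, Nat.Coprime.gcd_eq_one hcop, pow_one] at h3
  exact h3

end Cfsg.Agent.Lib.Helper83
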