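import Mathlib
import Cfsg.Agent.Lib.Helper83.Rg7

set_option autoImplicit false

/-! Groups with a normal `p`-complement `N` and abelian quotient: the conjugacy classes of
size prime to `p`. -/

namespace Cfsg.Agent.Lib.Helper83

section pc

variable {G : Type*} [Group G] [Finite G] (p : ℕ) [hp : Fact p.Prime] (N : Subgroup G)
  [hNn : N.Normal] (P : Sylow p G)

/-- the size of a conjugacy class is the index of the centralizer -/
theorem pc_class_card (g : G) :
    Nat.card (ConjClasses.mk g).carrier = (Subgroup.centralizer ({g} : Set G)).index := by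
  have h1 := Subgroup.card_mul_index (Subgroup.centralizer ({g} : Set G))
  have h2 : Nat.card (Subgroup.centralizer ({g} : Set G)) *
      Nat.card (ConjClasses.mk g).carrier = Nat.card G := by
    rw [Subgroup.nat_card_centralizer_nat_card_stabilizer,
      ← ConjAct.orbit_eq_carrier_conjClasses, Nat.card_coe_set_eq, ← MulAction.index_stabilizer,
      Subgroup.card_mul_index]
    rfl
  exact Nat.eq_of_mul_eq_mul_left Nat.card_pos (h2.trans h1.symm)

omit hNn in
/-- the order of a Sylow subgroup is the index of a normal `p`-complement -/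
theorem pc_card_sylow (hN : (Nat.card N).Coprime p) {k : ℕ} (hidx : N.index = p ^ k) :
    Nat.card P = N.index := by
  have hnd : ¬ p ∣ Nat.card N := (Nat.Prime.coprime_iff_not_dvd hp.out).mp hN.symm
  rw [Sylow.card_eq_multiplicity, ← Subgroup.card_mul_index N, hidx,
    Nat.factorization_mul Nat.card_pos.ne' (pow_ne_zero _ hp.out.ne_zero), Finsupp.add_apply,
    Nat.factorization_eq_zero_of_not_dvd hnd, hp.out.factorization_pow, Finsupp.single_eq_same,
    zero_add]

omit [Finite G] hNn in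
/-- `N ∩ P = 1` -/
theorem pc_inf [Finite N] (hN : (Nat.card N).Coprime p) {x : G} (hxN : x ∈ N)
    (hxP : x ∈ (P : Subgroup G)) : x = 1 := by
  have h1 : orderOf x ∣ Nat.card N := by
    have h := orderOf_dvd_natCard (⟨x, hxN⟩ : N)
    rwa [Subgroup.orderOf_mk] at h
  obtain ⟨j, hj⟩ := P.isPGroup' ⟨x, hxP⟩
  have h2 : orderOf x ∣ p ^ j := by
    apply orderOf_dvd_of_pow_eq_one
    exact congrArg Subtype.val hj
  have h3 : orderOf x ∣ 1 := by
    have h := Nat.dvd_gcd h1 h2
    rwa [Nat.Coprime.gcd_eq_one (Nat.Coprime.pow_right j hN)] at h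
  exact orderOf_eq_one_iff.mp (Nat.dvd_one.mp h3)

/-- `G = N P` -/
theorem pc_decomp (hN : (Nat.card N).Coprime p) {k : ℕ} (hidx : N.index = p ^ k) (g : G) :
    ∃ n ∈ N, ∃ x ∈ (P : Subgroup G), g = n * x := by
  let f : (P : Subgroup G) →* G ⧸ N := (QuotientGroup.mk' N).comp (P : Subgroup G).subtype
  have hinj : Function.Injective f := by
    rw [injective_iff_map_eq_one]
    intro x hx
    have h1 : (x : G) ∈ N := (QuotientGroup.eq_one_iff _).mp hx
    exact Subtype.ext (pc_inf p N P hN h1 x.2)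
  have hcard : Nat.card (G ⧸ N) ≤ Nat.card (P : Subgroup G) := by
    rw [pc_card_sylow p N P hN hidx, Subgroup.index_eq_card]
  have hsurj := (Function.Injective.bijective_of_nat_card_le hinj hcard).2
  obtain ⟨x, hx⟩ := hsurj (g : G ⧸ N)
  refine ⟨g * (x : G)⁻¹, ?_, x, x.2, by group⟩
  rw [← QuotientGroup.eq_one_iff, QuotientGroup.mk_mul, QuotientGroup.mk_inv]
  have h2 : ((x : G) : G ⧸ N) = g := hx
  rw [h2, mul_inv_cancel]

omit [Finite G] hNn in
/-- with abelian quotient, the normalizer of `P` centralizes `P` -/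
theorem pc_comm [Finite N] (hN : (Nat.card N).Coprime p)
    (hab : ∀ a b : G, a * b * a⁻¹ * b⁻¹ ∈ N)
    {n x : G} (hn : n ∈ Subgroup.normalizer ((P : Subgroup G) : Set G)) (hx : x ∈ (P : Subgroup G)) :
    n * x = x * n := by
  have h1 : n * x * n⁻¹ * x⁻¹ ∈ (P : Subgroup G) := by
    have h := (Subgroup.mem_normalizer_iff.mp hn x).mp hx
    exact (P : Subgroup G).mul_mem h ((P : Subgroup G).inv_mem hx)
  have h2 := pc_inf p N P hN (hab n x) h1
  calc n * x = (n * x * n⁻¹ * x⁻¹) * (x * n) := by group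
    _ = x * n := by rw [h2, one_mul]

/-- the fixed points of `P` in `N`, as a subgroup of `N` -/
def pcC : Subgroup N where
  carrier := {n | ∀ x ∈ (P : Subgroup G), x * (n : G) = (n : G) * x}
  mul_mem' := by
    intro a b ha hb x hx
    rw [Subgroup.coe_mul, ← mul_assoc, ha x hx, mul_assoc, hb x hx, mul_assoc]
  one_mem' := by
    intro x _
    simp
  inv_mem' := by
    intro a ha x hx
    rw [Subgroup.coe_inv]
    have h := ha x hx
    calc x * (a : G)⁻¹ = (a : G)⁻¹ * ((a : G) * x) * (a : G)⁻¹ := by group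
      _ = (a : G)⁻¹ * (x * (a : G)) * (a : G)⁻¹ := by rw [h]
      _ = (a : G)⁻¹ * x := by group

omit [Finite G] hp hNn in
theorem mem_pcC (n : N) :
    n ∈ pcC p N P ↔ ∀ x ∈ (P : Subgroup G), x * (n : G) = (n : G) * x := Iff.rfl

omit [Finite G] hNn in
/-- elements `c x` with `c ∈ C_N(P)`, `x ∈ P` centralize `P` -/
theorem pc_cent [Finite N] (hN : (Nat.card N).Coprime p)
    (hab : ∀ a b : G, a * b * a⁻¹ * b⁻¹ ∈ N) (c : pcC p N P) (x : (P : Subgroup G)) :
    ((c : N) : G) * (x : G) ∈ Subgroup.centralizer ((P : Subgroup G) : Set G) := by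
  rw [Subgroup.mem_centralizer_iff]
  intro y hy
  have h1 : y * ((c : N) : G) = ((c : N) : G) * y := c.2 y hy
  have h2 : y * (x : G) = (x : G) * y :=
    pc_comm p N P hN hab (Subgroup.le_normalizer hy) x.2
  rw [← mul_assoc, h1, mul_assoc, h2, mul_assoc]

/-- the class of `c x` -/
def pcMap (cx : ConjClasses (pcC p N P) × (P : Subgroup G)) : ConjClasses G :=
  Quotient.liftOn cx.1 (fun c => ConjClasses.mk (((c : N) : G) * (cx.2 : G))) (by
    intro c c' h
    have h' : IsConj c c' := h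
    obtain ⟨d, hd⟩ := isConj_iff.mp h'
    apply ConjClasses.mk_eq_mk_iff_isConj.mpr
    rw [isConj_iff]
    refine ⟨((d : N) : G), ?_⟩
    have h1 : (((c' : N) : G)) = ((d : N) : G) * ((c : N) : G) * ((d : N) : G)⁻¹ := by
      rw [← hd]
      rfl
    rw [h1]
    have h2 : (cx.2 : G) * ((d : N) : G) = ((d : N) : G) * (cx.2 : G) := d.2 (cx.2 : G) cx.2.2
    have h3 : (cx.2 : G) * ((d : N) : G)⁻¹ = ((d : N) : G)⁻¹ * (cx.2 : G) :=
      (Commute.inv_right (show Commute (cx.2 : G) ((d : N) : G) from h2)).eq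
    calc ((d : N) : G) * (((c : N) : G) * (cx.2 : G)) * ((d : N) : G)⁻¹
        = ((d : N) : G) * ((c : N) : G) * ((cx.2 : G) * ((d : N) : G)⁻¹) := by group
      _ = ((d : N) : G) * ((c : N) : G) * (((d : N) : G)⁻¹ * (cx.2 : G)) := by rw [h3]
      _ = ((d : N) : G) * ((c : N) : G) * ((d : N) : G)⁻¹ * (cx.2 : G) := by group)

omit [Finite G] hp hNn in
theorem pcMap_mk (c : pcC p N P) (x : (P : Subgroup G)) :
    pcMap p N P (ConjClasses.mk c, x) = ConjClasses.mk (((c : N) : G) * (x : G)) := rfl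

omit hNn in
/-- the classes in the image have size prime to `p` -/
theorem pcMap_good (hN : (Nat.card N).Coprime p) (hab : ∀ a b : G, a * b * a⁻¹ * b⁻¹ ∈ N)
    (cx : ConjClasses (pcC p N P) × (P : Subgroup G)) :
    ¬ p ∣ Nat.card (pcMap p N P cx).carrier := by
  obtain ⟨c, x⟩ := cx
  obtain ⟨c, rfl⟩ := ConjClasses.mk_surjective c
  rw [pcMap_mk, pc_class_card]
  intro hdvd
  have h1 : (P : Subgroup G) ≤ Subgroup.centralizer ({((c : N) : G) * (x : G)} : Set G) := by
    intro y hy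
    rw [Subgroup.mem_centralizer_iff]
    intro z hz
    rw [Set.mem_singleton_iff] at hz
    subst hz
    exact ((Subgroup.mem_centralizer_iff.mp (pc_cent p N P hN hab c x)) y hy).symm
  exact P.not_dvd_index (dvd_trans hdvd (Subgroup.index_dvd_of_le h1))

/-- every class of size prime to `p` is in the image -/
theorem pcMap_surj (hN : (Nat.card N).Coprime p) {k : ℕ} (hidx : N.index = p ^ k)
    (hab : ∀ a b : G, a * b * a⁻¹ * b⁻¹ ∈ N) (K : ConjClasses G)
    (hK : ¬ p ∣ Nat.card K.carrier) : ∃ cx, pcMap p N P cx = K := by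
  obtain ⟨g, rfl⟩ := ConjClasses.mk_surjective K
  let P' : Subgroup (ConjAct G) :=
    (P : Subgroup G).map (ConjAct.toConjAct (G := G)).toMonoidHom
  have hP' : IsPGroup p P' := P.isPGroup'.map _
  have hnd : ¬ p ∣ Nat.card (MulAction.orbit (ConjAct G) g) := by
    rw [ConjAct.orbit_eq_carrier_conjClasses]
    exact hK
  obtain ⟨⟨y, hy⟩, hfix⟩ := hP'.nonempty_fixed_point_of_prime_not_dvd_card
    (MulAction.orbit (ConjAct G) g) hnd
  have hyg : IsConj y g := ConjAct.mem_orbit_conjAct.mp hy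
  have hfix' : ∀ x ∈ (P : Subgroup G), x * y = y * x := by
    intro x hx
    have h1 := hfix ⟨ConjAct.toConjAct x, Subgroup.mem_map_of_mem _ hx⟩
    have h2 : ConjAct.toConjAct x • y = y := congrArg Subtype.val h1
    rw [ConjAct.toConjAct_smul] at h2
    calc x * y = x * y * x⁻¹ * x := by group
      _ = y * x := by rw [h2]
  obtain ⟨n, hn, x, hx, hnx⟩ := pc_decomp p N P hN hidx y
  have hnc : (⟨n, hn⟩ : N) ∈ pcC p N P := by
    intro z hz
    show z * n = n * z
    have h1 : n = y * x⁻¹ := by rw [hnx]; group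
    have h2 : z * x⁻¹ = x⁻¹ * z := by
      have h3 : z * x = x * z :=
        pc_comm p N P hN hab (Subgroup.le_normalizer hz) hx
      exact (Commute.inv_right (show Commute z x from h3)).eq
    rw [h1, ← mul_assoc, hfix' z hz, mul_assoc, h2, mul_assoc]
  refine ⟨(ConjClasses.mk (⟨⟨n, hn⟩, hnc⟩ : pcC p N P), ⟨x, hx⟩), ?_⟩
  rw [pcMap_mk]
  apply ConjClasses.mk_eq_mk_iff_isConj.mpr
  show IsConj (n * x) g
  rw [← hnx]
  exact hyg

/-- the map is injective -/
theorem pcMap_injective (hN : (Nat.card N).Coprime p) {k : ℕ} (hidx : N.index = p ^ k)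
    (hab : ∀ a b : G, a * b * a⁻¹ * b⁻¹ ∈ N) : Function.Injective (pcMap p N P) := by
  rintro ⟨c, x⟩ ⟨c', x'⟩ h
  obtain ⟨c, rfl⟩ := ConjClasses.mk_surjective c
  obtain ⟨c', rfl⟩ := ConjClasses.mk_surjective c'
  rw [pcMap_mk, pcMap_mk, ConjClasses.mk_eq_mk_iff_isConj, isConj_iff] at h
  obtain ⟨g, hg⟩ := h
  have ha := pc_cent p N P hN hab c x
  have ha' := pc_cent p N P hN hab c' x'
  obtain ⟨n, hn, hn2⟩ := P.conj_eq_normalizer_conj_of_mem_centralizer
    (((c : N) : G) * (x : G)) g⁻¹ ha (by rw [inv_inv, hg]; exact ha')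
  rw [inv_inv, hg] at hn2
  -- `c' x' = n⁻¹ (c x) n`
  have hnx : n * (x : G) = (x : G) * n := pc_comm p N P hN hab hn x.2
  have hnx' : n⁻¹ * (x : G) = (x : G) * n⁻¹ :=
    ((Commute.inv_left (show Commute n (x : G) from hnx))).eq
  have h1 : ((c' : N) : G) * (x' : G) = (n⁻¹ * ((c : N) : G) * n) * (x : G) := by
    rw [hn2]
    calc n⁻¹ * (((c : N) : G) * (x : G)) * n = n⁻¹ * ((c : N) : G) * ((x : G) * n) := by group
      _ = n⁻¹ * ((c : N) : G) * (n * (x : G)) := by rw [hnx]
      _ = n⁻¹ * ((c : N) : G) * n * (x : G) := by group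
  have hmem : n⁻¹ * ((c : N) : G) * n ∈ N := by
    have h := hNn.conj_mem ((c : N) : G) (c : N).2 n⁻¹
    rwa [inv_inv] at h
  have h2 : (x : G) * (x' : G)⁻¹ = (n⁻¹ * ((c : N) : G) * n)⁻¹ * ((c' : N) : G) := by
    have h3 : ((c' : N) : G) = (n⁻¹ * ((c : N) : G) * n) * (x : G) * (x' : G)⁻¹ := by
      rw [← h1]; group
    rw [h3]; group
  have h4 : (x : G) * (x' : G)⁻¹ = 1 := by
    apply pc_inf p N P hN
    · rw [h2]
      exact N.mul_mem (N.inv_mem hmem) (c' : N).2
    · exact (P : Subgroup G).mul_mem x.2 ((P : Subgroup G).inv_mem x'.2)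
  have hxx : (x : G) = (x' : G) := mul_inv_eq_one.mp h4
  have hxx' : x = x' := Subtype.ext hxx
  subst hxx'
  have hcc : ((c' : N) : G) = n⁻¹ * ((c : N) : G) * n := mul_right_cancel h1
  -- decompose `n⁻¹ = m y`
  obtain ⟨m, hm, y, hy, hmy⟩ := pc_decomp p N P hN hidx n⁻¹
  have hmc : (⟨m, hm⟩ : N) ∈ pcC p N P := by
    intro z hz
    show z * m = m * z
    have h5 : m = n⁻¹ * y⁻¹ := by rw [hmy]; group
    have h6 : z * n⁻¹ = n⁻¹ * z := by
      have h7 : n * z = z * n := pc_comm p N P hN hab hn hz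
      exact ((Commute.inv_right (show Commute z n from h7.symm))).eq
    have h8 : z * y⁻¹ = y⁻¹ * z := by
      have h9 : z * y = y * z := pc_comm p N P hN hab (Subgroup.le_normalizer hz) hy
      exact (Commute.inv_right (show Commute z y from h9)).eq
    rw [h5, ← mul_assoc, h6, mul_assoc, h8, mul_assoc]
  have hyc : y * ((c : N) : G) = ((c : N) : G) * y := c.2 y hy
  have hconj : IsConj c c' := by
    rw [isConj_iff]
    refine ⟨⟨⟨m, hm⟩, hmc⟩, ?_⟩
    apply Subtype.ext
    apply Subtype.ext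
    show m * ((c : N) : G) * m⁻¹ = ((c' : N) : G)
    rw [hcc]
    have h10 : n = (m * y)⁻¹ := by rw [← hmy, inv_inv]
    rw [hmy, h10]
    calc m * ((c : N) : G) * m⁻¹ = m * (((c : N) : G) * y) * y⁻¹ * m⁻¹ := by group
      _ = m * (y * ((c : N) : G)) * y⁻¹ * m⁻¹ := by rw [hyc]
      _ = m * y * ((c : N) : G) * (m * y)⁻¹ := by group
  rw [ConjClasses.mk_eq_mk_iff_isConj.mpr hconj]

/-- the number of classes of size prime to `p` -/
theorem pc_good_classes (hN : (Nat.card N).Coprime p) {k : ℕ} (hidx : N.index = p ^ k)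
    (hab : ∀ a b : G, a * b * a⁻¹ * b⁻¹ ∈ N) :
    Nat.card {K : ConjClasses G // ¬ p ∣ Nat.card K.carrier} =
      Nat.card (ConjClasses (pcC p N P)) * Nat.card (P : Subgroup G) := by
  rw [← Nat.card_prod, ← Nat.card_range_of_injective (pcMap_injective p N P hN hidx hab)]
  apply Nat.card_congr
  exact Equiv.subtypeEquivRight (fun K => ⟨fun h => pcMap_surj p N P hN hidx hab K h, by
    rintro ⟨cx, rfl⟩
    exact pcMap_good p N P hN hab cx⟩)

end pc

end Cfsg.Agent.Lib.Helper83
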