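import Mathlib
import Cfsg.Prelude.Def_Local
import Cfsg.Agent.Lib.Helper83.Pc1

set_option autoImplicit false

/-! Group-theoretic lemmas for bounding the derived length of a Sylow `p`-subgroup of a
`p`-solvable group. -/

namespace Cfsg.Agent.Lib.Helper83

open Cfsg

section dl

/-- `p`-solvability passes to subgroups -/
theorem psolv_subgroup {p : ℕ} [Fact p.Prime] {G : Type*} [Group G] (h : IsPSolvable p G)
    (M : Subgroup G) : IsPSolvable p ↥M := by
  obtain ⟨n, H, h0, hlast, hmono, hnorm, hfac⟩ := h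
  refine ⟨n, fun i => (H i).subgroupOf M, ?_, ?_, ?_, ?_, ?_⟩
  · simp [h0]
  · simp [hlast]
  · intro i j hij; exact Subgroup.comap_mono (hmono hij)
  · intro i; exact (hnorm i).subgroupOf M
  · intro i
    have hle : H i.castSucc ≤ H i.succ := hmono (Fin.castSucc_lt_succ).le
    have hn0 : (H i.castSucc).Normal := hnorm _
    have hdvd : ((H i.castSucc).subgroupOf M).relIndex ((H i.succ).subgroupOf M) ∣
        (H i.castSucc).relIndex (H i.succ) := by
      have e1 : ((H i.castSucc).subgroupOf M).relIndex ((H i.succ).subgroupOf M) =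
          (H i.castSucc).relIndex (H i.succ ⊓ M) := by
        have : (H i.castSucc).subgroupOf M = (H i.castSucc).comap M.subtype := rfl
        rw [this, Subgroup.relIndex_comap, Subgroup.subgroupOf_map_subtype]
      rw [e1]
      have e2 : (H i.castSucc).relIndex (H i.succ ⊓ M) =
          ((H i.castSucc).subgroupOf (H i.succ)).relIndex ((H i.succ ⊓ M).subgroupOf (H i.succ)) :=
        (Subgroup.relIndex_subgroupOf inf_le_left).symm
      rw [e2]
      have : ((H i.castSucc).subgroupOf (H i.succ)).Normal := hn0.subgroupOf _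
      exact Subgroup.relIndex_dvd_index_of_normal _ _
    rcases hfac i with ⟨m, hm⟩ | hc
    · left
      rw [hm] at hdvd
      obtain ⟨j, -, hj⟩ := (Nat.dvd_prime_pow Fact.out).mp hdvd
      exact ⟨j, hj⟩
    · right
      exact Nat.Coprime.coprime_dvd_left hdvd hc

/-- a nontrivial `p`-solvable group has a nontrivial normal subgroup that is a `p'`-group or an
abelian `p`-group -/
theorem dl_exists_normal {G : Type*} [Group G] [Finite G] [Nontrivial G] (p : ℕ)
    [Fact p.Prime] (h : IsPSolvable p G) :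
    ∃ N : Subgroup G, N.Normal ∧ N ≠ ⊥ ∧ ((Nat.card N).Coprime p ∨
      (IsPGroup p N ∧ ∀ a ∈ N, ∀ b ∈ N, a * b = b * a)) := by
  classical
  obtain ⟨n, H, h0, hlast, hmono, hnorm, hfac⟩ := h
  have hex : ∃ i : ℕ, ∃ hi : i < n + 1, H ⟨i, hi⟩ ≠ ⊥ := by
    refine ⟨n, Nat.lt_succ_self n, ?_⟩
    have h1 : H ⟨n, Nat.lt_succ_self n⟩ = ⊤ := hlast
    rw [h1]
    exact top_ne_bot
  obtain ⟨hi, hne⟩ := Nat.find_spec hex
  have hi0 : Nat.find hex ≠ 0 := by
    intro h0'
    apply hne
    have h1 : (⟨Nat.find hex, hi⟩ : Fin (n + 1)) = 0 := Fin.ext h0'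
    rw [h1, h0]
  obtain ⟨j, hj⟩ := Nat.exists_eq_succ_of_ne_zero hi0
  have hjn : j < n := by omega
  have hbot : H (⟨j, hjn⟩ : Fin n).castSucc = ⊥ := by
    by_contra hcon
    have h1 := Nat.find_min hex (m := j) (by omega)
    exact h1 ⟨by omega, hcon⟩
  have hK : H (⟨j, hjn⟩ : Fin n).succ = H ⟨Nat.find hex, hi⟩ := by
    congr 1
    exact Fin.ext (by simp only [Fin.succ_mk]; omega)
  have hrel := hfac ⟨j, hjn⟩
  rw [hbot, Subgroup.relIndex_bot_left, hK] at hrel
  set K := H ⟨Nat.find hex, hi⟩ with hKdef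
  have hKn : K.Normal := hnorm _
  rcases hrel with ⟨m, hm⟩ | hc
  · have hKp : IsPGroup p K := IsPGroup.of_card hm
    have : Nontrivial K := (Subgroup.nontrivial_iff_ne_bot K).mpr hne
    have hZ : Nontrivial (Subgroup.center K) := hKp.center_nontrivial
    refine ⟨(Subgroup.center K).map K.subtype, inferInstance, ?_, Or.inr ⟨?_, ?_⟩⟩
    · obtain ⟨z, hz⟩ := exists_ne (1 : Subgroup.center K)
      intro hbot'
      have h1 : ((z : K) : G) ∈ (Subgroup.center K).map K.subtype :=
        Subgroup.mem_map_of_mem K.subtype z.2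
      rw [hbot', Subgroup.mem_bot] at h1
      apply hz
      apply Subtype.ext
      apply Subtype.ext
      exact h1
    · exact (hKp.to_subgroup (Subgroup.center K)).map K.subtype
    · rintro a ⟨a', ha', rfl⟩ b ⟨b', hb', rfl⟩
      have h1 : a' * b' = b' * a' := Subgroup.mem_center_iff.mp hb' a'
      exact congrArg Subtype.val h1
  · exact ⟨K, hKn, hne, Or.inl hc⟩

/-- if a term of the derived series lies in an abelian subgroup, the next term is trivial -/
theorem dl_of_le_abelian {P : Type*} [Group P] (K : Subgroup P)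
    (hK : ∀ a ∈ K, ∀ b ∈ K, a * b = b * a) (n : ℕ) (h : derivedSeries P n ≤ K) :
    derivedSeries P (n + 1) = ⊥ := by
  rw [derivedSeries_succ, Subgroup.commutator_eq_bot_iff_le_centralizer]
  intro a ha
  rw [Subgroup.mem_centralizer_iff]
  intro b hb
  exact hK b (h hb) a (h ha)

/-- the derived series stays trivial -/
theorem dl_mono {P : Type*} [Group P] {n m : ℕ} (h : derivedSeries P n = ⊥) (hnm : n ≤ m) :
    derivedSeries P m = ⊥ := by
  rw [eq_bot_iff, ← h]
  exact derivedSeries_antitone P hnm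

/-- transport of the derived series of a Sylow subgroup through a quotient -/
theorem dl_quot {G : Type*} [Group G] [Finite G] (p : ℕ) [Fact p.Prime] (N : Subgroup G)
    [N.Normal] (P : Sylow p G) (n : ℕ)
    (h : derivedSeries ↥((P.mapSurjective (QuotientGroup.mk'_surjective N) :
      Sylow p (G ⧸ N)) : Subgroup (G ⧸ N)) n = ⊥) :
    ∀ x ∈ derivedSeries ↥(P : Subgroup G) n, ((x : (P : Subgroup G)) : G) ∈ N := by
  intro x hx
  let f : ↥(P : Subgroup G) →* ↥((P : Subgroup G).map (QuotientGroup.mk' N)) :=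
    (QuotientGroup.mk' N).subgroupMap (P : Subgroup G)
  have h1 : f x ∈ (derivedSeries ↥(P : Subgroup G) n).map f := Subgroup.mem_map_of_mem f hx
  have h2 := map_derivedSeries_le_derivedSeries f n h1
  have h3 : derivedSeries ↥((P : Subgroup G).map (QuotientGroup.mk' N)) n = ⊥ := h
  rw [h3, Subgroup.mem_bot] at h2
  have h4 : ((f x : ↥((P : Subgroup G).map (QuotientGroup.mk' N))) : G ⧸ N) = 1 := by
    rw [h2]
    rfl
  exact (QuotientGroup.eq_one_iff _).mp h4

end dl

end Cfsg.Agent.Lib.Helper83
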