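import Mathlib
import Cfsg.Agent.S0867
import Cfsg.Agent.Lib.Helper5.GlMain
import Cfsg.Agent.Lib.Helper20.Clifford
import Cfsg.Agent.Lib.Helper20.CliffordRel
import Cfsg.Agent.Lib.Helper20.ExtPrime
import Cfsg.Agent.Lib.Helper83.Rg1
import Cfsg.Agent.Lib.Helper83.LinearCount
import Cfsg.Agent.Lib.Helper83.Count
import Cfsg.Agent.Lib.Helper83.Codeg
import Cfsg.Agent.Lib.Helper83.Glaub3
import Cfsg.Agent.Lib.Helper83.Pc1

set_option autoImplicit false

/-! Groups with a normal `p`-complement: the irreducible characters of degree prime to `p`. -/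

namespace Cfsg.Agent.Lib.Helper83

open Cfsg Cfsg.Agent.Lib
open scoped ComplexConjugate

section pc

variable {G : Type*} [Group G] [Fintype G] (p : ℕ) [hp : Fact p.Prime] (N : Subgroup G)
  [hNn : N.Normal] [Fintype N]

/-- invariance of a function on `N` under conjugation by `G` -/
def pcInv (θ : N → ℂ) : Prop :=
  ∀ (g : G) (n : N), θ ⟨g * n * g⁻¹, hNn.conj_mem (n : G) n.2 g⟩ = θ n

/-- invariant characters of a normal `p`-complement extend -/
theorem pc_extend (hN : (Nat.card N).Coprime p) {k : ℕ} (hidx : N.index = p ^ k) {θ : N → ℂ}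
    (hθ : IsIrrCharacter N θ) (hinv : pcInv N θ) :
    ∃ η : G → ℂ, IsIrrCharacter G η ∧ ∀ n : N, η n = θ n := by
  obtain ⟨-, h1⟩ := irr_degree hθ
  have hcop : Nat.Coprime N.index (detOrder θ * charDegree θ) := by
    rw [hidx]
    apply Nat.Coprime.pow_left
    apply Nat.Coprime.mul_right
    · exact (Nat.Coprime.coprime_dvd_left (detOrder_dvd_card θ) hN).symm
    · exact (Nat.Coprime.coprime_dvd_left (irr_degree_dvd_card' hθ) hN).symm
  obtain ⟨χ, ⟨hχ, hres, -⟩, -⟩ := S0867.result N θ hθ hinv (charDegree θ) h1 hcop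
  exact ⟨χ, hχ, hres⟩

/-- characters over a non-invariant character have degree divisible by `p` -/
theorem pc_bad {k : ℕ} (hidx : N.index = p ^ k) {θ : N → ℂ} (hθ : IsIrrCharacter N θ)
    {χ : G → ℂ} (hχ : IsIrrCharacter G χ) (hcon : classInner (fun n : N => χ n) θ ≠ 0)
    (hninv : ¬ pcInv N θ) : p ∣ charDegree χ := by
  have hdeg := Helper20.clifford_degree N hθ hχ hcon (inertia N θ) (fun g => mem_inertia N θ g)
  obtain ⟨a, ha⟩ := Helper35.classInner_char_nat
    (Helper20.isCharacter_comp N.subtype (Helper35.isChar_of_irr hχ)) (Helper35.isChar_of_irr hθ)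
  have ha' : classInner (fun n : N => χ n) θ = a := ha
  rw [ha', (irr_degree hχ).2, (irr_degree hθ).2] at hdeg
  have h2 : charDegree χ = a * (inertia N θ).index * charDegree θ := by exact_mod_cast hdeg
  have h3 : (inertia N θ).index ∣ N.index := Subgroup.index_dvd_of_le (le_inertia N hθ)
  rw [hidx] at h3
  obtain ⟨j, -, hj2⟩ := (Nat.dvd_prime_pow hp.out).mp h3
  have hj0 : j ≠ 0 := by
    rintro rfl
    rw [pow_zero, Subgroup.index_eq_one] at hj2
    apply hninv
    intro g n
    have h4 : g ∈ inertia N θ := by rw [hj2]; trivial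
    have h5 := (mem_inertia N θ g).mp h4
    exact congrFun h5 n
  rw [h2, hj2]
  exact Dvd.dvd.mul_right (Dvd.dvd.mul_left (dvd_pow_self p hj0) a) _

/-- the quotient by the normal `p`-complement is abelian if there is only one character of
degree divisible by `p` and the group is not nilpotent -/
theorem pc_quot_comm (hnil : ¬ Group.IsNilpotent G) (hN : (Nat.card N).Coprime p) {k : ℕ}
    (hidx : N.index = p ^ k)
    (hone : Nat.card {χ : IrrCharacter G // p ∣ charDegree (χ : G → ℂ)} = 1) :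
    ∀ a b : G ⧸ N, a * b = b * a := by
  classical
  by_contra hnc
  let _ : Fintype (G ⧸ N) := Fintype.ofFinite _
  have := Helper4.irr_finite (G := G ⧸ N)
  let _ : Fintype (IrrCharacter (G ⧸ N)) := Fintype.ofFinite _
  have hex : ∃ β₀ : IrrCharacter (G ⧸ N), charDegree (β₀ : G ⧸ N → ℂ) ≠ 1 := by
    by_contra hall
    push Not at hall
    apply hnc
    have h1 := sum_charDegree_sq (G := G ⧸ N)
    simp only [hall, one_pow, Finset.sum_const, Finset.card_univ, smul_eq_mul, mul_one] at h1
    have h2 := card_linear' (G := G ⧸ N)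
    have h3 : Nat.card {χ : IrrCharacter (G ⧸ N) // charDegree (χ : G ⧸ N → ℂ) = 1} =
        Nat.card (IrrCharacter (G ⧸ N)) := Nat.card_congr (Equiv.subtypeUnivEquiv hall)
    have h4 : (commutator (G ⧸ N)).index = Nat.card (G ⧸ N) := by
      rw [← h2, h3, Nat.card_eq_fintype_card, h1]
    have h5 : Nat.card (commutator (G ⧸ N)) = 1 := by
      have h6 := Subgroup.card_mul_index (commutator (G ⧸ N))
      rw [h4] at h6
      exact Nat.eq_of_mul_eq_mul_right Nat.card_pos (by rw [h6, one_mul])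
    have h7 : commutator (G ⧸ N) = ⊥ := Subgroup.eq_bot_of_card_eq _ h5
    intro a b
    have h8 : a * b * a⁻¹ * b⁻¹ ∈ commutator (G ⧸ N) :=
      Subgroup.commutator_mem_commutator (Subgroup.mem_top a) (Subgroup.mem_top b)
    rw [h7, Subgroup.mem_bot] at h8
    calc a * b = (a * b * a⁻¹ * b⁻¹) * (b * a) := by group
      _ = b * a := by rw [h8, one_mul]
  obtain ⟨β₀, hβ₀⟩ := hex
  have hpβ : p ∣ charDegree (β₀ : G ⧸ N → ℂ) := by
    have h1 := irr_degree_dvd_card' β₀.2
    rw [← Subgroup.index_eq_card, hidx] at h1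
    obtain ⟨j, -, hj2⟩ := (Nat.dvd_prime_pow hp.out).mp h1
    have hj0 : j ≠ 0 := by
      rintro rfl
      exact hβ₀ (by rw [hj2, pow_zero])
    rw [hj2]
    exact dvd_pow_self p hj0
  have hχ₀ : IsIrrCharacter G (fun g : G => (β₀ : G ⧸ N → ℂ) (g : G ⧸ N)) := irr_inflate N β₀.2
  have hbad₀ : p ∣ charDegree (fun g : G => (β₀ : G ⧸ N → ℂ) (g : G ⧸ N)) := hpβ
  have huniq : ∀ ψ : G → ℂ, IsIrrCharacter G ψ → p ∣ charDegree ψ →
      ψ = fun g : G => (β₀ : G ⧸ N → ℂ) (g : G ⧸ N) := by
    intro ψ hψ hbad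
    have hsub := (Nat.card_eq_one_iff_unique.mp hone).1
    have h1 := Subsingleton.elim
      (⟨⟨ψ, hψ⟩, hbad⟩ : {χ : IrrCharacter G // p ∣ charDegree (χ : G → ℂ)}) ⟨⟨_, hχ₀⟩, hbad₀⟩
    exact congrArg (fun z : {χ : IrrCharacter G // p ∣ charDegree (χ : G → ℂ)} =>
      ((z : IrrCharacter G) : G → ℂ)) h1
  have hβ1 : (β₀ : G ⧸ N → ℂ) 1 ≠ 0 := irr_one_ne_zero β₀.2
  have hkey : ∀ θ : N → ℂ, IsIrrCharacter N θ → ∀ n : N, θ n = 1 := by
    intro θ hθ
    by_cases hinv : pcInv N θ
    · obtain ⟨η, hη, hηN⟩ := pc_extend p N hN hidx hθ hinv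
      have hηN' : IsIrrCharacter N (fun n : N => η n) := by
        have h1 : (fun n : N => η n) = θ := funext hηN
        rw [h1]
        exact hθ
      have hψ := gallagher_irr N hη hηN' β₀
      have hbad : p ∣ charDegree (fun g : G => (β₀ : G ⧸ N → ℂ) (g : G ⧸ N) * η g) := by
        have h1 : (fun g : G => (β₀ : G ⧸ N → ℂ) (g : G ⧸ N) * η g) 1 =
            ((charDegree (β₀ : G ⧸ N → ℂ) * charDegree θ : ℕ) : ℂ) := by
          push_cast
          rw [← (irr_degree β₀.2).2, ← (irr_degree hθ).2, ← hηN 1]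
          rfl
        have h2 : ((charDegree (β₀ : G ⧸ N → ℂ) * charDegree θ : ℕ) : ℂ) =
            (charDegree (fun g : G => (β₀ : G ⧸ N → ℂ) (g : G ⧸ N) * η g) : ℂ) :=
          h1.symm.trans (irr_degree hψ).2
        have h3 : charDegree (β₀ : G ⧸ N → ℂ) * charDegree θ =
            charDegree (fun g : G => (β₀ : G ⧸ N → ℂ) (g : G ⧸ N) * η g) := by
          exact_mod_cast h2
        rw [← h3]
        exact Dvd.dvd.mul_right hpβ _
      have heq := huniq _ hψ hbad
      intro n
      have h4 := congrFun heq (n : G)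
      have h5 : ((n : G) : G ⧸ N) = 1 := (QuotientGroup.eq_one_iff _).mpr n.2
      simp only [h5] at h4
      rw [hηN] at h4
      exact mul_left_cancel₀ hβ1 (by rw [h4, mul_one])
    · exfalso
      obtain ⟨χ, hχ, hcon⟩ := Helper20.exists_irr_over N hθ
      have hbad := pc_bad p N hidx hθ hχ hcon hinv
      have heq := huniq χ hχ hbad
      apply hinv
      have htriv : IsIrrCharacter N (fun _ => (1 : ℂ)) := by
        have h := isIrr_of_hom (1 : N →* ℂˣ)
        simpa using h
      have h6 : (fun n : N => χ n) = ((β₀ : G ⧸ N → ℂ) 1) • (fun _ : N => (1 : ℂ)) := by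
        funext n
        rw [heq, Pi.smul_apply, smul_eq_mul, mul_one]
        show (β₀ : G ⧸ N → ℂ) ((n : G) : G ⧸ N) = _
        rw [(QuotientGroup.eq_one_iff _).mpr n.2]
      rw [h6, classInner_smul_left] at hcon
      have h8 : classInner (fun _ : N => (1 : ℂ)) θ ≠ 0 := right_ne_zero_of_mul hcon
      rw [Helper35.classInner_irr' htriv hθ] at h8
      have h9 : (fun _ : N => (1 : ℂ)) = θ := by
        by_contra h
        rw [if_neg h] at h8
        exact h8 rfl
      intro g n
      rw [← h9]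
  have hsub : Subsingleton (IrrCharacter N) :=
    ⟨fun a b => Subtype.ext (funext fun n => by rw [hkey a a.2 n, hkey b b.2 n])⟩
  have := Helper4.irr_finite (G := N)
  have hcc : Subsingleton (ConjClasses N) := by
    apply Finite.card_le_one_iff_subsingleton.mp
    rw [← card_irr_eq_card_conjClasses]
    exact Finite.card_le_one_iff_subsingleton.mpr hsub
  have hN1 : ∀ n : N, n = 1 := by
    intro n
    have h := Subsingleton.elim (ConjClasses.mk n) (ConjClasses.mk 1)
    rw [ConjClasses.mk_eq_mk_iff_isConj] at h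
    exact isConj_one_left.mp h
  have hsubN : Subsingleton N := ⟨fun a b => by rw [hN1 a, hN1 b]⟩
  have hcardN : Nat.card N = 1 := Nat.card_eq_one_iff_unique.mpr ⟨hsubN, ⟨1⟩⟩
  have hcardG : Nat.card G = p ^ k := by
    rw [← Subgroup.card_mul_index N, hcardN, one_mul, hidx]
  exact hnil (IsPGroup.of_card hcardG).isNilpotent

end pc

end Cfsg.Agent.Lib.Helper83
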