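import Mathlib
import Cfsg.Agent.Lib.Helper83.Pc2

set_option autoImplicit false

/-! Groups with a normal `p`-complement: counting the irreducible characters of degree prime
to `p` and the invariant characters of the complement. -/

namespace Cfsg.Agent.Lib.Helper83

open Cfsg Cfsg.Agent.Lib
open scoped ComplexConjugate

section pc

variable {G : Type*} [Group G] [Fintype G] (p : ℕ) [hp : Fact p.Prime] (N : Subgroup G)
  [hNn : N.Normal] [Fintype N]

/-- the number of irreducible characters of degree prime to `p` -/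
theorem pc_good_count (hN : (Nat.card N).Coprime p) {k : ℕ} (hidx : N.index = p ^ k)
    (hcomm : ∀ a b : G ⧸ N, a * b = b * a) :
    Nat.card {χ : IrrCharacter G // ¬ p ∣ charDegree (χ : G → ℂ)} =
      Nat.card {θ : IrrCharacter N // pcInv N (θ : N → ℂ)} * N.index := by
  classical
  have : IsMulCommutative (G ⧸ N) := ⟨⟨hcomm⟩⟩
  let _ : Fintype (G ⧸ N) := Fintype.ofFinite _
  choose ext hext hres using fun θ : {θ : IrrCharacter N // pcInv N (θ : N → ℂ)} =>
    pc_extend p N hN hidx θ.1.2 θ.2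
  have hηN : ∀ θ : {θ : IrrCharacter N // pcInv N (θ : N → ℂ)},
      IsIrrCharacter N (fun n : N => ext θ n) := by
    intro θ
    have h1 : (fun n : N => ext θ n) = ((θ : IrrCharacter N) : N → ℂ) := funext (hres θ)
    rw [h1]
    exact θ.1.2
  have hval : ∀ (θ : {θ : IrrCharacter N // pcInv N (θ : N → ℂ)}) (β : IrrCharacter (G ⧸ N))
      (n : N), (β : G ⧸ N → ℂ) ((n : G) : G ⧸ N) * ext θ n = ((θ : IrrCharacter N) : N → ℂ) n := by
    intro θ β n
    rw [(QuotientGroup.eq_one_iff _).mpr n.2, irr_comm_degree β.2, one_mul, hres]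
  have hgood : ∀ (θ : {θ : IrrCharacter N // pcInv N (θ : N → ℂ)}) (β : IrrCharacter (G ⧸ N)),
      ¬ p ∣ charDegree (fun g : G => (β : G ⧸ N → ℂ) (g : G ⧸ N) * ext θ g) := by
    intro θ β hdvd
    have h1 : charDegree (fun g : G => (β : G ⧸ N → ℂ) (g : G ⧸ N) * ext θ g) =
        charDegree ((θ : IrrCharacter N) : N → ℂ) := by
      unfold charDegree
      exact congrArg (fun z : ℂ => ⌊z.re⌋₊) (hval θ β 1)
    rw [h1] at hdvd
    have h2 := dvd_trans hdvd (irr_degree_dvd_card' θ.1.2)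
    exact ((Nat.Prime.coprime_iff_not_dvd hp.out).mp hN.symm) h2
  let F : {θ : IrrCharacter N // pcInv N (θ : N → ℂ)} × IrrCharacter (G ⧸ N) →
      {χ : IrrCharacter G // ¬ p ∣ charDegree (χ : G → ℂ)} := fun z =>
    ⟨⟨fun g : G => (z.2 : G ⧸ N → ℂ) (g : G ⧸ N) * ext z.1 g,
      gallagher_irr N (hext z.1) (hηN z.1) z.2⟩, hgood z.1 z.2⟩
  have hFval : ∀ z, ((F z : IrrCharacter G) : G → ℂ) =
      fun g : G => (z.2 : G ⧸ N → ℂ) (g : G ⧸ N) * ext z.1 g := fun z => rfl
  have hinj : Function.Injective F := by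
    rintro ⟨θ, β⟩ ⟨θ', β'⟩ h
    have hf : (fun g : G => (β : G ⧸ N → ℂ) (g : G ⧸ N) * ext θ g) =
        fun g : G => (β' : G ⧸ N → ℂ) (g : G ⧸ N) * ext θ' g := by
      have h1 := congrArg (fun w : {χ : IrrCharacter G // ¬ p ∣ charDegree (χ : G → ℂ)} =>
        ((w : IrrCharacter G) : G → ℂ)) h
      exact h1
    have hθ : θ = θ' := by
      apply Subtype.ext
      apply Subtype.ext
      funext n
      rw [← hval θ β n, ← hval θ' β' n]
      exact congrFun hf (n : G)
    subst hθ
    have h2 := gallagher_inner N (hext θ) (hηN θ) (β : G ⧸ N → ℂ) (β' : G ⧸ N → ℂ)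
    rw [← hf, Helper35.classInner_irr' (gallagher_irr N (hext θ) (hηN θ) β)
      (gallagher_irr N (hext θ) (hηN θ) β), if_pos rfl,
      Helper35.classInner_irr' β.2 β'.2] at h2
    have hβ : β = β' := by
      by_contra hne
      have hne' : ¬ ((β : G ⧸ N → ℂ) = (β' : G ⧸ N → ℂ)) := fun h => hne (Subtype.ext h)
      rw [if_neg hne'] at h2
      exact one_ne_zero h2
    rw [hβ]
  have hsurj : Function.Surjective F := by
    rintro ⟨χ, hχgood⟩
    have hχN : IsCharacter N (fun n : N => (χ : G → ℂ) n) :=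
      Helper20.isCharacter_comp N.subtype (Helper35.isChar_of_irr χ.2)
    obtain ⟨θ, hθ, hcon⟩ := Helper20.exists_constituent_of_char hχN (irr_one_ne_zero χ.2)
    have hinv : pcInv N θ := by
      by_contra hninv
      exact hχgood (pc_bad p N hidx hθ χ.2 hcon hninv)
    let z₁ : {θ : IrrCharacter N // pcInv N (θ : N → ℂ)} := ⟨⟨θ, hθ⟩, hinv⟩
    have hc : classInner (fun n : N => (χ : G → ℂ) n) (fun n : N => ext z₁ n) ≠ 0 := by
      have h1 : (fun n : N => ext z₁ n) = θ := funext (hres z₁)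
      rw [h1]
      exact hcon
    obtain ⟨β, hβ⟩ := gallagher_exists N (hext z₁) (hηN z₁) χ.2 hc
    refine ⟨(z₁, β), ?_⟩
    apply Subtype.ext
    apply Subtype.ext
    rw [hFval]
    exact hβ.symm
  rw [← Nat.card_congr (Equiv.ofBijective F ⟨hinj, hsurj⟩), Nat.card_prod, card_irr_comm,
    Subgroup.index_eq_card]

end pc

end Cfsg.Agent.Lib.Helper83
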