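import Mathlib
import Cfsg.Agent.Lib.Helper83.Pc3

set_option autoImplicit false

/-! Groups with a normal `p`-complement: the invariant characters of the complement are counted
by the classes of the centralizer of a Sylow `p`-subgroup (Glauberman correspondence). -/

namespace Cfsg.Agent.Lib.Helper83

open Cfsg Cfsg.Agent.Lib
open scoped ComplexConjugate

section pc

variable {G : Type*} [Group G] [Fintype G] (p : ℕ) [hp : Fact p.Prime] (N : Subgroup G)
  [hNn : N.Normal] [Fintype N] (P : Sylow p G)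

/-- the number of invariant irreducible characters of the normal `p`-complement -/
theorem pc_inv_count (hN : (Nat.card N).Coprime p) {k : ℕ} (hidx : N.index = p ^ k) :
    Nat.card {θ : IrrCharacter N // pcInv N (θ : N → ℂ)} =
      Nat.card (ConjClasses (pcC p N P)) := by
  classical
  let _ : Fintype (pcC p N P) := Fintype.ofFinite _
  have hnorm : ∀ x ∈ (P : Subgroup G), ∀ k ∈ N, x * k * x⁻¹ ∈ N :=
    fun x _ k hk => hNn.conj_mem k hk x
  let φ : (P : Subgroup G) →* MulAut N := conjAct (P : Subgroup G) N hnorm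
  have hφ : ∀ (s : (P : Subgroup G)) (g : N), ((φ s g : N) : G) = (s : G) * (g : G) * (s : G)⁻¹ :=
    fun s g => rfl
  have hcop : (Fintype.card N).Coprime (Nat.card (P : Subgroup G)) := by
    rw [← Nat.card_eq_fintype_card, Sylow.card_eq_multiplicity]
    exact Nat.Coprime.pow_right _ hN
  have hC : ∀ g : N, g ∈ (pcC p N P).subtype.range ↔ ∀ s, φ s g = g := by
    intro g
    rw [Subgroup.range_subtype, mem_pcC]
    constructor
    · intro h s
      apply Subtype.ext
      rw [hφ, h (s : G) s.2]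
      group
    · intro h x hx
      have h1 := congrArg Subtype.val (h ⟨x, hx⟩)
      rw [hφ] at h1
      calc x * (g : G) = x * (g : G) * x⁻¹ * x := by group
        _ = (g : G) * x := by rw [h1]
  have hOK : Helper5.GlOK p φ (pcC p N P).subtype :=
    Helper5.gl_pgroup p φ (pcC p N P).subtype P.isPGroup' hcop
      (Subgroup.subtype_injective _) hC
  -- the two notions of invariance
  have hPinv : ∀ θ : N → ℂ, pcInv N θ → ∀ s g, θ (φ s g) = θ g := by
    intro θ h s g
    have h1 := h (s : G) g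
    rw [← h1]
    exact congrArg θ (Subtype.ext (hφ s g))
  have hGinv : ∀ θ : N → ℂ, IsIrrCharacter N θ → (∀ s g, θ (φ s g) = θ g) → pcInv N θ := by
    intro θ hθ h g n
    obtain ⟨m, hm, x, hx, hmx⟩ := pc_decomp p N P hN hidx g
    have h1 : (⟨g * n * g⁻¹, hNn.conj_mem (n : G) n.2 g⟩ : N) =
        ⟨m, hm⟩ * φ ⟨x, hx⟩ n * (⟨m, hm⟩ : N)⁻¹ := by
      apply Subtype.ext
      show g * (n : G) * g⁻¹ = m * (x * (n : G) * x⁻¹) * m⁻¹
      rw [hmx]
      group
    rw [h1, irr_classFunction hθ, h]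
  -- the correspondence
  let R : IrrCharacter N → IrrCharacter (pcC p N P) → Prop := fun θ β =>
    ∃ m : ℕ, classInner (fun c => (θ : N → ℂ) ((pcC p N P).subtype c)) (β : pcC p N P → ℂ) = m ∧
      ¬ p ∣ m
  have hex : ∀ θ : {θ : IrrCharacter N // pcInv N (θ : N → ℂ)},
      ∃ β₀ : IrrCharacter (pcC p N P), R θ.1 β₀ ∧ ∀ β, R θ.1 β → β = β₀ := by
    intro θ
    obtain ⟨β₀, ⟨m, hm, hm2⟩, hoth⟩ := hOK.ex θ.1 (hPinv _ θ.2)
    refine ⟨β₀, ⟨m, hm, ?_⟩, ?_⟩
    · intro hdvd
      have h0 : (m : ℤ) ≡ 0 [ZMOD p] :=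
        (Int.modEq_zero_iff_dvd).mpr (Int.natCast_dvd_natCast.mpr hdvd)
      have hp1 : ¬ ((p : ℤ) ∣ 1) := by
        intro h
        have h2 : p ∣ 1 := by exact_mod_cast h
        exact hp.out.one_lt.ne' (Nat.dvd_one.mp h2)
      rcases hm2 with h | h
      · exact hp1 ((Int.modEq_zero_iff_dvd).mp (h.symm.trans h0))
      · have h3 := (Int.modEq_zero_iff_dvd).mp (h.symm.trans h0)
        rw [dvd_neg] at h3
        exact hp1 h3
    · intro β hβ
      by_contra hne
      obtain ⟨m', hm', hdvd⟩ := hoth β hne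
      obtain ⟨m'', hm'', hnd⟩ := hβ
      have h1 : m' = m'' := by exact_mod_cast hm'.symm.trans hm''
      rw [h1] at hdvd
      exact hnd hdvd
  choose f hf1 hf2 using hex
  have hinj : Function.Injective f := by
    intro θ θ' h
    obtain ⟨m, hm, hnd⟩ := hf1 θ
    obtain ⟨m', hm', hnd'⟩ := hf1 θ'
    rw [← h] at hm'
    exact Subtype.ext (hOK.inj θ.1 θ'.1 (hPinv _ θ.2) (hPinv _ θ'.2) (f θ) m m' hm hnd hm' hnd')
  have hsurj : Function.Surjective f := by
    intro β
    obtain ⟨χ, hχinv, m, hm, hnd⟩ := hOK.surj β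
    refine ⟨⟨χ, hGinv _ χ.2 hχinv⟩, ?_⟩
    exact (hf2 ⟨χ, hGinv _ χ.2 hχinv⟩ β ⟨m, hm, hnd⟩).symm
  rw [Nat.card_congr (Equiv.ofBijective f ⟨hinj, hsurj⟩), card_irr_eq_card_conjClasses]

end pc

end Cfsg.Agent.Lib.Helper83
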