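import Mathlib
import Cfsg.Agent.S0868
import Cfsg.Agent.Lib.Helper5.CharInt
import Cfsg.Agent.Lib.Helper4.CharEquiv
import Cfsg.Agent.Lib.Helper20.Clifford

set_option autoImplicit false

namespace Cfsg.Agent.Lib.Helper83

open scoped ComplexConjugate
open Cfsg

section ProjDeg

variable {G : Type*} [Group G] (N : Subgroup G) [hN : N.Normal] {d : ℕ}
  (σ : Representation ℂ N (Fin d → ℂ))

/-- The group of pairs `(g, P)` with `P` an invertible intertwiner from `σ` to its `g`-conjugate
whose determinant is a `|N|`-th root of unity. -/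
def liftGroup : Subgroup (G × (Module.End ℂ (Fin d → ℂ))ˣ) where
  carrier := {x | (∀ n m : N, (m : G) = x.1 * n * x.1⁻¹ →
      (x.2 : Module.End ℂ (Fin d → ℂ)) * σ n = σ m * (x.2 : Module.End ℂ (Fin d → ℂ))) ∧
      LinearMap.det (x.2 : Module.End ℂ (Fin d → ℂ)) ^ Nat.card N = 1}
  mul_mem' := by
    rintro x y ⟨hx1, hx2⟩ ⟨hy1, hy2⟩
    refine ⟨fun n m h => ?_, ?_⟩
    · have h1 := hy1 n ⟨y.1 * n * y.1⁻¹, hN.conj_mem n n.2 y.1⟩ rfl
      have h2 := hx1 ⟨y.1 * n * y.1⁻¹, hN.conj_mem n n.2 y.1⟩ m (by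
        rw [h]
        simp only [Prod.fst_mul, mul_inv_rev]
        group)
      rw [Prod.snd_mul, Units.val_mul, mul_assoc, h1, ← mul_assoc, h2, mul_assoc]
    · rw [Prod.snd_mul, Units.val_mul, map_mul, mul_pow, hx2, hy2, one_mul]
  one_mem' := by
    refine ⟨fun n m h => ?_, ?_⟩
    · have : m = n := Subtype.ext (by simpa using h)
      simp [this]
    · simp
  inv_mem' := by
    rintro x ⟨hx1, hx2⟩
    refine ⟨fun n m h => ?_, ?_⟩
    · have h1 := hx1 m n (by
        rw [h]
        simp only [Prod.fst_inv]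
        group)
      rw [Prod.snd_inv, Units.inv_mul_eq_iff_eq_mul, ← mul_assoc, h1, mul_assoc, Units.mul_inv,
        mul_one]
    · have h1 : LinearMap.det ((x⁻¹).2 : Module.End ℂ (Fin d → ℂ)) *
          LinearMap.det (x.2 : Module.End ℂ (Fin d → ℂ)) = 1 := by
        rw [← map_mul, Prod.snd_inv, Units.inv_mul, map_one]
      have h2 := congrArg (· ^ Nat.card N) h1
      simp only [mul_pow, hx2, mul_one, one_pow] at h2
      exact h2

theorem mem_liftGroup (x : G × (Module.End ℂ (Fin d → ℂ))ˣ) :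
    x ∈ liftGroup N σ ↔ (∀ n m : N, (m : G) = x.1 * n * x.1⁻¹ →
      (x.2 : Module.End ℂ (Fin d → ℂ)) * σ n = σ m * (x.2 : Module.End ℂ (Fin d → ℂ))) ∧
      LinearMap.det (x.2 : Module.End ℂ (Fin d → ℂ)) ^ Nat.card N = 1 := Iff.rfl

/-- first projection -/
def liftFst : liftGroup N σ →* G := (MonoidHom.fst G _).comp (liftGroup N σ).subtype

/-- the tautological representation of the lifting group -/
def liftRep : Representation ℂ (liftGroup N σ) (Fin d → ℂ) :=
  (Units.coeHom _).comp ((MonoidHom.snd G _).comp (liftGroup N σ).subtype)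

theorem liftFst_apply (x : liftGroup N σ) : liftFst N σ x = x.1.1 := rfl

theorem liftRep_apply (x : liftGroup N σ) :
    liftRep N σ x = (x.1.2 : Module.End ℂ (Fin d → ℂ)) := rfl

/-- the embedding of `N` -/
def liftIncl : N →* liftGroup N σ where
  toFun n := ⟨((n : G), MonoidHom.toHomUnits σ n), by
    refine ⟨fun a b h => ?_, ?_⟩
    · rw [MonoidHom.coe_toHomUnits, ← map_mul, ← map_mul]
      congr 1
      apply Subtype.ext
      simp [h]
    · rw [MonoidHom.coe_toHomUnits, ← map_pow, ← map_pow, pow_card_eq_one', map_one, map_one]⟩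
  map_one' := by
    apply Subtype.ext
    simp
  map_mul' a b := by
    apply Subtype.ext
    simp

theorem liftIncl_fst (n : N) : (liftIncl N σ n).1.1 = (n : G) := rfl

theorem liftRep_liftIncl (n : N) : liftRep N σ (liftIncl N σ n) = σ n := rfl

theorem liftIncl_injective : Function.Injective (liftIncl N σ) := by
  intro a b h
  apply Subtype.ext
  have := congrArg (fun x : liftGroup N σ => x.1.1) h
  exact this

theorem liftRep_irreducible (hσ : σ.IsIrreducible) : (liftRep N σ).IsIrreducible :=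
  irreducible_of_equiv σ (liftRep N σ) (LinearEquiv.refl ℂ _)
    (fun n => ⟨liftIncl N σ n, fun _ => rfl⟩) hσ

/-- the image of `N` in the lifting group -/
def liftN : Subgroup (liftGroup N σ) := (liftIncl N σ).range

instance liftN_normal : (liftN N σ).Normal := by
  constructor
  rintro _ ⟨n, rfl⟩ x
  refine ⟨⟨x.1.1 * n * x.1.1⁻¹, hN.conj_mem n n.2 x.1.1⟩, ?_⟩
  apply Subtype.ext
  apply Prod.ext
  · rfl
  · apply Units.ext
    have h := x.2.1 n ⟨x.1.1 * n * x.1.1⁻¹, hN.conj_mem n n.2 x.1.1⟩ rfl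
    show σ _ = ((x.1.2 * MonoidHom.toHomUnits σ n * x.1.2⁻¹ :
      (Module.End ℂ (Fin d → ℂ))ˣ) : Module.End ℂ (Fin d → ℂ))
    rw [Units.val_mul, Units.val_mul, MonoidHom.coe_toHomUnits, h, mul_assoc (σ _), Units.mul_inv,
      mul_one]

/-- the tautological representation restricted to the image of `N` -/
def liftRepN : Representation ℂ (liftN N σ) (Fin d → ℂ) :=
  (liftRep N σ).comp (liftN N σ).subtype

theorem liftRepN_irreducible (hσ : σ.IsIrreducible) : (liftRepN N σ).IsIrreducible :=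
  irreducible_of_equiv σ (liftRepN N σ) (LinearEquiv.refl ℂ _)
    (fun n => ⟨⟨liftIncl N σ n, ⟨n, rfl⟩⟩, fun _ => rfl⟩) hσ

/-- an element of the lifting group over `1` is a scalar -/
theorem liftGroup_scalar [hσ : σ.IsIrreducible] (x : liftGroup N σ) (hx : x.1.1 = 1) :
    ∃ c : ℂ, (x.1.2 : Module.End ℂ (Fin d → ℂ)) = c • LinearMap.id ∧
      c ^ (d * Nat.card N) = 1 := by
  have hcomm : ∀ (n : N) (v : Fin d → ℂ),
      (x.1.2 : Module.End ℂ (Fin d → ℂ)) (σ n v) =
        σ n ((x.1.2 : Module.End ℂ (Fin d → ℂ)) v) := by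
    intro n v
    have h := x.2.1 n n (by rw [hx]; simp)
    exact congrArg (fun f : Module.End ℂ (Fin d → ℂ) => f v) h
  obtain ⟨c, hc⟩ := Helper5.schur_scalar σ _ hcomm
  refine ⟨c, hc, ?_⟩
  have h2 := x.2.2
  rw [hc, LinearMap.det_smul, LinearMap.det_id, mul_one, Module.finrank_fin_fun, ← pow_mul] at h2
  exact h2

theorem liftGroup_finite [Finite G] (hσ : σ.IsIrreducible) (hd : 0 < d) :
    Finite (liftGroup N σ) := by
  have := hσ
  rw [finite_iff_subgroup_quotient (liftFst N σ).ker]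
  constructor
  · have hker : ∀ x : (liftFst N σ).ker, ∃ c : ℂ,
        ((x : liftGroup N σ).1.2 : Module.End ℂ (Fin d → ℂ)) = c • LinearMap.id ∧
        c ^ (d * Nat.card N) = 1 := fun x => liftGroup_scalar N σ x x.2
    choose f hf1 hf2 using hker
    have hpos : 0 < d * Nat.card N := Nat.mul_pos hd Nat.card_pos
    have hfin : Finite {c : ℂ // c ^ (d * Nat.card N) = 1} := by
      apply Set.Finite.to_subtype
      apply Set.Finite.subset (Finset.finite_toSet (Polynomial.nthRootsFinset (d * Nat.card N) (1 : ℂ)))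
      intro c hc
      exact (Polynomial.mem_nthRootsFinset hpos (1 : ℂ)).mpr hc
    apply Finite.of_injective (fun x => (⟨f x, hf2 x⟩ : {c : ℂ // c ^ (d * Nat.card N) = 1}))
    intro x y hxy
    have hc : f x = f y := congrArg Subtype.val hxy
    apply Subtype.ext
    apply Subtype.ext
    apply Prod.ext
    · have h1 : (x : liftGroup N σ).1.1 = 1 := x.2
      have h2 : (y : liftGroup N σ).1.1 = 1 := y.2
      rw [h1, h2]
    · apply Units.ext
      rw [hf1 x, hf1 y, hc]
  · exact Finite.of_equiv _ (QuotientGroup.quotientKerEquivRange (liftFst N σ)).symm.toEquiv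

theorem liftFst_surjective [Finite G] [hσ : σ.IsIrreducible] (hd : 0 < d)
    (hinv : ∀ (g : G) (n m : N), (m : G) = g * n * g⁻¹ → σ.character m = σ.character n) :
    Function.Surjective (liftFst N σ) := by
  classical
  letI : Fintype N := Fintype.ofFinite N
  intro g
  let σg : Representation ℂ N (Fin d → ℂ) := σ.comp (MulAut.conjNormal g : MulAut N).toMonoidHom
  have hchar : σ.character = σg.character := by
    funext x
    show _ = σ.character (MulAut.conjNormal g x)
    exact (hinv g x _ (MulAut.conjNormal_apply g x)).symm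
  obtain ⟨E⟩ := Helper4.equiv_of_char_eq σ σg hchar
  have hT0 : ∀ n m : N, (m : G) = g * n * g⁻¹ →
      (E.toLinearEquiv.toLinearMap : Module.End ℂ (Fin d → ℂ)) * σ n =
        σ m * E.toLinearEquiv.toLinearMap := by
    intro n m h
    have h1 := E.toIntertwiningMap.isIntertwining' n
    have h2 : σg n = σ m := by
      show σ (MulAut.conjNormal g n) = σ m
      congr 1
      apply Subtype.ext
      simp [h]
    rw [h2] at h1
    exact h1
  set D := LinearMap.det (E.toLinearEquiv.toLinearMap : Module.End ℂ (Fin d → ℂ)) with hD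
  have hD0 : D ≠ 0 := (LinearEquiv.isUnit_det' E.toLinearEquiv).ne_zero
  obtain ⟨a, ha⟩ := IsAlgClosed.exists_pow_nat_eq (D⁻¹ : ℂ) hd
  have ha0 : a ≠ 0 := by
    rintro rfl
    rw [zero_pow hd.ne'] at ha
    exact inv_ne_zero hD0 ha.symm
  let P : (Module.End ℂ (Fin d → ℂ))ˣ := LinearMap.GeneralLinearGroup.ofLinearEquiv
    ((LinearEquiv.smulOfNeZero ℂ (Fin d → ℂ) a ha0).trans E.toLinearEquiv)
  have hP : (P : Module.End ℂ (Fin d → ℂ)) = a • E.toLinearEquiv.toLinearMap := by
    apply LinearMap.ext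
    intro v
    show E.toLinearEquiv (a • v) = a • E.toLinearEquiv v
    rw [map_smul]
  refine ⟨⟨(g, P), ?_, ?_⟩, rfl⟩
  · intro n m h
    show (P : Module.End ℂ (Fin d → ℂ)) * σ n = σ m * (P : Module.End ℂ (Fin d → ℂ))
    rw [hP, smul_mul_assoc, mul_smul_comm, hT0 n m h]
  · show LinearMap.det (P : Module.End ℂ (Fin d → ℂ)) ^ Nat.card N = 1
    rw [hP, LinearMap.det_smul, Module.finrank_fin_fun, ha, ← hD, inv_mul_cancel₀ hD0, one_pow]

/-- **Degree of a projective constituent divides the index**: if `χ ∈ Irr(G)` restricts to the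
normal subgroup `N` as `e • θ` with `θ ∈ Irr(N)`, then `e` divides `|G : N|`. -/
theorem mult_dvd_index [Finite G] {χ : G → ℂ} (hχ : IsIrrCharacter G χ) {θ : N → ℂ}
    (hθ : IsIrrCharacter N θ) (e : ℕ) (hres : ∀ n : N, χ n = e * θ n) : e ∣ N.index := by
  classical
  have hθ' := hθ
  obtain ⟨d, σ, hσ, hσθ⟩ := hθ
  have := hσ
  have he : (e : ℂ) ≠ 0 := by
    intro h0
    have h1 := hres 1
    rw [h0, zero_mul] at h1
    exact irr_one_ne_zero hχ h1
  have hd : 0 < d := by
    have hnt := Helper5.irr_nontrivial σ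
    by_contra h0
    have hd0 : d = 0 := by omega
    subst hd0
    exact not_subsingleton (Fin 0 → ℂ) inferInstance
  have hinv : ∀ (g : G) (n m : N), (m : G) = g * n * g⁻¹ → σ.character m = σ.character n := by
    intro g n m h
    have h1 := hres n
    have h2 := hres m
    rw [h, irr_classFunction hχ] at h2
    rw [hσθ]
    have h3 : (e : ℂ) * θ m = e * θ n := by rw [← h2, ← h1]
    exact mul_left_cancel₀ he h3
  have hsurj := liftFst_surjective N σ hd hinv
  have : Finite (liftGroup N σ) := liftGroup_finite N σ hσ hd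
  let _ : Fintype (liftGroup N σ) := Fintype.ofFinite _
  let _ : Fintype (liftN N σ) := Fintype.ofFinite _
  let _ : Fintype N := Fintype.ofFinite _
  set θt : liftGroup N σ → ℂ := (liftRep N σ).character with hθt
  have hθt_irr : IsIrrCharacter (liftGroup N σ) θt :=
    ⟨d, liftRep N σ, liftRep_irreducible N σ hσ, rfl⟩
  have hθtN : IsIrrCharacter (liftN N σ) (fun n : liftN N σ => θt n) :=
    ⟨d, liftRepN N σ, liftRepN_irreducible N σ hσ, rfl⟩
  set χt : liftGroup N σ → ℂ := fun x => χ (liftFst N σ x) with hχt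
  have hχt_irr : IsIrrCharacter (liftGroup N σ) χt :=
    Helper20.irr_comp_surjective (liftFst N σ) hsurj hχ
  obtain ⟨h1, -, -⟩ := Cfsg.Agent.S0868.result (liftN N σ) θt hθt_irr hθtN χt hχt_irr
    (Cfsg.Agent.S0868.eta (liftN N σ) χt θt) rfl
  have hsum : ∀ F : liftGroup N σ → ℂ, ∑ m : liftN N σ, F m = ∑ n : N, F (liftIncl N σ n) := by
    intro F
    obtain ⟨E, hE⟩ : ∃ E : N ≃ liftN N σ, ∀ n : N, (E n : liftGroup N σ) = liftIncl N σ n :=
      ⟨(MonoidHom.ofInjective (liftIncl_injective N σ)).toEquiv, fun n => rfl⟩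
    have h2 := (Equiv.sum_comp E (fun m : liftN N σ => F m)).symm
    simp only [hE] at h2
    exact h2
  have hcardN : Nat.card (liftN N σ) = Nat.card N :=
    (Nat.card_congr (MonoidHom.ofInjective (liftIncl_injective N σ)).toEquiv).symm
  have hnorm : classInner θ θ = 1 := by
    have := irr_orthonormal (⟨θ, hθ'⟩ : IrrCharacter N) ⟨θ, hθ'⟩
    simpa using this
  have hinner : classInner (fun n : liftN N σ => χt n) (fun n : liftN N σ => θt n) = e := by
    unfold classInner
    rw [hcardN, hsum (fun x => χt x * conj (θt x))]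
    have h2 : ∀ n : N, χt (liftIncl N σ n) * conj (θt (liftIncl N σ n)) =
        e * (θ n * conj (θ n)) := by
      intro n
      have h3 : χt (liftIncl N σ n) = χ n := rfl
      have h4 : θt (liftIncl N σ n) = θ n := by rw [← hσθ]; rfl
      rw [h3, h4, hres n, mul_assoc]
    rw [Finset.sum_congr rfl (fun n _ => h2 n), ← Finset.mul_sum, ← mul_assoc,
      mul_comm _ (e : ℂ), mul_assoc]
    unfold classInner at hnorm
    rw [hnorm, mul_one]
  have hη := h1 (by rw [hinner]; exact he)
  have hη1 : Cfsg.Agent.S0868.eta (liftN N σ) χt θt 1 = e := by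
    rw [Cfsg.Agent.S0868.eta_one]
    exact hinner
  have hηN : ∀ n : N, Cfsg.Agent.S0868.eta (liftN N σ) χt θt (liftIncl N σ n) =
      Cfsg.Agent.S0868.eta (liftN N σ) χt θt 1 := by
    intro n
    have h2 := Cfsg.Agent.S0868.eta_mul_left (liftN N σ) χt θt 1 ⟨liftIncl N σ n, ⟨n, rfl⟩⟩
    rw [mul_one] at h2
    exact h2
  obtain ⟨m, ρ, hρ, hρη⟩ := hη
  have := hρ
  have hm : m = e := by
    have h2 := Representation.char_one ρ
    rw [hρη, hη1, Module.finrank_fin_fun] at h2
    exact_mod_cast h2.symm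
  have hscal : ∀ a ∈ N.comap (liftFst N σ), ∃ c : ℂ, ρ a = c • LinearMap.id := by
    intro a ha
    let n : N := ⟨liftFst N σ a, ha⟩
    set b : liftGroup N σ := (liftIncl N σ n)⁻¹ * a with hb
    have hb1 : b.1.1 = 1 := by
      show ((liftIncl N σ n)⁻¹ * a).1.1 = 1
      have h2 : ((liftIncl N σ n)⁻¹ * a).1.1 = ((liftIncl N σ n).1.1)⁻¹ * a.1.1 := rfl
      rw [h2, liftIncl_fst]
      exact inv_mul_cancel _
    have hρn : ρ (liftIncl N σ n) = 1 := by
      apply (char_eq_iff_rho_eq_one ρ _).mp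
      rw [hρη, hηN]
    have ha' : a = liftIncl N σ n * b := by rw [hb]; group
    obtain ⟨c0, hc0, -⟩ := liftGroup_scalar N σ b hb1
    have hbc : ∀ y : liftGroup N σ, b * y = y * b := by
      intro y
      apply Subtype.ext
      apply Prod.ext
      · show b.1.1 * y.1.1 = y.1.1 * b.1.1
        rw [hb1, one_mul, mul_one]
      · apply Units.ext
        show (b.1.2 : Module.End ℂ (Fin d → ℂ)) * (y.1.2 : Module.End ℂ (Fin d → ℂ)) =
          (y.1.2 : Module.End ℂ (Fin d → ℂ)) * (b.1.2 : Module.End ℂ (Fin d → ℂ))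
        rw [hc0]
        apply LinearMap.ext
        intro v
        simp
    have hcomm : ∀ (y : liftGroup N σ) (v : Fin m → ℂ), ρ b (ρ y v) = ρ y (ρ b v) := by
      intro y v
      have h2 : ρ b * ρ y = ρ y * ρ b := by rw [← map_mul, hbc y, map_mul]
      exact congrArg (fun f : Module.End ℂ (Fin m → ℂ) => f v) h2
    obtain ⟨c, hc⟩ := Helper5.schur_scalar ρ (ρ b) hcomm
    exact ⟨c, by rw [ha', map_mul, hρn, one_mul, hc]⟩
  have hdvd := Helper5.finrank_dvd_index_of_scalar ρ (N.comap (liftFst N σ)) hscal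
  rw [Subgroup.index_comap_of_surjective N hsurj, Module.finrank_fin_fun, hm] at hdvd
  exact hdvd

end ProjDeg

end Cfsg.Agent.Lib.Helper83
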