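import Mathlib
import Cfsg.Agent.Lib.Helper83.ProjDeg
import Cfsg.Agent.Lib.Helper20.LinChar

set_option autoImplicit false

namespace Cfsg.Agent.Lib.Helper83

open scoped ComplexConjugate
open Cfsg

section ProjExt

variable {G : Type*} [Group G] (N : Subgroup G) [hN : N.Normal] {d : ℕ}
  (σ : Representation ℂ N (Fin d → ℂ))

/-- the scalar by which an element of the lifting group lying over `P` differs from an extension
`τ` of `σ` to `P` -/
noncomputable def liftScal (P : Subgroup G) (τ : Representation ℂ P (Fin d → ℂ))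
    (x : P.comap (liftFst N σ)) : ℂ :=
  LinearMap.trace ℂ (Fin d → ℂ)
    (τ (⟨liftFst N σ x, x.2⟩ : P)⁻¹ * (x.1.1.2 : Module.End ℂ (Fin d → ℂ))) / d

theorem liftScal_eq (hd : 0 < d) (P : Subgroup G) (τ : Representation ℂ P (Fin d → ℂ))
    (x : P.comap (liftFst N σ)) (c : ℂ)
    (h : (x.1.1.2 : Module.End ℂ (Fin d → ℂ)) = c • τ ⟨liftFst N σ x, x.2⟩) :
    liftScal N σ P τ x = c := by
  unfold liftScal
  have hd' : (d : ℂ) ≠ 0 := by exact_mod_cast hd.ne'
  have h1 : LinearMap.trace ℂ (Fin d → ℂ) (1 : Module.End ℂ (Fin d → ℂ)) = d := by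
    rw [Module.End.one_eq_id, LinearMap.trace_id, Module.finrank_fin_fun]
  rw [h, mul_smul_comm, ← map_mul, inv_mul_cancel, map_one, map_smul, h1, smul_eq_mul]
  field_simp

theorem liftScal_spec [hσ : σ.IsIrreducible] (hd : 0 < d) (P : Subgroup G) (hNP : N ≤ P)
    (τ : Representation ℂ P (Fin d → ℂ)) (hτ : ∀ n : N, τ ⟨n, hNP n.2⟩ = σ n)
    (x : P.comap (liftFst N σ)) :
    (x.1.1.2 : Module.End ℂ (Fin d → ℂ)) = liftScal N σ P τ x • τ ⟨liftFst N σ x, x.2⟩ := by
  set g : P := ⟨liftFst N σ x, x.2⟩ with hg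
  set Q : Module.End ℂ (Fin d → ℂ) := (x.1.1.2 : Module.End ℂ (Fin d → ℂ)) with hQ
  have hcomm : ∀ n : N, (τ g⁻¹ * Q) * σ n = σ n * (τ g⁻¹ * Q) := by
    intro n
    let n' : N := ⟨(g : G) * n * (g : G)⁻¹, hN.conj_mem n n.2 g⟩
    have h1 : Q * σ n = σ n' * Q := x.1.2.1 n n' rfl
    have h2 : τ g⁻¹ * σ n' = σ n * τ g⁻¹ := by
      rw [← hτ n', ← hτ n, ← map_mul, ← map_mul]
      congr 1
      apply Subtype.ext
      simp [n']
      group
    rw [mul_assoc, h1, ← mul_assoc, h2, mul_assoc]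
  obtain ⟨c, hc⟩ := Helper5.schur_scalar σ (τ g⁻¹ * Q) (fun n v =>
    congrArg (fun f : Module.End ℂ (Fin d → ℂ) => f v) (hcomm n))
  have hQc : Q = c • τ g := by
    have h3 : Q = τ g * (τ g⁻¹ * Q) := by
      rw [← mul_assoc, ← map_mul, mul_inv_cancel, map_one, one_mul]
    rw [h3, hc]
    apply LinearMap.ext
    intro v
    simp
  rw [liftScal_eq N σ hd P τ x c hQc]
  exact hQc

/-- the linear character of the part of the lifting group over `P` attached to an extension `τ`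
of `σ` to `P` -/
noncomputable def liftScalHom [hσ : σ.IsIrreducible] (hd : 0 < d) (P : Subgroup G) (hNP : N ≤ P)
    (τ : Representation ℂ P (Fin d → ℂ)) (hτ : ∀ n : N, τ ⟨n, hNP n.2⟩ = σ n) :
    P.comap (liftFst N σ) →* ℂˣ :=
  MonoidHom.toHomUnits
    { toFun := liftScal N σ P τ
      map_one' := liftScal_eq N σ hd P τ 1 1 (by
        rw [one_smul]
        have h1 : (⟨liftFst N σ (1 : P.comap (liftFst N σ)), (1 : P.comap (liftFst N σ)).2⟩ : P)
            = 1 := Subtype.ext (map_one _)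
        rw [h1, map_one]
        rfl)
      map_mul' := fun x y => liftScal_eq N σ hd P τ (x * y) _ (by
        have hx := liftScal_spec N σ hd P hNP τ hτ x
        have hy := liftScal_spec N σ hd P hNP τ hτ y
        have h1 : (((x * y : P.comap (liftFst N σ)).1.1.2 : (Module.End ℂ (Fin d → ℂ))ˣ) :
            Module.End ℂ (Fin d → ℂ)) = (x.1.1.2 : Module.End ℂ (Fin d → ℂ)) *
              (y.1.1.2 : Module.End ℂ (Fin d → ℂ)) := rfl
        have h2 : (⟨liftFst N σ (x * y : P.comap (liftFst N σ)),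
            (x * y : P.comap (liftFst N σ)).2⟩ : P) =
            ⟨liftFst N σ x, x.2⟩ * ⟨liftFst N σ y, y.2⟩ := Subtype.ext (map_mul _ _ _)
        rw [h1, hx, hy, smul_mul_smul_comm, h2, map_mul]) }

theorem liftScalHom_apply [hσ : σ.IsIrreducible] (hd : 0 < d) (P : Subgroup G) (hNP : N ≤ P)
    (τ : Representation ℂ P (Fin d → ℂ)) (hτ : ∀ n : N, τ ⟨n, hNP n.2⟩ = σ n)
    (x : P.comap (liftFst N σ)) :
    ((liftScalHom N σ hd P hNP τ hτ x : ℂˣ) : ℂ) = liftScal N σ P τ x := rfl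

section base

variable [hσ : σ.IsIrreducible] (hd : 0 < d)

/-- the canonical linear character of the preimage of `N` in the lifting group: the element
`(n, c • σ n)` goes to `c` -/
noncomputable def baseHom : N.comap (liftFst N σ) →* ℂˣ :=
  liftScalHom N σ hd N le_rfl σ (fun _ => rfl)

theorem baseHom_spec (m : N.comap (liftFst N σ)) :
    (m.1.1.2 : Module.End ℂ (Fin d → ℂ)) =
      ((baseHom N σ hd m : ℂˣ) : ℂ) • σ ⟨liftFst N σ m, m.2⟩ :=
  liftScal_spec N σ hd N le_rfl σ (fun _ => rfl) m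

theorem baseHom_eq (m : N.comap (liftFst N σ)) (c : ℂ)
    (h : (m.1.1.2 : Module.End ℂ (Fin d → ℂ)) = c • σ ⟨liftFst N σ m, m.2⟩) :
    ((baseHom N σ hd m : ℂˣ) : ℂ) = c :=
  liftScal_eq N σ hd N σ m c h

theorem baseHom_liftIncl (n : N) (hn : liftIncl N σ n ∈ N.comap (liftFst N σ)) :
    baseHom N σ hd ⟨liftIncl N σ n, hn⟩ = 1 := by
  apply Units.ext
  rw [Units.val_one]
  apply baseHom_eq
  rw [one_smul]
  rfl

theorem baseHom_conj (g : liftGroup N σ) (m : N.comap (liftFst N σ))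
    (hm : g * m * g⁻¹ ∈ N.comap (liftFst N σ)) :
    baseHom N σ hd ⟨g * m * g⁻¹, hm⟩ = baseHom N σ hd m := by
  apply Units.ext
  apply baseHom_eq
  have h1 := baseHom_spec N σ hd m
  have h2 := g.2.1 ⟨liftFst N σ m, m.2⟩ ⟨liftFst N σ (g * m * g⁻¹), hm⟩ (by
    show liftFst N σ (g * m * g⁻¹) = g.1.1 * liftFst N σ m * g.1.1⁻¹
    rw [map_mul, map_mul, map_inv]
    rfl)
  show (g.1.2 : Module.End ℂ (Fin d → ℂ)) * (m.1.1.2 : Module.End ℂ (Fin d → ℂ)) *
    ((g.1.2⁻¹ : (Module.End ℂ (Fin d → ℂ))ˣ) : Module.End ℂ (Fin d → ℂ)) = _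
  rw [h1, mul_smul_comm, h2, smul_mul_assoc, mul_assoc, Units.mul_inv, mul_one]

theorem exists_hom_pow [Finite G] (hsurj : Function.Surjective (liftFst N σ))
    (P : Subgroup G) (hNP : N ≤ P) (τ : Representation ℂ P (Fin d → ℂ))
    (hτ : ∀ n : N, τ ⟨n, hNP n.2⟩ = σ n) :
    ∃ μ : liftGroup N σ →* ℂˣ, ∀ m : N.comap (liftFst N σ),
      μ m = baseHom N σ hd m ^ P.index := by
  have : Finite (liftGroup N σ) := liftGroup_finite N σ hσ hd
  have hle : N.comap (liftFst N σ) ≤ P.comap (liftFst N σ) := Subgroup.comap_mono hNP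
  refine ⟨MonoidHom.transfer (liftScalHom N σ hd P hNP τ hτ), fun m => ?_⟩
  have h := Helper20.transfer_normal (N.comap (liftFst N σ)) (P.comap (liftFst N σ)) hle
    (liftScalHom N σ hd P hNP τ hτ) (baseHom N σ hd) (fun m => by
      apply Units.ext
      rw [liftScalHom_apply]
      apply liftScal_eq N σ hd
      have h1 := baseHom_spec N σ hd m
      rw [h1]
      congr 1
      exact (hτ ⟨liftFst N σ m, m.2⟩).symm)
    (fun g m => baseHom_conj N σ hd g m _) m
  rw [h, Subgroup.index_comap_of_surjective P hsurj]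

/-- the exponents `a` such that `baseHom ^ a` extends to the whole lifting group -/
def extExp : AddSubgroup ℤ where
  carrier := {a | ∃ μ : liftGroup N σ →* ℂˣ, ∀ m : N.comap (liftFst N σ),
    μ m = baseHom N σ hd m ^ a}
  add_mem' := by
    rintro a b ⟨μ, hμ⟩ ⟨ν, hν⟩
    exact ⟨μ * ν, fun m => by rw [MonoidHom.mul_apply, hμ, hν, zpow_add]⟩
  zero_mem' := ⟨1, fun m => by simp⟩
  neg_mem' := by
    rintro a ⟨μ, hμ⟩
    exact ⟨μ⁻¹, fun m => by rw [MonoidHom.inv_apply, hμ, zpow_neg]⟩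

end base

theorem one_mem_of_coprime (Λ : AddSubgroup ℤ)
    (h : ∀ p : ℕ, p.Prime → ∃ m : ℕ, (m : ℤ) ∈ Λ ∧ Nat.Coprime m p) : (1 : ℤ) ∈ Λ := by
  obtain ⟨g, hg⟩ := Int.subgroup_cyclic Λ
  have hdvd : ∀ x ∈ Λ, g ∣ x := by
    intro x hx
    rw [hg, AddSubgroup.mem_closure_singleton] at hx
    obtain ⟨n, rfl⟩ := hx
    exact ⟨n, by rw [smul_eq_mul, mul_comm]⟩
  have hgmem : g ∈ Λ := by
    rw [hg]
    exact AddSubgroup.subset_closure (Set.mem_singleton g)
  have hnat : g.natAbs = 1 := by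
    by_contra hne
    obtain ⟨q, hq, hqd⟩ := Nat.exists_prime_and_dvd hne
    obtain ⟨m, hm, hcop⟩ := h q hq
    have h1 : g ∣ (m : ℤ) := hdvd _ hm
    have h2 : (q : ℤ) ∣ g := Int.natCast_dvd.mpr hqd
    have h3 : q ∣ m := by exact_mod_cast h2.trans h1
    have h4 : q ∣ 1 := by
      have := Nat.dvd_gcd h3 (dvd_refl q)
      rwa [hcop] at this
    exact hq.one_lt.ne' (Nat.dvd_one.mp h4)
  rcases Int.natAbs_eq g with h1 | h1
  · rw [hnat] at h1
    rw [show (1 : ℤ) = g from h1.symm]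
    exact hgmem
  · rw [hnat] at h1
    have h2 : (1 : ℤ) = -g := by rw [h1]; simp
    rw [h2]
    exact Λ.neg_mem hgmem

theorem exists_rep_of_hom [hσ : σ.IsIrreducible] (hd : 0 < d)
    (hsurj : Function.Surjective (liftFst N σ)) (μ : liftGroup N σ →* ℂˣ)
    (hμ : ∀ m : N.comap (liftFst N σ), μ m = baseHom N σ hd m) :
    ∃ ρ : Representation ℂ G (Fin d → ℂ), ∀ n : N, ρ n = σ n := by
  let R₀ : liftGroup N σ →* Module.End ℂ (Fin d → ℂ) :=
    { toFun := fun x => (((μ x)⁻¹ : ℂˣ) : ℂ) • liftRep N σ x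
      map_one' := by simp
      map_mul' := fun x y => by
        rw [map_mul, map_mul, mul_inv, Units.val_mul, smul_mul_smul_comm] }
  have hker : (liftFst N σ).ker ≤ (MonoidHom.toHomUnits R₀).ker := by
    intro x hx
    rw [MonoidHom.mem_ker] at hx ⊢
    have hxN : x ∈ N.comap (liftFst N σ) := by
      show liftFst N σ x ∈ N
      rw [hx]
      exact N.one_mem
    have h1 := baseHom_spec N σ hd ⟨x, hxN⟩
    have h2 : (⟨liftFst N σ x, hxN⟩ : N) = 1 := Subtype.ext hx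
    apply Units.ext
    show (((μ x)⁻¹ : ℂˣ) : ℂ) • liftRep N σ x = 1
    rw [liftRep_apply, h1, h2, map_one, ← hμ ⟨x, hxN⟩, smul_smul, ← Units.val_mul,
      inv_mul_cancel, Units.val_one, one_smul]
  let ρu : G →* (Module.End ℂ (Fin d → ℂ))ˣ :=
    (liftFst N σ).liftOfSurjective hsurj ⟨MonoidHom.toHomUnits R₀, hker⟩
  refine ⟨(Units.coeHom _).comp ρu, fun n => ?_⟩
  have h1 : ρu (liftFst N σ (liftIncl N σ n)) = MonoidHom.toHomUnits R₀ (liftIncl N σ n) :=
    MonoidHom.liftOfRightInverse_comp_apply _ _ _ ⟨MonoidHom.toHomUnits R₀, hker⟩ _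
  have hn : liftIncl N σ n ∈ N.comap (liftFst N σ) := n.2
  have h2 : μ (liftIncl N σ n) = 1 := by
    rw [hμ ⟨liftIncl N σ n, hn⟩]
    exact baseHom_liftIncl N σ hd n hn
  show ((ρu (liftFst N σ (liftIncl N σ n)) : (Module.End ℂ (Fin d → ℂ))ˣ) :
    Module.End ℂ (Fin d → ℂ)) = σ n
  rw [h1]
  show (((μ (liftIncl N σ n))⁻¹ : ℂˣ) : ℂ) • liftRep N σ (liftIncl N σ n) = σ n
  rw [h2, inv_one, Units.val_one, one_smul, liftRep_liftIncl]

/-- If the irreducible representation `σ` of the normal subgroup `N` has `G`-invariant character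
and, for every prime `p`, extends to a subgroup `P ⊇ N` of index prime to `p`, then it extends
to `G`. -/
theorem exists_rep_extension_of_sylow [Finite G] (hσ : σ.IsIrreducible)
    (hinv : ∀ (g : G) (n m : N), (m : G) = g * n * g⁻¹ → σ.character m = σ.character n)
    (hsyl : ∀ p : ℕ, p.Prime → ∃ (P : Subgroup G) (hNP : N ≤ P)
      (τ : Representation ℂ P (Fin d → ℂ)), Nat.Coprime P.index p ∧
        ∀ n : N, τ ⟨n, hNP n.2⟩ = σ n) :
    ∃ ρ : Representation ℂ G (Fin d → ℂ), ∀ n : N, ρ n = σ n := by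
  have := hσ
  have hd : 0 < d := by
    have hnt := Helper5.irr_nontrivial σ
    by_contra h0
    have hd0 : d = 0 := by omega
    subst hd0
    exact not_subsingleton (Fin 0 → ℂ) inferInstance
  have hsurj := liftFst_surjective N σ hd hinv
  have h1 : (1 : ℤ) ∈ extExp N σ hd := by
    apply one_mem_of_coprime
    intro p hp
    obtain ⟨P, hNP, τ, hcop, hτ⟩ := hsyl p hp
    refine ⟨P.index, ?_, hcop⟩
    obtain ⟨μ, hμ⟩ := exists_hom_pow N σ hd hsurj P hNP τ hτ
    exact ⟨μ, fun m => by rw [hμ m, zpow_natCast]⟩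
  obtain ⟨μ, hμ⟩ := h1
  exact exists_rep_of_hom N σ hd hsurj μ (fun m => by rw [hμ m, zpow_one])

/-- an irreducible character of `P ⊇ N` extending the character of `σ` is afforded by a
representation extending `σ` -/
theorem exists_rep_of_char [Finite G] {P : Subgroup G} (hNP : N ≤ P) (η : P → ℂ)
    (hη : IsCharacter P η) (hres : ∀ n : N, η ⟨n, hNP n.2⟩ = σ.character n) :
    ∃ τ : Representation ℂ P (Fin d → ℂ), ∀ n : N, τ ⟨n, hNP n.2⟩ = σ n := by
  classical
  let _ : Fintype N := Fintype.ofFinite N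
  obtain ⟨m, τ₀, hτ₀⟩ := hη
  let τ₀N : Representation ℂ N (Fin m → ℂ) := τ₀.comp (Subgroup.inclusion hNP)
  have hchar : σ.character = τ₀N.character := by
    funext n
    rw [← hres n, ← hτ₀]
    rfl
  obtain ⟨E⟩ := Helper4.equiv_of_char_eq σ τ₀N hchar
  refine ⟨(E.toLinearEquiv.symm.conjRingEquiv : Module.End ℂ (Fin m → ℂ) →*
    Module.End ℂ (Fin d → ℂ)).comp τ₀, fun n => ?_⟩
  apply LinearMap.ext
  intro v
  have h1 := congrArg (fun f : (Fin d → ℂ) →ₗ[ℂ] (Fin m → ℂ) => f v)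
    (E.toIntertwiningMap.isIntertwining' n)
  show E.toLinearEquiv.symm (τ₀ ⟨n, hNP n.2⟩ (E.toLinearEquiv.symm.symm v)) = σ n v
  rw [LinearEquiv.symm_apply_eq]
  exact h1.symm

end ProjExt

end Cfsg.Agent.Lib.Helper83
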