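import Mathlib
import Cfsg.Agent.S0888
import Cfsg.Agent.Lib.Helper84.ItoMichler
import Cfsg.Agent.Lib.Helper75.FrattiniAct
import Cfsg.Agent.Lib.Helper83.Pc4
import Cfsg.Agent.Lib.Helper83.Dl1

set_option autoImplicit false

/-! Character-theoretic lemmas for bounding the derived length of a Sylow `p`-subgroup of a
`p`-solvable group: a relative version of Itô's theorem over an abelian normal `p`-subgroup. -/

namespace Cfsg.Agent.Lib.Helper83

open Cfsg Cfsg.Agent.Lib
open scoped ComplexConjugate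

universe u

section infl

variable {G : Type*} [Group G] [Finite G] (p : ℕ) (N : Subgroup G) [N.Normal]

/-- inflation of the characters of degree divisible by `p` -/
noncomputable def dlInfl (β : {χ : IrrCharacter (G ⧸ N) // p ∣ charDegree (χ : G ⧸ N → ℂ)}) :
    {χ : IrrCharacter G // p ∣ charDegree (χ : G → ℂ)} :=
  ⟨⟨fun g : G => ((β : IrrCharacter (G ⧸ N)) : G ⧸ N → ℂ) (g : G ⧸ N), irr_inflate N β.1.2⟩, β.2⟩

omit [Finite G] in
theorem dlInfl_injective : Function.Injective (dlInfl p N) := by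
  intro β β' h
  apply Subtype.ext
  apply Subtype.ext
  funext q
  obtain ⟨g, rfl⟩ := QuotientGroup.mk_surjective q
  have h1 := congrArg (fun z : {χ : IrrCharacter G // p ∣ charDegree (χ : G → ℂ)} =>
    ((z : IrrCharacter G) : G → ℂ) g) h
  exact h1

theorem dl_bad_le :
    Nat.card {χ : IrrCharacter (G ⧸ N) // p ∣ charDegree (χ : G ⧸ N → ℂ)} ≤
      Nat.card {χ : IrrCharacter G // p ∣ charDegree (χ : G → ℂ)} := by
  classical
  let _ : Fintype G := Fintype.ofFinite _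
  have := Helper4.irr_finite (G := G)
  exact Nat.card_le_card_of_injective _ (dlInfl_injective p N)

theorem dl_bad_eq (h : Nat.card {χ : IrrCharacter G // p ∣ charDegree (χ : G → ℂ)} ≤
      Nat.card {χ : IrrCharacter (G ⧸ N) // p ∣ charDegree (χ : G ⧸ N → ℂ)})
    {χ : G → ℂ} (hχ : IsIrrCharacter G χ) (hbad : p ∣ charDegree χ) : ∀ a ∈ N, χ a = χ 1 := by
  classical
  let _ : Fintype G := Fintype.ofFinite _
  let _ : Fintype (G ⧸ N) := Fintype.ofFinite _
  have := Helper4.irr_finite (G := G)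
  have := Helper4.irr_finite (G := G ⧸ N)
  have hsurj := (Function.Injective.bijective_of_nat_card_le (dlInfl_injective p N) h).2
  obtain ⟨β, hβ⟩ := hsurj ⟨⟨χ, hχ⟩, hbad⟩
  have h1 : (fun g : G => ((β : IrrCharacter (G ⧸ N)) : G ⧸ N → ℂ) (g : G ⧸ N)) = χ :=
    congrArg (fun z : {χ : IrrCharacter G // p ∣ charDegree (χ : G → ℂ)} =>
      ((z : IrrCharacter G) : G → ℂ)) hβ
  intro a ha
  rw [← h1]
  show ((β : IrrCharacter (G ⧸ N)) : G ⧸ N → ℂ) ((a : G) : G ⧸ N) =
    ((β : IrrCharacter (G ⧸ N)) : G ⧸ N → ℂ) ((1 : G) : G ⧸ N)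
  rw [(QuotientGroup.eq_one_iff a).mpr ha]
  rfl

end infl

section ext

/-- invariant characters of a normal subgroup of index prime to its order extend -/
theorem cop_extend {G : Type*} [Group G] [Finite G] (N : Subgroup G) [hNn : N.Normal]
    (hcop : Nat.Coprime N.index (Nat.card N)) {θ : N → ℂ} (hθ : IsIrrCharacter N θ)
    (hinv : pcInv N θ) : ∃ η : G → ℂ, IsIrrCharacter G η ∧ ∀ n : N, η n = θ n := by
  obtain ⟨-, h1⟩ := irr_degree hθ
  have hcop' : Nat.Coprime N.index (detOrder θ * charDegree θ) := by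
    apply Nat.Coprime.mul_right
    · exact Nat.Coprime.coprime_dvd_right (detOrder_dvd_card θ) hcop
    · exact Nat.Coprime.coprime_dvd_right (irr_degree_dvd_card' hθ) hcop
  obtain ⟨χ, ⟨hχ, hres, -⟩, -⟩ := S0867.result N θ hθ hinv (charDegree θ) h1 hcop'
  exact ⟨χ, hχ, hres⟩

/-- a linear character composed with a homomorphism is an irreducible character -/
theorem irr_linear_comp {G H : Type*} [Group G] [Group H] {ξ : G → ℂ} (hξ : IsIrrCharacter G ξ)
    (h1 : ξ 1 = 1) (f : H →* G) : IsIrrCharacter H (fun h => ξ (f h)) := by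
  obtain ⟨n, ρ, hρ, rfl⟩ := hξ
  have hn : n = 1 := by
    rw [Representation.char_one] at h1
    simp at h1
    exact_mod_cast h1
  subst hn
  exact ⟨1, ρ.comp f, irreducible_of_finrank_one (ρ.comp f) (by simp), rfl⟩

/-- an irreducible character over an invariant linear character restricts to a multiple of it -/
theorem inv_res {G : Type*} [Group G] [Fintype G] (A : Subgroup G) [hA : A.Normal] [Fintype A]
    {θ : A → ℂ} (hθ : IsIrrCharacter A θ) (h1 : θ 1 = 1) (hinv : pcInv A θ) {ψ : G → ℂ}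
    (hψ : IsIrrCharacter G ψ) (hcon : classInner (fun a : A => ψ a) θ ≠ 0) (a : A) :
    ψ a = ψ 1 * θ a := by
  have hT : ∀ g : G, g ∈ (⊤ : Subgroup G) ↔ Helper20.conjFun A θ g = θ :=
    fun g => ⟨fun _ => funext (fun n => hinv g n), fun _ => Subgroup.mem_top g⟩
  have hr := Helper20.clifford_res A hθ hψ hcon ⊤ hT
  have hsum : ∀ h : A, ∑ x : G, Helper20.conjFun A θ x h = (Nat.card G : ℂ) * θ h := by
    intro h
    have h2 : ∀ x ∈ (Finset.univ : Finset G), Helper20.conjFun A θ x h = θ h :=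
      fun x _ => congrFun ((hT x).mp (Subgroup.mem_top x)) h
    rw [Finset.sum_congr rfl h2, Finset.sum_const, Finset.card_univ, nsmul_eq_mul,
      Nat.card_eq_fintype_card]
  have hcard : (Nat.card (⊤ : Subgroup G) : ℂ) = Nat.card G := by rw [Subgroup.card_top]
  have hG0 : (Nat.card G : ℂ) ≠ 0 := by exact_mod_cast (Nat.card_pos (α := G)).ne'
  have e1 := hr 1
  have ea := hr a
  rw [hsum, hcard] at e1 ea
  have he : ψ 1 = classInner (fun a : A => ψ a) θ := by
    have h3 : ψ ((1 : A) : G) = ψ 1 := rfl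
    rw [← h3, e1, h1]
    field_simp
  rw [ea, he]
  field_simp

/-- a character of a `p`-group of degree prime to `p` has a linear constituent -/
theorem pgroup_linear_const {P : Type*} [Group P] [Fintype P] (p : ℕ) [Fact p.Prime]
    (hP : IsPGroup p P) {ζ : P → ℂ} (hζ : IsCharacter P ζ) (d : ℕ) (hd : ζ 1 = d)
    (hpd : ¬ p ∣ d) : ∃ ξ : P → ℂ, IsIrrCharacter P ξ ∧ classInner ζ ξ ≠ 0 ∧ ξ 1 = 1 := by
  classical
  have := Helper4.irr_finite (G := P)
  let _ : Fintype (IrrCharacter P) := Fintype.ofFinite _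
  obtain ⟨m, hm⟩ := Helper4.exists_decomp_of_isCharacter ζ hζ
  by_contra hcon
  push Not at hcon
  apply hpd
  have h1 : (d : ℂ) = ((∑ ξ : IrrCharacter P, m ξ * charDegree (ξ : P → ℂ) : ℕ) : ℂ) := by
    rw [← hd, hm]
    push_cast
    rw [Finset.sum_apply]
    apply Finset.sum_congr rfl
    intro ξ _
    rw [Pi.smul_apply, smul_eq_mul, (irr_degree ξ.2).2]
  have h2 : d = ∑ ξ : IrrCharacter P, m ξ * charDegree (ξ : P → ℂ) := by exact_mod_cast h1
  rw [h2]
  apply Finset.dvd_sum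
  intro ξ _
  by_cases hmξ : m ξ = 0
  · rw [hmξ, zero_mul]
    exact dvd_zero p
  · apply Dvd.dvd.mul_left
    have h3 : classInner ζ (ξ : P → ℂ) ≠ 0 := by
      rw [hm, Helper4.classInner_sum_irr (fun χ => (m χ : ℂ)) ξ]
      exact_mod_cast hmξ
    have h4 := hcon ξ ξ.2 h3
    obtain ⟨k, hk⟩ := IsPGroup.iff_card.mp hP
    have h5 := irr_degree_dvd_card' ξ.2
    rw [hk] at h5
    obtain ⟨j, -, hj⟩ := (Nat.dvd_prime_pow Fact.out).mp h5
    have hj0 : j ≠ 0 := by
      rintro rfl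
      apply h4
      rw [(irr_degree ξ.2).2, hj]
      simp
    rw [hj]
    exact dvd_pow_self p hj0

/-- extension to a `p`-subgroup containing `A` -/
theorem dl_ext_sylow {G : Type*} [Group G] [Fintype G] (p : ℕ) [Fact p.Prime] (A : Subgroup G)
    [hA : A.Normal] [Fintype A] {θ : A → ℂ} (hθ : IsIrrCharacter A θ) (h1 : θ 1 = 1)
    (hinv : pcInv A θ) {ψ : G → ℂ} (hψ : IsIrrCharacter G ψ)
    (hcon : classInner (fun a : A => ψ a) θ ≠ 0) (hdeg : ¬ p ∣ charDegree ψ)
    (P : Subgroup G) (hP : IsPGroup p P) (hAP : A ≤ P) :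
    ∃ η : P → ℂ, IsIrrCharacter P η ∧ ∀ a : A, η ⟨(a : G), hAP a.2⟩ = θ a := by
  classical
  let _ : Fintype P := Fintype.ofFinite _
  have hζ : IsCharacter P (fun x : P => ψ x) :=
    Helper20.isCharacter_comp P.subtype (Helper35.isChar_of_irr hψ)
  obtain ⟨ξ, hξ, hξc, hξ1⟩ := pgroup_linear_const p hP hζ (charDegree ψ) (irr_degree hψ).2 hdeg
  refine ⟨ξ, hξ, ?_⟩
  have hμ : IsIrrCharacter A (fun a : A => ξ (Subgroup.inclusion hAP a)) :=
    irr_linear_comp hξ hξ1 (Subgroup.inclusion hAP)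
  have h2 : classInner (fun a : A => ξ (Subgroup.inclusion hAP a))
      (fun a : A => ξ (Subgroup.inclusion hAP a)) ≠ 0 := by
    rw [Helper35.classInner_irr' hμ hμ, if_pos rfl]
    exact one_ne_zero
  have h3 := const_trans (Subgroup.inclusion hAP) hζ hξ hξc (Helper35.isChar_of_irr hμ) h2
  have h4 : (fun h : A => ψ ((Subgroup.inclusion hAP h : P) : G)) = (ψ 1) • θ := by
    funext a
    rw [Pi.smul_apply, smul_eq_mul, ← inv_res A hθ h1 hinv hψ hcon a]
    rfl
  have h3' : classInner ((ψ 1) • θ) (fun a : A => ξ (Subgroup.inclusion hAP a)) ≠ 0 := by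
    rw [← h4]
    exact h3
  rw [classInner_smul_left] at h3'
  have h5 : classInner θ (fun a : A => ξ (Subgroup.inclusion hAP a)) ≠ 0 :=
    right_ne_zero_of_mul h3'
  rw [Helper35.classInner_irr' hθ hμ] at h5
  have h6 : θ = fun a : A => ξ (Subgroup.inclusion hAP a) := by
    by_contra h
    rw [if_neg h] at h5
    exact h5 rfl
  intro a
  rw [h6]
  rfl

/-- extension to a subgroup `L ≥ A` with `[L : A]` prime to `|A|` -/
theorem dl_ext_q {G : Type*} [Group G] [Finite G] (A : Subgroup G) [hA : A.Normal] {θ : A → ℂ}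
    (hθ : IsIrrCharacter A θ) (hinv : pcInv A θ) (L : Subgroup G) (hAL : A ≤ L)
    (hcop : Nat.Coprime (A.relIndex L) (Nat.card A)) :
    ∃ η : L → ℂ, IsIrrCharacter L η ∧ ∀ a : A, η ⟨(a : G), hAL a.2⟩ = θ a := by
  classical
  let e : A.subgroupOf L ≃* A := Subgroup.subgroupOfEquivOfLe hAL
  have he : ∀ a' : A.subgroupOf L, ((e a' : A) : G) = ((a' : L) : G) :=
    fun a' => Subgroup.subgroupOfEquivOfLe_apply_coe hAL a'
  have hθ' : IsIrrCharacter (A.subgroupOf L) (fun n => θ (e n)) :=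
    Helper20.irr_comp_surjective e.toMonoidHom e.surjective hθ
  have hinv' : pcInv (A.subgroupOf L) (fun n => θ (e n)) := by
    intro g n
    have h1 := hinv (g : G) (e n)
    show θ (e _) = θ (e n)
    rw [← h1]
    apply congrArg θ
    apply Subtype.ext
    rw [he]
    show (g : G) * ((n : L) : G) * (g : G)⁻¹ = (g : G) * ((e n : A) : G) * (g : G)⁻¹
    rw [he]
  have hcop' : Nat.Coprime (A.subgroupOf L).index (Nat.card (A.subgroupOf L)) := by
    rw [Nat.card_congr e.toEquiv]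
    exact hcop
  obtain ⟨η, hη, hres⟩ := cop_extend (A.subgroupOf L) hcop' hθ' hinv'
  refine ⟨η, hη, fun a => ?_⟩
  have hmem : (⟨(a : G), hAL a.2⟩ : L) ∈ A.subgroupOf L := Subgroup.mem_subgroupOf.mpr a.2
  have h2 := hres ⟨⟨(a : G), hAL a.2⟩, hmem⟩
  have h3 : e ⟨⟨(a : G), hAL a.2⟩, hmem⟩ = a := Subtype.ext (he _)
  rw [h3] at h2
  exact h2

/-- an invariant linear character of an abelian normal `p`-subgroup such that all characters
over it have degree prime to `p` extends to the group -/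
theorem dl_extend {G : Type*} [Group G] [Finite G] (p : ℕ) [Fact p.Prime] (A : Subgroup G)
    [hA : A.Normal] (hAp : IsPGroup p A) {θ : A → ℂ} (hθ : IsIrrCharacter A θ) (h1 : θ 1 = 1)
    (hinv : pcInv A θ)
    (hdeg : ∀ ψ : G → ℂ, IsIrrCharacter G ψ → (∀ a : A, ψ a = ψ 1 * θ a) → ¬ p ∣ charDegree ψ) :
    ∃ η : G → ℂ, IsIrrCharacter G η ∧ ∀ a : A, η a = θ a := by
  classical
  let _ : Fintype G := Fintype.ofFinite _
  let _ : Fintype A := Fintype.ofFinite _
  obtain ⟨ψ, hψ, hcon⟩ := Helper20.exists_irr_over A hθ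
  have hres := inv_res A hθ h1 hinv hψ hcon
  have hpψ := hdeg ψ hψ hres
  apply S0888.result A θ hθ hinv
  intro q hq
  have : Fact q.Prime := ⟨hq⟩
  by_cases hqp : q = p
  · subst hqp
    obtain ⟨P⟩ : Nonempty (Sylow q G) := inferInstance
    have hAP : A ≤ (P : Subgroup G) := Helper84.normal_pgroup_le_sylow q A hAp P
    obtain ⟨η, hη, hηA⟩ := dl_ext_sylow q A hθ h1 hinv hψ hcon hpψ (P : Subgroup G)
      P.isPGroup' hAP
    refine ⟨(P : Subgroup G), hAP, η, ?_, ?_, hη, hηA⟩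
    · exact ((Nat.Prime.coprime_iff_not_dvd hq).mpr P.not_dvd_index).symm
    · have h2 := Subgroup.relIndex_dvd_card A (P : Subgroup G)
      obtain ⟨m, hm⟩ := IsPGroup.iff_card.mp P.isPGroup'
      rw [hm] at h2
      obtain ⟨j, -, hj⟩ := (Nat.dvd_prime_pow hq).mp h2
      exact ⟨j, hj⟩
  · obtain ⟨Q⟩ : Nonempty (Sylow q G) := inferInstance
    have hAL : A ≤ A ⊔ (Q : Subgroup G) := le_sup_left
    have hrel : ∃ k, A.relIndex (A ⊔ (Q : Subgroup G)) = q ^ k := by
      rw [Subgroup.relIndex_sup_left]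
      have h2 := Subgroup.relIndex_dvd_card A (Q : Subgroup G)
      obtain ⟨m, hm⟩ := IsPGroup.iff_card.mp Q.isPGroup'
      rw [hm] at h2
      obtain ⟨j, -, hj⟩ := (Nat.dvd_prime_pow hq).mp h2
      exact ⟨j, hj⟩
    obtain ⟨k, hk⟩ := hrel
    have hcop : Nat.Coprime (A.relIndex (A ⊔ (Q : Subgroup G))) (Nat.card A) := by
      obtain ⟨m, hm⟩ := IsPGroup.iff_card.mp hAp
      rw [hk, hm]
      exact Nat.Coprime.pow _ _ ((Nat.coprime_primes hq Fact.out).mpr hqp)
    obtain ⟨η, hη, hηA⟩ := dl_ext_q A hθ hinv (A ⊔ (Q : Subgroup G)) hAL hcop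
    refine ⟨A ⊔ (Q : Subgroup G), hAL, η, ?_, ⟨k, hk⟩, hη, hηA⟩
    have h3 : (A ⊔ (Q : Subgroup G)).index ∣ (Q : Subgroup G).index :=
      Subgroup.index_dvd_of_le le_sup_right
    exact ((Nat.Prime.coprime_iff_not_dvd hq).mpr
      (fun h => Q.not_dvd_index (dvd_trans h h3))).symm

/-- relative Itô: if all characters over an invariant character of an abelian normal
`p`-subgroup `A` of a `p`-solvable group have degree prime to `p`, the Sylow `p`-subgroups are
abelian modulo `A` -/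
theorem dl_rel_ito {G : Type u} [Group G] [Finite G] (p : ℕ) [Fact p.Prime]
    (hsolv : IsPSolvable p G) (A : Subgroup G) [hA : A.Normal] (hAp : IsPGroup p A)
    (hAab : ∀ a ∈ A, ∀ b ∈ A, a * b = b * a) {θ : A → ℂ} (hθ : IsIrrCharacter A θ)
    (hinv : pcInv A θ)
    (hdeg : ∀ ψ : G → ℂ, IsIrrCharacter G ψ → (∀ a : A, ψ a = ψ 1 * θ a) → ¬ p ∣ charDegree ψ)
    (P : Sylow p G) :
    ∀ x ∈ (P : Subgroup G), ∀ y ∈ (P : Subgroup G), x * y * x⁻¹ * y⁻¹ ∈ A := by
  classical
  let _ : Fintype G := Fintype.ofFinite _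
  let _ : Fintype A := Fintype.ofFinite _
  have hAc : IsMulCommutative A := ⟨⟨fun a b => Subtype.ext (hAab a a.2 b b.2)⟩⟩
  have h1 : θ 1 = 1 := irr_comm_degree hθ
  obtain ⟨η, hη, hηA⟩ := dl_extend p A hAp hθ h1 hinv hdeg
  have hηA' : IsIrrCharacter A (fun a : A => η a) := by
    rw [show (fun a : A => η a) = θ from funext hηA]
    exact hθ
  have hη1 : η 1 = 1 := by
    have h2 := hηA 1
    rw [h1] at h2
    exact h2
  have hQ : ∀ β : IrrCharacter (G ⧸ A), ¬ p ∣ charDegree (β : G ⧸ A → ℂ) := by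
    intro β
    have hψ := gallagher_irr A hη hηA' β
    have hres : ∀ a : A, (fun g : G => (β : G ⧸ A → ℂ) (g : G ⧸ A) * η g) a =
        (fun g : G => (β : G ⧸ A → ℂ) (g : G ⧸ A) * η g) 1 * θ a := by
      intro a
      show (β : G ⧸ A → ℂ) ((a : G) : G ⧸ A) * η a =
        (β : G ⧸ A → ℂ) ((1 : G) : G ⧸ A) * η 1 * θ a
      rw [(QuotientGroup.eq_one_iff _).mpr a.2, hηA, hη1, mul_one]
      rfl
    have h2 := hdeg _ hψ hres
    have h3 : charDegree (fun g : G => (β : G ⧸ A → ℂ) (g : G ⧸ A) * η g) =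
        charDegree (β : G ⧸ A → ℂ) := by
      unfold charDegree
      apply congrArg (fun z : ℂ => ⌊z.re⌋₊)
      show (β : G ⧸ A → ℂ) ((1 : G) : G ⧸ A) * η 1 = (β : G ⧸ A → ℂ) 1
      rw [hη1, mul_one]
      rfl
    rwa [h3] at h2
  have hsolvQ : IsPSolvable p (G ⧸ A) := Helper75.Fratt.isPSolvable_quotient A hsolv
  obtain ⟨-, hcomm⟩ := (Helper84.ito_michler_psolvable p hsolvQ
    (P.mapSurjective (QuotientGroup.mk'_surjective A))).mpr hQ
  intro x hx y hy
  rw [← QuotientGroup.eq_one_iff]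
  have hx' : (x : G ⧸ A) ∈ ((P.mapSurjective (QuotientGroup.mk'_surjective A) :
      Sylow p (G ⧸ A)) : Subgroup (G ⧸ A)) := Subgroup.mem_map_of_mem (QuotientGroup.mk' A) hx
  have hy' : (y : G ⧸ A) ∈ ((P.mapSurjective (QuotientGroup.mk'_surjective A) :
      Sylow p (G ⧸ A)) : Subgroup (G ⧸ A)) := Subgroup.mem_map_of_mem (QuotientGroup.mk' A) hy
  have h4 := hcomm.is_comm.comm (⟨_, hx'⟩ : ↥((P.mapSurjective (QuotientGroup.mk'_surjective A) :
      Sylow p (G ⧸ A)) : Subgroup (G ⧸ A))) ⟨_, hy'⟩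
  have h5 : (x : G ⧸ A) * (y : G ⧸ A) = (y : G ⧸ A) * (x : G ⧸ A) := congrArg Subtype.val h4
  simp only [QuotientGroup.mk_mul, QuotientGroup.mk_inv]
  rw [h5]
  group

end ext

end Cfsg.Agent.Lib.Helper83
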