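import Mathlib
import Cfsg.Agent.Lib.Helper83.Glaub3

/-!
Variant of the cyclic Glauberman setting without the assumption `Γ = G⟨s⟩`:
`GPre G C s` : `G` normal in `Γ`, `|G|` coprime to the order of `s`, `C = C_G(s)`.
The group-theoretic lemmas of `Glaub2` hold verbatim, and the key theorem holds for every
irreducible character of `Γ` restricting irreducibly to `G` whose values on `C s` are stable
under the relevant Galois automorphisms (`GPre.key_general`).  For the canonical extension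
in the setting `GSetup G C s₀` this applies to every `s ∈ ⟨s₀⟩` (`GSetup.gal_pow_of_mem`).
-/

set_option autoImplicit false

namespace Cfsg.Agent.Lib.Helper83

open Cfsg
open scoped ComplexConjugate

/-- `G` is normal in `Γ`, `|G|` is coprime to the order of `s`, and `C = C_G(s)`. -/
structure GPre {Γ : Type*} [Group Γ] (G C : Subgroup Γ) (s : Γ) : Prop where
  normal : G.Normal
  cop : (Nat.card G).Coprime (orderOf s)
  memC : ∀ x : Γ, x ∈ C ↔ x ∈ G ∧ x * s = s * x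

theorem GSetup.toGPre {Γ : Type*} [Group Γ] {G C : Subgroup Γ} {s : Γ} (h : GSetup G C s) :
    GPre G C s := ⟨h.normal, h.cop, h.memC⟩

namespace GPre

section grp

variable {Γ : Type*} [Group Γ] [Finite Γ] {G C : Subgroup Γ} {s : Γ}

omit [Finite Γ] in
theorem le (h : GPre G C s) : C ≤ G := fun x hx => ((h.memC x).mp hx).1

omit [Finite Γ] in
theorem comm (h : GPre G C s) {c : Γ} (hc : c ∈ C) : c * s = s * c := ((h.memC c).mp hc).2

omit [Finite Γ] in
theorem one_memC (_h : GPre G C s) : (1 : Γ) ∈ C := C.one_mem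

omit [Finite Γ] in
/-- an exponent killing `G` and fixing `s` -/
theorem exists_exp (h : GPre G C s) : ∃ a : ℕ, s ^ a = s ∧ ∀ g ∈ G, g ^ a = 1 := by
  obtain ⟨m, hm⟩ := exists_pow_eq_self_of_coprime h.cop
  refine ⟨Nat.card G * m, ?_, ?_⟩
  · rw [pow_mul]
    exact hm
  · intro g hg
    rw [pow_mul]
    have h1 : (⟨g, hg⟩ : G) ^ Nat.card G = 1 := pow_card_eq_one'
    have h2 : g ^ Nat.card G = 1 := by
      have h3 : ((⟨g, hg⟩ : G) : Γ) ^ Nat.card G = 1 := by
        rw [← Subgroup.coe_pow, h1, Subgroup.coe_one]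
      exact h3
    rw [h2, one_pow]

omit [Finite Γ] in
/-- a `G`-conjugation between two elements of `C s` is a conjugation by an element of `C` -/
theorem conj_mem_C (h : GPre G C s) {y c c' : Γ} (hy : y ∈ G) (hc : c ∈ C) (hc' : c' ∈ C)
    (hyc : y * (c * s) * y⁻¹ = c' * s) : y ∈ C ∧ y * c * y⁻¹ = c' := by
  obtain ⟨a, ha, hG⟩ := h.exists_exp
  have h1 : ∀ d ∈ C, (d * s) ^ a = s := by
    intro d hd
    have hcomm : Commute d s := h.comm hd
    rw [hcomm.mul_pow, hG d (h.le hd), ha, one_mul]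
  have h2 : y * s * y⁻¹ = s := by
    have h3 := congrArg (· ^ a) hyc
    simp only [conj_pow, h1 c hc, h1 c' hc'] at h3
    exact h3
  have h3 : y * s = s * y := by
    calc y * s = (y * s * y⁻¹) * y := by group
      _ = s * y := by rw [h2]
  refine ⟨(h.memC y).mpr ⟨hy, h3⟩, ?_⟩
  have h4 : y * c * y⁻¹ * s = c' * s := by
    calc y * c * y⁻¹ * s = y * c * y⁻¹ * (y * s * y⁻¹) := by rw [h2]
      _ = y * (c * s) * y⁻¹ := by group
      _ = c' * s := hyc
  exact mul_right_cancel h4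

/-- elements of `C` that are conjugate in `G` are conjugate in `C` -/
theorem conj_in_C (h : GPre G C s) {x c c' : Γ} (hx : x ∈ G) (hc : c ∈ C) (hc' : c' ∈ C)
    (hxc : x * c * x⁻¹ = c') : ∃ y ∈ C, y * c * y⁻¹ = c' := by
  have hn := h.normal
  have hsc : s * c * s⁻¹ = c := by
    rw [← h.comm hc]; group
  have hsc' : s * c' * s⁻¹ = c' := by
    rw [← h.comm hc']; group
  have hsc'' : s⁻¹ * c' * s = c' := by
    rw [mul_assoc, h.comm hc']; group
  let H : Subgroup Γ := G ⊓ Subgroup.centralizer {c'}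
  have hmemH : ∀ n : Γ, n ∈ H ↔ n ∈ G ∧ n * c' = c' * n := by
    intro n
    simp only [H, Subgroup.mem_inf, Subgroup.mem_centralizer_iff, Set.mem_singleton_iff,
      forall_eq]
    constructor
    · rintro ⟨h1, h2⟩
      exact ⟨h1, h2.symm⟩
    · rintro ⟨h1, h2⟩
      exact ⟨h1, h2.symm⟩
  have hsn : s ∈ Subgroup.normalizer (H : Set Γ) := by
    rw [Subgroup.mem_set_normalizer_iff]
    intro n
    show n ∈ H ↔ s * n * s⁻¹ ∈ H
    rw [hmemH, hmemH]
    constructor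
    · rintro ⟨h1, h2⟩
      refine ⟨hn.conj_mem n h1 s, ?_⟩
      calc s * n * s⁻¹ * c' = s * n * s⁻¹ * (s * c' * s⁻¹) := by rw [hsc']
        _ = s * (n * c') * s⁻¹ := by group
        _ = s * (c' * n) * s⁻¹ := by rw [h2]
        _ = (s * c' * s⁻¹) * (s * n * s⁻¹) := by group
        _ = c' * (s * n * s⁻¹) := by rw [hsc']
    · rintro ⟨h1, h2⟩
      have h3 : n = s⁻¹ * (s * n * s⁻¹) * s⁻¹⁻¹ := by group
      refine ⟨by rw [h3]; exact hn.conj_mem _ h1 s⁻¹, ?_⟩
      calc n * c' = s⁻¹ * (s * n * s⁻¹ * c') * s := by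
            conv_lhs => rw [← hsc'']
            group
        _ = s⁻¹ * (c' * (s * n * s⁻¹)) * s := by rw [h2]
        _ = (s⁻¹ * c' * s) * n := by group
        _ = c' * n := by rw [hsc'']
  have hcopH : Nat.Coprime (orderOf s) (Nat.card H) := by
    have hdvd : Nat.card H ∣ Nat.card G := Subgroup.card_dvd_of_le inf_le_left
    exact Nat.Coprime.coprime_dvd_right hdvd h.cop.symm
  -- the commutator `[s, x]` lies in `H`
  have hxc' : x⁻¹ * c' * x = c := by
    rw [← hxc]; group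
  have hh : (s * x * s⁻¹ * x⁻¹)⁻¹ ∈ H := by
    apply H.inv_mem
    rw [hmemH]
    refine ⟨G.mul_mem (hn.conj_mem x hx s) (G.inv_mem hx), ?_⟩
    calc s * x * s⁻¹ * x⁻¹ * c' = s * x * s⁻¹ * (x⁻¹ * c' * x) * x⁻¹ := by group
      _ = s * x * s⁻¹ * (s * c * s⁻¹) * x⁻¹ := by rw [hxc', hsc]
      _ = s * (x * c * x⁻¹) * x * s⁻¹ * x⁻¹ := by group
      _ = s * c' * x * s⁻¹ * x⁻¹ := by rw [hxc]
      _ = (s * c' * s⁻¹) * (s * x * s⁻¹ * x⁻¹) := by group
      _ = c' * (s * x * s⁻¹ * x⁻¹) := by rw [hsc']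
  obtain ⟨z, hz, d, hd, hds, hzd⟩ := Cfsg.Agent.S1496.result H s hsn hcopH _ hh
  have hzH := (hmemH z).mp hz
  have hdH := (hmemH d).mp hd
  have hdC : d ∈ C := (h.memC d).mpr ⟨hdH.1, hds⟩
  have h5 : (z * x) * (1 * s) * (z * x)⁻¹ = d * s := by
    rw [← hzd]
    group
  obtain ⟨hyC, -⟩ := h.conj_mem_C (G.mul_mem hzH.1 hx) h.one_memC hdC h5
  refine ⟨z * x, hyC, ?_⟩
  calc z * x * c * (z * x)⁻¹ = z * (x * c * x⁻¹) * z⁻¹ := by group
    _ = z * c' * z⁻¹ := by rw [hxc]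
    _ = c' * z * z⁻¹ := by rw [hzH.2]
    _ = c' := by group

/-- every class of `G` stable under `s` meets `C` -/
theorem exists_conj_mem_C (h : GPre G C s) {g x : Γ} (hg : g ∈ G) (hx : x ∈ G)
    (hsg : s * g * s⁻¹ = x * g * x⁻¹) : ∃ z ∈ G, z * g * z⁻¹ ∈ C := by
  have hn := h.normal
  have hsn : s ∈ Subgroup.normalizer (G : Set Γ) := by
    rw [Subgroup.normalizer_eq_top]
    trivial
  obtain ⟨z, hz, c₁, hc₁, hcomm, hzc⟩ :=
    Cfsg.Agent.S1496.result G s hsn h.cop.symm x⁻¹ (G.inv_mem hx)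
  refine ⟨z, hz, (h.memC _).mpr ⟨hn.conj_mem g hg z, ?_⟩⟩
  obtain ⟨a, ha, hG⟩ := h.exists_exp
  have h1 : (c₁ * s) ^ a = s := by
    rw [(show Commute c₁ s from hcomm).mul_pow, hG c₁ hc₁, ha, one_mul]
  have h3 : x⁻¹ * s * g = g * x⁻¹ * s := by
    have h4 : s * g = x * g * x⁻¹ * s := by
      rw [← hsg]; group
    calc x⁻¹ * s * g = x⁻¹ * (s * g) := by group
      _ = x⁻¹ * (x * g * x⁻¹ * s) := by rw [h4]
      _ = g * x⁻¹ * s := by group
  have h2 : (c₁ * s) * (z * g * z⁻¹) = (z * g * z⁻¹) * (c₁ * s) := by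
    rw [← hzc]
    calc z * (x⁻¹ * s) * z⁻¹ * (z * g * z⁻¹) = z * (x⁻¹ * s * g) * z⁻¹ := by group
      _ = z * (g * x⁻¹ * s) * z⁻¹ := by rw [h3]
      _ = z * g * z⁻¹ * (z * (x⁻¹ * s) * z⁻¹) := by group
  have h4 : Commute (c₁ * s) (z * g * z⁻¹) := h2
  have h5 := h4.pow_left a
  rw [h1] at h5
  exact h5.eq.symm

/-- transfer of a sum over the coset `G s` to a sum over `C s` -/
theorem coset_sum (h : GPre G C s) [Fintype G] [Fintype C] (F : Γ → ℂ)
    (hF : ∀ x ∈ G, ∀ y : Γ, F (x * y * x⁻¹) = F y) :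
    (Nat.card C : ℂ) * ∑ g : G, F ((g : Γ) * s) =
      (Nat.card G : ℂ) * ∑ c : C, F ((c : Γ) * s) := by
  classical
  have hn := h.normal
  have hsn : s ∈ Subgroup.normalizer (G : Set Γ) := by
    rw [Subgroup.normalizer_eq_top]
    trivial
  have hmem : ∀ p : G × C, (p.1 : Γ) * ((p.2 : Γ) * s) * (p.1 : Γ)⁻¹ * s⁻¹ ∈ G := by
    intro p
    have h1 : (p.1 : Γ) * ((p.2 : Γ) * s) * (p.1 : Γ)⁻¹ * s⁻¹ =
        (p.1 : Γ) * (p.2 : Γ) * (s * (p.1 : Γ)⁻¹ * s⁻¹) := by group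
    rw [h1]
    exact G.mul_mem (G.mul_mem p.1.2 (h.le p.2.2)) (hn.conj_mem _ (G.inv_mem p.1.2) s)
  let φ : G × C → G := fun p => ⟨_, hmem p⟩
  have hφ : ∀ p : G × C, ((φ p : G) : Γ) * s = (p.1 : Γ) * ((p.2 : Γ) * s) * (p.1 : Γ)⁻¹ := by
    intro p
    show (p.1 : Γ) * ((p.2 : Γ) * s) * (p.1 : Γ)⁻¹ * s⁻¹ * s = _
    group
  have h1 : ∑ p : G × C, F (((φ p : G) : Γ) * s) =
      (Nat.card G : ℂ) * ∑ c : C, F ((c : Γ) * s) := by
    rw [Fintype.sum_prod_type]
    have h5 : ∀ x : G, ∑ c : C, F (((φ (x, c) : G) : Γ) * s) = ∑ c : C, F ((c : Γ) * s) := by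
      intro x
      apply Finset.sum_congr rfl
      intro c _
      rw [hφ]
      exact hF x x.2 _
    rw [Finset.sum_congr rfl (fun x _ => h5 x), Finset.sum_const, Finset.card_univ,
      nsmul_eq_mul, Nat.card_eq_fintype_card]
  have hfib : ∀ g : G, (Finset.univ.filter (fun p : G × C => φ p = g)).card = Nat.card C := by
    intro g
    obtain ⟨x, hx, c, hc, hcomm, hxc⟩ :=
      Cfsg.Agent.S1496.result G s hsn h.cop.symm (g : Γ) g.2
    have hcC : c ∈ C := (h.memC c).mpr ⟨hc, hcomm⟩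
    let ψ : C → G × C := fun y =>
      (⟨x⁻¹ * (y : Γ)⁻¹, G.mul_mem (G.inv_mem hx) (h.le (C.inv_mem y.2))⟩,
        ⟨(y : Γ) * c * (y : Γ)⁻¹, C.mul_mem (C.mul_mem y.2 hcC) (C.inv_mem y.2)⟩)
    have hψinj : Function.Injective ψ := by
      intro y y' hyy'
      have h2 : x⁻¹ * (y : Γ)⁻¹ = x⁻¹ * (y' : Γ)⁻¹ :=
        congrArg (fun p : G × C => ((p.1 : G) : Γ)) hyy'
      exact Subtype.ext (inv_injective (mul_left_cancel h2))
    have himg : Finset.univ.filter (fun p : G × C => φ p = g) = Finset.univ.image ψ := by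
      ext p
      simp only [Finset.mem_filter, Finset.mem_univ, true_and, Finset.mem_image]
      constructor
      · intro hp
        have h2 : (p.1 : Γ) * ((p.2 : Γ) * s) * (p.1 : Γ)⁻¹ = x⁻¹ * (c * s) * x := by
          rw [← hφ p, hp, ← hxc]
          group
        have h3 : ((p.1 : Γ)⁻¹ * x⁻¹) * (c * s) * ((p.1 : Γ)⁻¹ * x⁻¹)⁻¹ = (p.2 : Γ) * s := by
          calc ((p.1 : Γ)⁻¹ * x⁻¹) * (c * s) * ((p.1 : Γ)⁻¹ * x⁻¹)⁻¹
              = (p.1 : Γ)⁻¹ * (x⁻¹ * (c * s) * x) * (p.1 : Γ) := by group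
            _ = (p.1 : Γ)⁻¹ * ((p.1 : Γ) * ((p.2 : Γ) * s) * (p.1 : Γ)⁻¹) * (p.1 : Γ) := by
                rw [h2]
            _ = (p.2 : Γ) * s := by group
        obtain ⟨hyC, hyc⟩ :=
          h.conj_mem_C (G.mul_mem (G.inv_mem p.1.2) (G.inv_mem hx)) hcC p.2.2 h3
        refine ⟨⟨_, hyC⟩, ?_⟩
        apply Prod.ext
        · apply Subtype.ext
          show x⁻¹ * ((p.1 : Γ)⁻¹ * x⁻¹)⁻¹ = (p.1 : Γ)
          group
        · apply Subtype.ext
          show ((p.1 : Γ)⁻¹ * x⁻¹) * c * ((p.1 : Γ)⁻¹ * x⁻¹)⁻¹ = (p.2 : Γ)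
          exact hyc
      · rintro ⟨y, rfl⟩
        apply Subtype.ext
        apply mul_right_cancel (b := s)
        rw [hφ]
        show x⁻¹ * (y : Γ)⁻¹ * ((y : Γ) * c * (y : Γ)⁻¹ * s) * (x⁻¹ * (y : Γ)⁻¹)⁻¹ = (g : Γ) * s
        have hy := h.comm y.2
        have h4 : (y : Γ)⁻¹ * s * (y : Γ) = s := by
          calc (y : Γ)⁻¹ * s * (y : Γ) = (y : Γ)⁻¹ * (s * (y : Γ)) := by group
            _ = (y : Γ)⁻¹ * ((y : Γ) * s) := by rw [hy]
            _ = s := by group
        calc x⁻¹ * (y : Γ)⁻¹ * ((y : Γ) * c * (y : Γ)⁻¹ * s) * (x⁻¹ * (y : Γ)⁻¹)⁻¹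
            = x⁻¹ * c * ((y : Γ)⁻¹ * s * (y : Γ)) * x := by group
          _ = x⁻¹ * (c * s) * x := by rw [h4]; group
          _ = x⁻¹ * (x * ((g : Γ) * s) * x⁻¹) * x := by rw [hxc]
          _ = (g : Γ) * s := by group
    rw [himg, Finset.card_image_of_injective _ hψinj, Finset.card_univ, Nat.card_eq_fintype_card]
  have h2 : ∑ p : G × C, F (((φ p : G) : Γ) * s) =
      (Nat.card C : ℂ) * ∑ g : G, F ((g : Γ) * s) := by
    rw [← Finset.sum_fiberwise' Finset.univ φ (fun g : G => F ((g : Γ) * s)), Finset.mul_sum]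
    apply Finset.sum_congr rfl
    intro g _
    rw [Finset.sum_const, nsmul_eq_mul, hfib]
  rw [← h2, h1]

/-- the classes of `G` stable under `s` correspond to the classes of `C` -/
theorem card_fixed_classes [G.Normal] (h : GPre G C s) :
    Nat.card {K : ConjClasses G // ConjClasses.map (sAut G s).toMonoidHom K = K} =
      Nat.card (ConjClasses C) := by
  symm
  let incl : C →* G := Subgroup.inclusion h.le
  have hfix : ∀ c : C, sAut G s (incl c) = incl c := by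
    intro c
    apply Subtype.ext
    show s * (c : Γ) * s⁻¹ = c
    rw [← h.comm c.2]
    group
  have hj : ∀ k : ConjClasses C,
      ConjClasses.map (sAut G s).toMonoidHom (ConjClasses.map incl k) = ConjClasses.map incl k := by
    intro k
    obtain ⟨c, rfl⟩ := ConjClasses.exists_rep k
    show ConjClasses.mk (sAut G s (incl c)) = ConjClasses.mk (incl c)
    rw [hfix]
  let j : ConjClasses C →
      {K : ConjClasses G // ConjClasses.map (sAut G s).toMonoidHom K = K} :=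
    fun k => ⟨ConjClasses.map incl k, hj k⟩
  apply Nat.card_eq_of_bijective j
  constructor
  · intro k k' hkk'
    obtain ⟨c, rfl⟩ := ConjClasses.exists_rep k
    obtain ⟨c', rfl⟩ := ConjClasses.exists_rep k'
    have h1 : ConjClasses.mk (incl c) = ConjClasses.mk (incl c') := congrArg Subtype.val hkk'
    rw [ConjClasses.mk_eq_mk_iff_isConj, isConj_iff] at h1
    obtain ⟨x, hx⟩ := h1
    have h2 : (x : Γ) * (c : Γ) * (x : Γ)⁻¹ = (c' : Γ) := congrArg (Subtype.val : G → Γ) hx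
    obtain ⟨y, hy, hyc⟩ := h.conj_in_C x.2 c.2 c'.2 h2
    rw [ConjClasses.mk_eq_mk_iff_isConj, isConj_iff]
    exact ⟨⟨y, hy⟩, Subtype.ext hyc⟩
  · rintro ⟨K, hK⟩
    obtain ⟨g, rfl⟩ := ConjClasses.exists_rep K
    have h1 : ConjClasses.mk (sAut G s g) = ConjClasses.mk g := hK
    rw [ConjClasses.mk_eq_mk_iff_isConj, isConj_iff] at h1
    obtain ⟨x, hx⟩ := h1
    have h2 : (x : Γ) * (s * (g : Γ) * s⁻¹) * (x : Γ)⁻¹ = (g : Γ) :=
      congrArg (Subtype.val : G → Γ) hx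
    have h3 : s * (g : Γ) * s⁻¹ = (x : Γ)⁻¹ * (g : Γ) * (x : Γ)⁻¹⁻¹ := by
      calc s * (g : Γ) * s⁻¹
          = (x : Γ)⁻¹ * ((x : Γ) * (s * (g : Γ) * s⁻¹) * (x : Γ)⁻¹) * (x : Γ)⁻¹⁻¹ := by group
        _ = (x : Γ)⁻¹ * (g : Γ) * (x : Γ)⁻¹⁻¹ := by rw [h2]
    obtain ⟨z, hz, hzC⟩ := h.exists_conj_mem_C g.2 (G.inv_mem x.2) h3
    refine ⟨ConjClasses.mk ⟨z * (g : Γ) * z⁻¹, hzC⟩, ?_⟩
    apply Subtype.ext
    show ConjClasses.mk (incl ⟨z * (g : Γ) * z⁻¹, hzC⟩) = ConjClasses.mk g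
    rw [ConjClasses.mk_eq_mk_iff_isConj, isConj_comm, isConj_iff]
    exact ⟨⟨z, hz⟩, Subtype.ext rfl⟩


end grp

section chr

variable {Γ : Type*} [Group Γ] [Fintype Γ] {G C : Subgroup Γ} {s : Γ}

/-- the coefficient of `β` in `c ↦ χ(c t)` is a character of `⟨s⟩` in the variable `t` -/
theorem coef_char (h : GPre G C s) [Fintype C] {χh : Γ → ℂ} (hχh : IsCharacter Γ χh)
    (β : C → ℂ) (hβ : IsCharacter C β) :
    IsCharacter (Subgroup.zpowers s) (fun t : Subgroup.zpowers s =>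
      (Nat.card C : ℂ)⁻¹ * ∑ c : C, χh ((c : Γ) * t) * conj (β c)) := by
  apply cross_isCharacter C (Subgroup.zpowers s) _ hχh hβ
  intro c hc t ht
  obtain ⟨i, rfl⟩ := Subgroup.mem_zpowers_iff.mp ht
  exact (Commute.zpow_right (show Commute c s from h.comm hc) i).eq

theorem coef_dichotomy (h : GPre G C s) [Fintype C] {χh : Γ → ℂ}
    (hχh : IsCharacter Γ χh)
    (hgal : ∀ k : ℕ, k.Coprime (orderOf s) → ∀ c ∈ C, χh (c * s ^ k) = χh (c * s))
    {β : C → ℂ} (hβ : IsCharacter C β) :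
    classInner (fun c : C => χh ((c : Γ) * s)) β = 0 ∨
      (1 ≤ ‖classInner (fun c : C => χh ((c : Γ) * s)) β‖ ∧
        conj (classInner (fun c : C => χh ((c : Γ) * s)) β) =
          classInner (fun c : C => χh ((c : Γ) * s)) β) := by
  classical
  obtain ⟨m, ρ, hρ⟩ := h.coef_char hχh β hβ
  let g₀ : Subgroup.zpowers s := ⟨s, Subgroup.mem_zpowers s⟩
  have hval : ∀ k : ℕ, k.Coprime (orderOf s) →
      ρ.character (g₀ ^ k) = classInner (fun c : C => χh ((c : Γ) * s)) β := by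
    intro k hk
    rw [hρ]
    show (Nat.card C : ℂ)⁻¹ * ∑ c : C,
      χh ((c : Γ) * ((g₀ ^ k : Subgroup.zpowers s) : Γ)) * conj (β c) = _
    unfold classInner
    congr 1
    apply Finset.sum_congr rfl
    intro c _
    rw [Subgroup.coe_pow]
    show χh ((c : Γ) * s ^ k) * conj (β c) = _
    rw [hgal k hk c c.2]
  have hval1 : ρ.character g₀ = classInner (fun c : C => χh ((c : Γ) * s)) β := by
    have h1 := hval 1 (Nat.coprime_one_left _)
    rwa [pow_one] at h1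
  by_cases h0 : classInner (fun c : C => χh ((c : Γ) * s)) β = 0
  · left
    exact h0
  · right
    have h1 : ρ.character g₀ ≠ 0 := by
      rw [hval1]
      exact h0
    have h2 := Helper85.prod_norm_char ρ g₀ h1
    rw [Nat.card_zpowers] at h2
    have h3 : ∏ k ∈ Helper85.expSet (orderOf s), ‖ρ.character (g₀ ^ k)‖ =
        ‖classInner (fun c : C => χh ((c : Γ) * s)) β‖ ^ (Helper85.expSet (orderOf s)).card := by
      rw [Finset.prod_congr rfl (fun k hk => by
        rw [hval k ((Helper85.mem_expSet.mp hk).2.symm)])]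
      rw [Finset.prod_const]
    rw [h3] at h2
    constructor
    · by_contra hlt
      push Not at hlt
      have hpos : 0 < (Helper85.expSet (orderOf s)).card :=
        Helper85.card_expSet_pos (orderOf_pos s)
      have h4 := pow_lt_one₀ (norm_nonneg _) hlt hpos.ne'
      linarith
    · have hpos : 1 ≤ orderOf s := orderOf_pos s
      have h4 := hval (orderOf s - 1) ((Nat.coprime_self_sub_left hpos).mpr (Nat.coprime_one_left _))
      have h5 : g₀ ^ (orderOf s - 1) = g₀⁻¹ := by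
        apply eq_inv_of_mul_eq_one_left
        rw [← pow_succ, Nat.sub_add_cancel hpos]
        apply Subtype.ext
        rw [Subgroup.coe_pow]
        exact pow_orderOf_eq_one s
      rw [h5, char_inv, hval1] at h4
      exact h4

/-- the key theorem for an element `s` with `C = C_G(s)`, given Galois stability on `C s` -/
theorem key_general (h : GPre G C s) [Fintype G] [Fintype C] {χh : Γ → ℂ}
    (hχh : IsIrrCharacter Γ χh) (hres : IsIrrCharacter G (fun g : G => χh g))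
    (hgal : ∀ k : ℕ, k.Coprime (orderOf s) → ∀ c ∈ C, χh (c * s ^ k) = χh (c * s)) :
    ∃ (β : IrrCharacter C) (ε : ℤ), (ε = 1 ∨ ε = -1) ∧
      ∀ c : C, χh ((c : Γ) * s) = (ε : ℂ) * (β : C → ℂ) c := by
  classical
  have hN := h.normal
  have := Helper4.irr_finite (G := C)
  let _ : Fintype (IrrCharacter C) := Fintype.ofFinite _
  have hfcf : IsClassFunction C (fun c : C => χh ((c : Γ) * s)) := by
    intro c y
    show χh (((y * c * y⁻¹ : C) : Γ) * s) = χh ((c : Γ) * s)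
    have h1 : ((y * c * y⁻¹ : C) : Γ) * s = (y : Γ) * ((c : Γ) * s) * (y : Γ)⁻¹ := by
      have hy := h.comm y.2
      simp only [Subgroup.coe_mul, Subgroup.coe_inv]
      calc (y : Γ) * c * (y : Γ)⁻¹ * s
          = (y : Γ) * c * ((y : Γ)⁻¹ * (s * y) * (y : Γ)⁻¹) := by group
        _ = (y : Γ) * c * ((y : Γ)⁻¹ * (y * s) * (y : Γ)⁻¹) := by rw [hy]
        _ = (y : Γ) * (c * s) * (y : Γ)⁻¹ := by group
    rw [h1]
    exact irr_classFunction hχh _ _
  have hexp := Helper4.classFunction_expansion _ hfcf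
  have hG0 : (Nat.card G : ℂ) ≠ 0 := by exact_mod_cast Nat.card_pos.ne'
  have hC0 : (Nat.card C : ℂ) ≠ 0 := by exact_mod_cast Nat.card_pos.ne'
  have hnorm : classInner (fun c : C => χh ((c : Γ) * s)) (fun c : C => χh ((c : Γ) * s)) = 1 := by
    have hF : ∀ x ∈ G, ∀ y : Γ, (fun z => χh z * conj (χh z)) (x * y * x⁻¹) =
        (fun z => χh z * conj (χh z)) y := by
      intro x _ y
      simp only [irr_classFunction hχh y x]
    have h1 := h.coset_sum (fun z => χh z * conj (χh z)) hF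
    have h2 := congrFun (Cfsg.Agent.S0868.eta_self G hχh hres) s
    unfold Cfsg.Agent.S0868.eta at h2
    have h3 : ∑ n : G, χh ((n : Γ) * s) * conj (χh ((n : Γ) * s)) = (Nat.card G : ℂ) := by
      field_simp at h2
      exact h2
    rw [h3] at h1
    unfold classInner
    have h4 : ∑ c : C, χh ((c : Γ) * s) * conj (χh ((c : Γ) * s)) = (Nat.card C : ℂ) := by
      have h5 : (Nat.card G : ℂ) * ∑ c : C, χh ((c : Γ) * s) * conj (χh ((c : Γ) * s)) =
          (Nat.card G : ℂ) * (Nat.card C : ℂ) := by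
        rw [← h1, mul_comm]
      exact mul_left_cancel₀ hG0 h5
    rw [h4, inv_mul_cancel₀ hC0]
  have hsum : ∑ β : IrrCharacter C,
      classInner (fun c : C => χh ((c : Γ) * s)) (β : C → ℂ) *
        conj (classInner (fun c : C => χh ((c : Γ) * s)) (β : C → ℂ)) = 1 := by
    rw [← hnorm]
    conv_rhs => rw [hexp]
    exact (Helper4.classInner_sum_sum_irr _ _).symm
  have hdich : ∀ β : IrrCharacter C,
      classInner (fun c : C => χh ((c : Γ) * s)) (β : C → ℂ) = 0 ∨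
      (1 ≤ ‖classInner (fun c : C => χh ((c : Γ) * s)) (β : C → ℂ)‖ ∧
        conj (classInner (fun c : C => χh ((c : Γ) * s)) (β : C → ℂ)) =
          classInner (fun c : C => χh ((c : Γ) * s)) (β : C → ℂ)) :=
    fun β => h.coef_dichotomy (Helper35.isChar_of_irr hχh) hgal (Helper35.isChar_of_irr β.2)
  generalize hadef : (fun β : IrrCharacter C =>
    classInner (fun c : C => χh ((c : Γ) * s)) (β : C → ℂ)) = a at *
  have ha : ∀ β : IrrCharacter C,
      classInner (fun c : C => χh ((c : Γ) * s)) (β : C → ℂ) = a β := fun β => by rw [← hadef]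
  simp only [ha] at hsum hdich hexp
  have hsumR : ∑ β : IrrCharacter C, ‖a β‖ ^ 2 = 1 := by
    have h1 : ((∑ β : IrrCharacter C, ‖a β‖ ^ 2 : ℝ) : ℂ) = 1 := by
      rw [← hsum]
      push_cast
      apply Finset.sum_congr rfl
      intro β _
      rw [Complex.mul_conj']
    exact_mod_cast h1
  have hex : ∃ β₀, a β₀ ≠ 0 := by
    by_contra hcon
    push Not at hcon
    simp [hcon] at hsumR
  obtain ⟨β₀, hβ₀⟩ := hex
  have h1le : 1 ≤ ‖a β₀‖ := ((hdich β₀).resolve_left hβ₀).1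
  have hreal : conj (a β₀) = a β₀ := ((hdich β₀).resolve_left hβ₀).2
  have hothers : ∀ β, β ≠ β₀ → a β = 0 := by
    intro β hne
    by_contra hβ
    have h2 : 1 ≤ ‖a β‖ := ((hdich β).resolve_left hβ).1
    have hle : ‖a β₀‖ ^ 2 + ‖a β‖ ^ 2 ≤ ∑ β : IrrCharacter C, ‖a β‖ ^ 2 := by
      have h3 := Finset.sum_le_sum_of_subset_of_nonneg (f := fun β => ‖a β‖ ^ 2)
        (Finset.subset_univ ({β₀, β} : Finset (IrrCharacter C))) (fun _ _ _ => by positivity)
      rwa [Finset.sum_pair hne.symm] at h3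
    nlinarith
  have hnorm1 : ‖a β₀‖ ^ 2 = 1 := by
    rw [← hsumR]
    symm
    apply Finset.sum_eq_single β₀
    · intro b _ hb
      rw [hothers b hb]
      simp
    · intro hh
      exact absurd (Finset.mem_univ _) hh
  have hsq : a β₀ * a β₀ = 1 := by
    have h1 := Complex.mul_conj' (a β₀)
    rw [hreal] at h1
    rw [h1]
    exact_mod_cast hnorm1
  have hpm : a β₀ = 1 ∨ a β₀ = -1 := by
    have h1 : (a β₀ - 1) * (a β₀ + 1) = 0 := by linear_combination hsq
    rcases mul_eq_zero.mp h1 with h2 | h2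
    · left
      linear_combination h2
    · right
      linear_combination h2
  have hf_eq : (fun c : C => χh ((c : Γ) * s)) = a β₀ • (β₀ : C → ℂ) := by
    refine hexp.trans ?_
    rw [Finset.sum_eq_single β₀]
    · intro b _ hb
      rw [hothers b hb, zero_smul]
    · intro hh
      exact absurd (Finset.mem_univ _) hh
  obtain ⟨ε, hε, hεa⟩ : ∃ ε : ℤ, (ε = 1 ∨ ε = -1) ∧ a β₀ = (ε : ℂ) := by
    rcases hpm with h1 | h1
    · exact ⟨1, Or.inl rfl, by rw [h1]; simp⟩
    · exact ⟨-1, Or.inr rfl, by rw [h1]; simp⟩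
  refine ⟨β₀, ε, hε, ?_⟩
  intro c
  have h1 := congrFun hf_eq c
  simp only [Pi.smul_apply, smul_eq_mul] at h1
  rw [← hεa]
  exact h1

end chr

end GPre

/-- lifting a unit modulo a divisor -/
theorem exists_coprime_lift (m n k : ℕ) (hmn : m ∣ n) (hn : 0 < n) (hk : k.Coprime m) :
    ∃ k₁ : ℕ, k₁.Coprime n ∧ k₁ ≡ k [MOD m] := by
  have : NeZero n := ⟨hn.ne'⟩
  let u₀ : (ZMod m)ˣ := ZMod.unitOfCoprime k hk
  obtain ⟨u, hu⟩ := ZMod.unitsMap_surjective hmn u₀
  refine ⟨(u : ZMod n).val, ZMod.val_coe_unit_coprime u, ?_⟩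
  have h1 : (ZMod.castHom hmn (ZMod m)) (u : ZMod n) = (k : ZMod m) := by
    have h2 := congrArg (fun v : (ZMod m)ˣ => (v : ZMod m)) hu
    simpa [ZMod.unitsMap, u₀] using h2
  have h3 : (((u : ZMod n).val : ℕ) : ZMod m) = (k : ZMod m) := by
    rw [← h1]
    conv_rhs => rw [← ZMod.natCast_zmod_val (u : ZMod n)]
    rw [map_natCast]
  exact (ZMod.natCast_eq_natCast_iff _ _ _).mp h3

namespace GSetup

variable {Γ : Type*} [Group Γ] [Fintype Γ] {G C : Subgroup Γ} {s : Γ}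

/-- the canonical extension is fixed by `g ↦ g ^ k'` for `k' ≡ 1` modulo `|G|`, `k'` prime to
the order of `s` -/
theorem gal_inv (h : GSetup G C s) {χh : Γ → ℂ} (hχh : IsIrrCharacter Γ χh)
    (hres : IsIrrCharacter G (fun g : G => χh g)) (hdet : (detOrder χh).Coprime (orderOf s))
    (k' : ℕ) (hk1 : k' ≡ 1 [MOD Nat.card G]) (hk2 : k'.Coprime (orderOf s)) (g : Γ) :
    χh (g ^ k') = χh g := by
  have hN := h.normal
  have hcopΓ : k'.Coprime (Nat.card Γ) := by
    rw [h.card_eq]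
    apply Nat.Coprime.mul_right
    · have h1 := hk1.gcd_eq
      unfold Nat.Coprime
      rw [h1]
      exact Nat.gcd_one_left _
    · exact hk2
  obtain ⟨hirr2, hdet2⟩ := galois_twist k' hcopΓ χh hχh
  have hpowG : ∀ g ∈ G, g ^ k' = g := by
    intro g hg
    have h1 : k' ≡ 1 [MOD orderOf g] :=
      hk1.of_dvd (orderOf_dvd_of_pow_eq_one (h.pow_card_G hg))
    have h2 := pow_eq_pow_iff_modEq.mpr h1
    rw [h2, pow_one]
  have hinv : ∀ (x : Γ) (g : G),
      (fun g : G => χh g) ⟨x * g * x⁻¹, hN.conj_mem (g : Γ) g.2 x⟩ = (fun g : G => χh g) g := by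
    intro x g
    exact irr_classFunction hχh g x
  obtain ⟨χ₀, -, huniq⟩ := h.canonical _ hres hinv
  have e1 : χh = χ₀ := huniq χh hχh (fun g => rfl) hdet
  have e2 : (fun x => χh (x ^ k')) = χ₀ :=
    huniq _ hirr2 (fun g => by
      show χh ((g : Γ) ^ k') = χh g
      rw [hpowG g g.2]) (Nat.Coprime.coprime_dvd_left hdet2 hdet)
  exact congrFun (e2.trans e1.symm) g

/-- Galois stability of the canonical extension on `c x` for every `x ∈ ⟨s⟩` and `c ∈ C_G(x)` -/
theorem gal_pow_of_mem (h : GSetup G C s) {χh : Γ → ℂ} (hχh : IsIrrCharacter Γ χh)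
    (hres : IsIrrCharacter G (fun g : G => χh g)) (hdet : (detOrder χh).Coprime (orderOf s))
    {x : Γ} (hx : x ∈ Subgroup.zpowers s) (k : ℕ) (hk : k.Coprime (orderOf x)) {c : Γ}
    (hcG : c ∈ G) (hcx : c * x = x * c) : χh (c * x ^ k) = χh (c * x) := by
  have hdvd : orderOf x ∣ orderOf s := orderOf_dvd_of_mem_zpowers hx
  obtain ⟨k₁, hk₁, hk₁k⟩ := exists_coprime_lift (orderOf x) (orderOf s) k hdvd (orderOf_pos s) hk
  obtain ⟨k', hk'1, hk'2⟩ := Nat.chineseRemainder h.cop 1 k₁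
  have hk'cop : k'.Coprime (orderOf s) := by
    have h1 := hk'2.gcd_eq
    unfold Nat.Coprime
    rw [h1]
    exact hk₁
  have h1 := h.gal_inv hχh hres hdet k' hk'1 hk'cop (c * x)
  have hpowc : c ^ k' = c := by
    have h2 : k' ≡ 1 [MOD orderOf c] :=
      hk'1.of_dvd (orderOf_dvd_of_pow_eq_one (h.pow_card_G hcG))
    have h3 := pow_eq_pow_iff_modEq.mpr h2
    rw [h3, pow_one]
  have hpowx : x ^ k' = x ^ k := by
    apply pow_eq_pow_iff_modEq.mpr
    exact (hk'2.of_dvd hdvd).trans hk₁k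
  rw [← h1, (show Commute c x from hcx).mul_pow, hpowc, hpowx]

end GSetup

end Cfsg.Agent.Lib.Helper83
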