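import Mathlib
import Cfsg.Agent.Lib.Helper78.HarDefs

/-!
# S1235, piece B5III (helper78's HAR project): no normal subgroup of order 4 containing all squares
-/

set_option autoImplicit false
set_option linter.style.haveILetI false
set_option linter.unusedVariables false

namespace Cfsg.Agent.Lib.Helper83.Har

open Cfsg.Agent.Lib.Helper78.Har

-- PIECE B5III
theorem no_sec128 {X : Type*} [Group X] [Finite X] (T T' N : Subgroup X) (g : X)
    (hc : Conf X T T' N g) (h128 : Nat.card X = 128)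
    (M : Subgroup X) (hn : ∀ x : X, ∀ m ∈ M, x * m * x⁻¹ ∈ M)
    (hsq : ∀ x : X, x ^ 2 ∈ M) (hM : Nat.card M = 4) : False := by
  obtain ⟨hNT, hNT', hgN, hgT', hTN, hT'N, hN64, hT16, hT'16, hT2, hT'2, hW4, hNprod, hcT, hcT',
    hCT, hCT'⟩ := hc
  -- all commutators lie in `M`
  have hcomm : ∀ x y : X, x * y * x⁻¹ * y⁻¹ ∈ M := fun x y =>
    comm_mem_of_sq ⊤ M (fun x _ => hsq x) (Subgroup.mem_top x) (Subgroup.mem_top y)
  -- an element of `T` outside `T'`
  have hex : ∃ t ∈ T, t ∉ T' := by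
    by_contra hcon
    have hle : T ≤ T' := fun t ht => by
      by_contra h
      exact hcon ⟨t, ht, h⟩
    have h1 : T ⊓ T' = T := inf_eq_left.mpr hle
    rw [h1, hT16] at hW4
    omega
  obtain ⟨t, htT, htT'⟩ := hex
  have htN : t ∈ N := hTN htT
  have hcent : T' ⊓ Subgroup.centralizer ({t} : Set X) = T ⊓ T' := hcT' t htN htT'
  -- conjugation by `t` preserves `T'`, conjugation by elements of `T'` preserves `T`
  have hconjT' : ∀ t' ∈ T', t * t' * t⁻¹ ∈ T' := by
    intro t' ht'
    have h1 : t ∈ Subgroup.normalizer (T' : Set X) := hNT' ▸ htN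
    exact (Subgroup.mem_normalizer_iff.mp h1 t').mp ht'
  have hconjT : ∀ t' ∈ T', t' * t⁻¹ * t'⁻¹ ∈ T := by
    intro t' ht'
    have h1 : t' ∈ Subgroup.normalizer (T : Set X) := hNT ▸ hT'N ht'
    exact (Subgroup.mem_normalizer_iff.mp h1 t⁻¹).mp (T.inv_mem htT)
  have hT'comm : ∀ a ∈ T', ∀ b ∈ T', a * b = b * a := fun a ha b hb => comm_of_sq T' hT'2 ha hb
  -- the commutator map is a homomorphism `T' → T'`
  let φ : T' →* T' :=
    { toFun := fun t' => ⟨t * (t' : X) * t⁻¹ * (t' : X)⁻¹,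
        T'.mul_mem (hconjT' t' t'.2) (T'.inv_mem t'.2)⟩
      map_one' := by
        apply Subtype.ext
        simp
      map_mul' := by
        intro a b
        apply Subtype.ext
        have hb : t * (b : X) * t⁻¹ * (b : X)⁻¹ ∈ T' :=
          T'.mul_mem (hconjT' b b.2) (T'.inv_mem b.2)
        have h1 := hT'comm (a : X)⁻¹ (T'.inv_mem a.2) _ hb
        show t * ((a : X) * (b : X)) * t⁻¹ * ((a : X) * (b : X))⁻¹ =
          t * (a : X) * t⁻¹ * (a : X)⁻¹ * (t * (b : X) * t⁻¹ * (b : X)⁻¹)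
        have h2 : t * ((a : X) * (b : X)) * t⁻¹ * ((a : X) * (b : X))⁻¹ =
            t * (a : X) * t⁻¹ * ((t * (b : X) * t⁻¹ * (b : X)⁻¹) * (a : X)⁻¹) := by
          group
        rw [h2, ← h1]
        group }
  have hφ : ∀ t' : T', ((φ t' : T') : X) = t * (t' : X) * t⁻¹ * (t' : X)⁻¹ := fun _ => rfl
  -- the kernel has 4 elements
  have hker : Nat.card φ.ker = 4 := by
    have h1 : φ.ker.map T'.subtype = T ⊓ T' := by
      rw [← hcent]
      ext x
      rw [Subgroup.mem_map, Subgroup.mem_inf, Subgroup.mem_centralizer_singleton_iff]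
      constructor
      · rintro ⟨y, hy, rfl⟩
        have hy' : φ y = 1 := MonoidHom.mem_ker.mp hy
        refine ⟨y.2, ?_⟩
        have h2 : ((φ y : T') : X) = 1 := by
          rw [hy']
          rfl
        rw [hφ] at h2
        have h3 : t * (y : X) = (y : X) * t := by
          have h4 : t * (y : X) * t⁻¹ * (y : X)⁻¹ * ((y : X) * t) = (y : X) * t := by
            rw [h2, one_mul]
          rw [← h4]
          group
        exact h3.symm
      · rintro ⟨hx1, hx2⟩
        refine ⟨⟨x, hx1⟩, MonoidHom.mem_ker.mpr ?_, rfl⟩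
        apply Subtype.ext
        rw [hφ]
        show t * x * t⁻¹ * x⁻¹ = 1
        rw [← hx2]
        group
    rw [← hW4, ← h1, Subgroup.card_map_of_injective T'.subtype_injective]
  -- the range has 4 elements
  have hrange : Nat.card φ.range = 4 := by
    have h1 := Subgroup.card_eq_card_quotient_mul_card_subgroup φ.ker
    rw [Nat.card_congr (QuotientGroup.quotientKerEquivRange φ).toEquiv, hker, hT'16] at h1
    omega
  -- hence `M` is the image of the range, and lies in `T`
  have hRM : φ.range.map T'.subtype ≤ M := by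
    rintro x ⟨y, ⟨w, rfl⟩, rfl⟩
    show ((φ w : T') : X) ∈ M
    rw [hφ]
    exact hcomm t w
  have hRT : φ.range.map T'.subtype ≤ T := by
    rintro x ⟨y, ⟨w, rfl⟩, rfl⟩
    show ((φ w : T') : X) ∈ T
    rw [hφ]
    have h1 : t * (w : X) * t⁻¹ * (w : X)⁻¹ = t * ((w : X) * t⁻¹ * (w : X)⁻¹) := by group
    rw [h1]
    exact T.mul_mem htT (hconjT w w.2)
  have hRcard : Nat.card (φ.range.map T'.subtype) = 4 := by
    rw [Subgroup.card_map_of_injective T'.subtype_injective, hrange]
  have hReq : φ.range.map T'.subtype = M :=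
    Subgroup.eq_of_le_of_card_ge hRM (by rw [hRcard, hM])
  have hMT : M ≤ T := hReq ▸ hRT
  -- conjugation by `g` maps `T` into `T ⊓ T'`
  have hconj : ∀ t0 ∈ T, g * t0 * g⁻¹ ∈ T ⊓ T' := by
    intro t0 ht0
    constructor
    · have h1 : g * t0 * g⁻¹ = g * t0 * g⁻¹ * t0⁻¹ * t0 := by group
      rw [h1]
      exact T.mul_mem (hMT (hcomm g t0)) ht0
    · show g * t0 * g⁻¹ ∈ T'
      rw [hgT']
      have h1 : g⁻¹ * (g * t0 * g⁻¹) * g = t0 := by group
      rw [h1]
      exact ht0
  have hinj : Function.Injective (fun t0 : T => (⟨g * (t0 : X) * g⁻¹, hconj t0 t0.2⟩ : ↥(T ⊓ T'))) := by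
    intro a b hab
    have h1 : g * (a : X) * g⁻¹ = g * (b : X) * g⁻¹ := congrArg Subtype.val hab
    apply Subtype.ext
    have h2 : (a : X) = g⁻¹ * (g * (a : X) * g⁻¹) * g := by group
    rw [h2, h1]
    group
  have hle := Nat.card_le_card_of_injective _ hinj
  rw [hT16, hW4] at hle
  omega

end Cfsg.Agent.Lib.Helper83.Har
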