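import Mathlib
import Cfsg.Agent.S0188
import Cfsg.Agent.Lib.Helper20.Clifford
import Cfsg.Agent.Lib.Helper83.LinearCount

/-!
# M-groups, part 1: irreducible characters of a finite direct power

* `pi_irr`: every irreducible character of `ι → D` (`ι` a finite type) is an outer tensor
  product of irreducible characters of `D`.
-/

set_option autoImplicit false

namespace Cfsg.Agent.Lib.Helper83

open Cfsg Cfsg.Agent.Lib

/-- the multiplicative equivalence `(Option α → D) ≃* D × (α → D)` -/
def piOptionMulEquiv (α D : Type*) [Group D] : (Option α → D) ≃* D × (α → D) :=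
  { Equiv.piOptionEquivProd (α := α) (β := fun _ => D) with
    map_mul' := fun _ _ => rfl }

theorem piOptionMulEquiv_apply (α D : Type*) [Group D] (f : Option α → D) :
    piOptionMulEquiv α D f = (f none, fun a => f (some a)) := rfl

/-- every irreducible character of a finite direct power is an outer tensor product -/
theorem pi_irr {D : Type*} [Group D] [Finite D] (ι : Type*) [Finite ι] :
    ∀ [Fintype ι] (θ : (ι → D) → ℂ), IsIrrCharacter (ι → D) θ →
      ∃ t : ι → D → ℂ, (∀ i, IsIrrCharacter D (t i)) ∧ θ = fun f => ∏ i, t i (f i) := by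
  classical
  refine Finite.induction_empty_option
    (P := fun ι => ∀ [Fintype ι] (θ : (ι → D) → ℂ), IsIrrCharacter (ι → D) θ →
      ∃ t : ι → D → ℂ, (∀ i, IsIrrCharacter D (t i)) ∧ θ = fun f => ∏ i, t i (f i))
    ?_ ?_ ?_ ι
  · -- transport along an equivalence
    intro α β e hα _ θ hθ
    let _ : Fintype α := Fintype.ofEquiv β e.symm
    let E : (α → D) ≃* (β → D) := MulEquiv.arrowCongr e (MulEquiv.refl D)
    have hE : ∀ (f : α → D) (b : β), E f b = f (e.symm b) := fun f b => rfl
    have hθ' : IsIrrCharacter (α → D) (fun f => θ (E f)) :=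
      Helper20.irr_comp_surjective E.toMonoidHom E.surjective hθ
    obtain ⟨t', ht', hprod⟩ := hα _ hθ'
    refine ⟨fun b => t' (e.symm b), fun b => ht' _, ?_⟩
    funext g
    have h1 := congrFun hprod (E.symm g)
    simp only [MulEquiv.apply_symm_apply] at h1
    rw [h1]
    refine Fintype.prod_equiv e _ _ (fun a => ?_)
    have h2 : (E.symm g) a = g (e a) := by
      have h3 := hE (E.symm g) (e a)
      rw [MulEquiv.apply_symm_apply, Equiv.symm_apply_apply] at h3
      exact h3.symm
    rw [h2]
    show t' a (g (e a)) = t' (e.symm (e a)) (g (e a))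
    rw [Equiv.symm_apply_apply]
  · -- the empty type
    intro _ θ hθ
    have : IsMulCommutative (PEmpty → D) := ⟨⟨fun a b => Subsingleton.elim _ _⟩⟩
    have h1 : θ 1 = 1 := irr_comm_degree hθ
    refine ⟨fun i => i.elim, fun i => i.elim, ?_⟩
    funext f
    rw [Subsingleton.elim f 1, h1]
    simp
  · -- the option step
    intro α _ hα inst θ hθ
    have hinst : inst = instFintypeOption := Subsingleton.elim _ _
    subst hinst
    let E := piOptionMulEquiv α D
    have hθ' : IsIrrCharacter (D × (α → D)) (fun x => θ (E.symm x)) :=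
      Helper20.irr_comp_surjective E.symm.toMonoidHom E.symm.surjective hθ
    obtain ⟨φ, ψ, hφ, hψ, hprod⟩ := (Cfsg.Agent.S0188.result _).mp hθ'
    obtain ⟨t, ht, hψt⟩ := hα ψ hψ
    refine ⟨fun o => Option.elim o φ t, fun o => ?_, ?_⟩
    · cases o with
      | none => exact hφ
      | some a => exact ht a
    · funext f
      have h1 := congrFun hprod (E f)
      simp only [MulEquiv.symm_apply_apply] at h1
      rw [h1, Fintype.prod_option, hψt]
      rfl

end Cfsg.Agent.Lib.Helper83
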