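import Mathlib
import Cfsg.Agent.Lib.Helper35.Ind

/-!
# M-groups, part 2: induced characters in a regular wreath product

For `W = D ≀ᵣ Q` (Mathlib's `RegularWreathProduct`):

* `wr_conj`: the conjugation formula; `wr_sum`: sums over `W`;
* `baseK H`, `baseLam H lam`: the subgroup `∏ H q` of the base group and the linear character
  `∏ lam q` of it; `indFun_baseK`: the character induced from it;
* `fullK H`, `fullLam H lam`: the subgroup `H ≀ᵣ Q` and the linear character `∏ lam` of it;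
  `indFun_fullK`: the character induced from it, on the base group.
-/

set_option autoImplicit false

namespace Cfsg.Agent.Lib.Helper83

open Cfsg Cfsg.Agent.Lib
open RegularWreathProduct

section wreath

variable {D Q : Type*} [Group D] [Group Q]

theorem wr_conj (g : Q → D) (r : Q) (f : Q → D) (s : Q) :
    (⟨g, r⟩ : D ≀ᵣ Q)⁻¹ * ⟨f, s⟩ * ⟨g, r⟩ =
      ⟨fun y => (g (r * y))⁻¹ * f (r * y) * g (s⁻¹ * (r * y)), r⁻¹ * s * r⟩ := by
  apply RegularWreathProduct.ext
  · funext y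
    simp [RegularWreathProduct.mul_left, RegularWreathProduct.inv_left, mul_assoc]
  · rfl

omit [Group D] [Group Q] in
theorem wr_sum [Fintype D] [Fintype Q] [DecidableEq Q] [Fintype (D ≀ᵣ Q)] (F : D ≀ᵣ Q → ℂ) :
    ∑ w, F w = ∑ r : Q, ∑ g : Q → D, F ⟨g, r⟩ := by
  rw [Fintype.sum_equiv (RegularWreathProduct.equivProd D Q) F (fun p => F ⟨p.1, p.2⟩)
    (fun w => rfl), Fintype.sum_prod_type_right]

theorem wr_core [Fintype D] [Fintype Q] [DecidableEq Q] (H : Q → Subgroup D)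
    (a : ∀ q, H q → ℂ) (f : Q → D) (r : Q) :
    ∑ g : Q → D, ∏ y, extendByZero (H y) (a y) ((g (r * y))⁻¹ * f (r * y) * g (r * y))
      = ∏ y, ((Nat.card (H y) : ℂ) * indFun (H y) (a y) (f (r * y))) := by
  have h1 : ∑ g : Q → D, ∏ y, extendByZero (H y) (a y) ((g (r * y))⁻¹ * f (r * y) * g (r * y))
      = ∑ g : Q → D, ∏ y, extendByZero (H y) (a y) ((g y)⁻¹ * f (r * y) * g y) :=
    Fintype.sum_equiv (Equiv.arrowCongr (Equiv.mulLeft r).symm (Equiv.refl D)) _ _ (fun g => rfl)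
  rw [h1, ← Fintype.prod_sum (fun y (d : D) => extendByZero (H y) (a y) (d⁻¹ * f (r * y) * d))]
  refine Finset.prod_congr rfl fun y _ => ?_
  have hH : (Nat.card (H y) : ℂ) ≠ 0 := by exact_mod_cast (Nat.card_pos (α := H y)).ne'
  unfold indFun
  rw [mul_inv_cancel_left₀ hH]

/-- the subgroup of the base group with prescribed coordinate subgroups -/
def baseK (H : Q → Subgroup D) : Subgroup (D ≀ᵣ Q) where
  carrier := {w | w.right = 1 ∧ ∀ q, w.left q ∈ H q}
  one_mem' := ⟨rfl, fun q => (H q).one_mem⟩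
  mul_mem' := by
    rintro a b ⟨ha1, ha2⟩ ⟨hb1, hb2⟩
    refine ⟨by rw [RegularWreathProduct.mul_right, ha1, hb1, one_mul], fun q => ?_⟩
    rw [RegularWreathProduct.mul_left]
    simp only [Pi.mul_apply, ha1, inv_one, one_mul]
    exact (H q).mul_mem (ha2 q) (hb2 q)
  inv_mem' := by
    rintro a ⟨ha1, ha2⟩
    refine ⟨by rw [RegularWreathProduct.inv_right, ha1, inv_one], fun q => ?_⟩
    rw [RegularWreathProduct.inv_left]
    simp only [ha1, one_mul, Pi.inv_apply]
    exact (H q).inv_mem (ha2 q)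

theorem mem_baseK (H : Q → Subgroup D) (w : D ≀ᵣ Q) :
    w ∈ baseK H ↔ w.right = 1 ∧ ∀ q, w.left q ∈ H q := Iff.rfl

/-- the coordinate homomorphisms of `baseK` -/
def baseCoord (H : Q → Subgroup D) (q : Q) : baseK H →* H q where
  toFun w := ⟨w.1.left q, w.2.2 q⟩
  map_one' := rfl
  map_mul' a b := by
    apply Subtype.ext
    show (a.1 * b.1).left q = a.1.left q * b.1.left q
    rw [RegularWreathProduct.mul_left]
    simp [a.2.1]

/-- the linear character `∏ lam q` of `baseK H` -/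
noncomputable def baseLam [Fintype Q] (H : Q → Subgroup D) (lam : ∀ q, H q →* ℂˣ) :
    baseK H →* ℂˣ :=
  ∏ q, (lam q).comp (baseCoord H q)

theorem baseLam_apply [Fintype Q] (H : Q → Subgroup D) (lam : ∀ q, H q →* ℂˣ) (w : baseK H) :
    ((baseLam H lam w : ℂˣ) : ℂ) = ∏ q, ((lam q ⟨w.1.left q, w.2.2 q⟩ : ℂˣ) : ℂ) := by
  unfold baseLam
  rw [MonoidHom.finsetProd_apply, Units.coe_prod]
  rfl

theorem ext_baseK [Fintype Q] [DecidableEq Q] (H : Q → Subgroup D) (lam : ∀ q, H q →* ℂˣ) (w : D ≀ᵣ Q) :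
    extendByZero (baseK H) (fun k => ((baseLam H lam k : ℂˣ) : ℂ)) w =
      if w.right = 1 then
        ∏ q, extendByZero (H q) (fun h => ((lam q h : ℂˣ) : ℂ)) (w.left q) else 0 := by
  by_cases hw : w ∈ baseK H
  · rw [Helper35.ext_mem _ _ w hw, if_pos hw.1, baseLam_apply]
    refine Finset.prod_congr rfl fun q _ => ?_
    rw [Helper35.ext_mem _ _ _ (hw.2 q)]
  · rw [Helper35.ext_not_mem _ _ w hw]
    split_ifs with h1
    · have h2 : ∃ q, w.left q ∉ H q := by
        by_contra hcon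
        push Not at hcon
        exact hw ⟨h1, hcon⟩
      obtain ⟨q, hq⟩ := h2
      exact (Finset.prod_eq_zero (i := q) (Finset.mem_univ q)
        (Helper35.ext_not_mem (H q) _ (w.left q) hq)).symm
    · rfl

theorem card_baseK [Fintype Q] (H : Q → Subgroup D) :
    Nat.card (baseK H) = ∏ q, Nat.card (H q) := by
  rw [← Nat.card_pi]
  refine Nat.card_congr
    { toFun := fun w q => ⟨w.1.left q, w.2.2 q⟩
      invFun := fun h => ⟨⟨fun q => h q, 1⟩, rfl, fun q => (h q).2⟩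
      left_inv := ?_
      right_inv := ?_ }
  · intro w
    apply Subtype.ext
    apply RegularWreathProduct.ext
    · rfl
    · exact w.2.1.symm
  · intro h
    rfl

/-- the subgroup `H ≀ᵣ Q` of `D ≀ᵣ Q` -/
def fullK (H : Subgroup D) : Subgroup (D ≀ᵣ Q) where
  carrier := {w | ∀ q, w.left q ∈ H}
  one_mem' := fun q => H.one_mem
  mul_mem' := by
    intro a b ha hb q
    rw [RegularWreathProduct.mul_left]
    exact H.mul_mem (ha q) (hb _)
  inv_mem' := by
    intro a ha q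
    rw [RegularWreathProduct.inv_left]
    simp only [Pi.inv_apply]
    exact H.inv_mem (ha _)

theorem mem_fullK (H : Subgroup D) (w : D ≀ᵣ Q) :
    w ∈ fullK (Q := Q) H ↔ ∀ q, w.left q ∈ H := Iff.rfl

/-- the linear character `∏ lam` of `H ≀ᵣ Q` -/
noncomputable def fullLam [Fintype Q] (H : Subgroup D) (lam : H →* ℂˣ) :
    fullK (Q := Q) H →* ℂˣ :=
  MonoidHom.mk' (fun w => ∏ q, lam ⟨w.1.left q, w.2 q⟩) (by
    intro a b
    have h1 : ∀ q, (⟨(a * b).1.left q, (a * b).2 q⟩ : H) =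
        ⟨a.1.left q, a.2 q⟩ * ⟨b.1.left (a.1.right⁻¹ * q), b.2 _⟩ := fun q => Subtype.ext rfl
    simp only [h1, map_mul, Finset.prod_mul_distrib]
    congr 1
    exact Fintype.prod_equiv (Equiv.mulLeft a.1.right⁻¹) _ _ (fun q => rfl))

theorem fullLam_apply [Fintype Q] (H : Subgroup D) (lam : H →* ℂˣ) (w : fullK (Q := Q) H) :
    ((fullLam H lam w : ℂˣ) : ℂ) = ∏ q, ((lam ⟨w.1.left q, w.2 q⟩ : ℂˣ) : ℂ) := by
  unfold fullLam
  rw [MonoidHom.mk'_apply, Units.coe_prod]

theorem ext_fullK [Fintype Q] (H : Subgroup D) (lam : H →* ℂˣ) (w : D ≀ᵣ Q) :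
    extendByZero (fullK (Q := Q) H) (fun k => ((fullLam H lam k : ℂˣ) : ℂ)) w =
      ∏ q, extendByZero H (fun h => ((lam h : ℂˣ) : ℂ)) (w.left q) := by
  by_cases hw : w ∈ fullK (Q := Q) H
  · rw [Helper35.ext_mem _ _ w hw, fullLam_apply]
    refine Finset.prod_congr rfl fun q _ => ?_
    rw [Helper35.ext_mem _ _ _ (hw q)]
  · rw [Helper35.ext_not_mem _ _ w hw]
    have h2 : ∃ q, w.left q ∉ H := by
      by_contra hcon
      push Not at hcon
      exact hw hcon
    obtain ⟨q, hq⟩ := h2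
    exact (Finset.prod_eq_zero (i := q) (Finset.mem_univ q)
      (Helper35.ext_not_mem H _ (w.left q) hq)).symm

theorem card_fullK [Finite Q] (H : Subgroup D) :
    Nat.card (fullK (Q := Q) H) = Nat.card H ^ Nat.card Q * Nat.card Q := by
  rw [← Nat.card_fun, ← Nat.card_prod]
  refine Nat.card_congr
    { toFun := fun w => (fun q => ⟨w.1.left q, w.2 q⟩, w.1.right)
      invFun := fun p => ⟨⟨fun q => p.1 q, p.2⟩, fun q => (p.1 q).2⟩
      left_inv := ?_
      right_inv := ?_ }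
  · intro w
    rfl
  · intro p
    rfl

theorem indFun_baseK [Fintype D] [Fintype Q] [DecidableEq Q] [Fintype (D ≀ᵣ Q)]
    (H : Q → Subgroup D) (lam : ∀ q, H q →* ℂˣ) (w : D ≀ᵣ Q) :
    indFun (baseK H) (fun k => ((baseLam H lam k : ℂˣ) : ℂ)) w =
      if w.right = 1 then
        ∑ r : Q, ∏ y, indFun (H y) (fun h => ((lam y h : ℂˣ) : ℂ)) (w.left (r * y)) else 0 := by
  obtain ⟨f, s⟩ := w
  have hK : (Nat.card (baseK H) : ℂ) ≠ 0 := by
    exact_mod_cast (Nat.card_pos (α := baseK H)).ne'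
  show (Nat.card (baseK H) : ℂ)⁻¹ * ∑ x : D ≀ᵣ Q,
    extendByZero (baseK H) (fun k => ((baseLam H lam k : ℂˣ) : ℂ)) (x⁻¹ * ⟨f, s⟩ * x) = _
  rw [wr_sum]
  simp only [wr_conj, ext_baseK]
  by_cases hs : s = 1
  · subst hs
    rw [if_pos rfl]
    simp only [mul_one, inv_mul_cancel, if_true, inv_one, one_mul]
    simp only [wr_core H (fun q h => ((lam q h : ℂˣ) : ℂ)) f, Finset.prod_mul_distrib]
    rw [← Finset.mul_sum, ← mul_assoc, card_baseK]
    push_cast
    rw [inv_mul_cancel₀, one_mul]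
    rw [← Nat.cast_prod, ← card_baseK]
    exact hK
  · rw [if_neg hs]
    have h1 : ∀ r : Q, r⁻¹ * s * r ≠ 1 := by
      intro r hr
      apply hs
      have : s = r * (r⁻¹ * s * r) * r⁻¹ := by group
      rw [this, hr]
      group
    simp only [h1, if_false, Finset.sum_const_zero, mul_zero]

theorem indFun_fullK [Fintype D] [Fintype Q] [DecidableEq Q] [Fintype (D ≀ᵣ Q)]
    (H : Subgroup D) (lam : H →* ℂˣ) (f : Q → D) :
    indFun (fullK (Q := Q) H) (fun k => ((fullLam H lam k : ℂˣ) : ℂ)) ⟨f, 1⟩ =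
      ∏ y, indFun H (fun h => ((lam h : ℂˣ) : ℂ)) (f y) := by
  have hK : (Nat.card (fullK (Q := Q) H) : ℂ) ≠ 0 := by
    exact_mod_cast (Nat.card_pos (α := fullK (Q := Q) H)).ne'
  show (Nat.card (fullK (Q := Q) H) : ℂ)⁻¹ * ∑ x : D ≀ᵣ Q,
    extendByZero (fullK (Q := Q) H) (fun k => ((fullLam H lam k : ℂˣ) : ℂ))
      (x⁻¹ * ⟨f, 1⟩ * x) = _
  rw [wr_sum]
  simp only [wr_conj, ext_fullK, inv_one, one_mul]
  simp only [wr_core (fun _ => H) (fun _ h => ((lam h : ℂˣ) : ℂ)) f, Finset.prod_mul_distrib]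
  have h1 : ∀ r : Q, ∏ y, indFun H (fun h => ((lam h : ℂˣ) : ℂ)) (f (r * y)) =
      ∏ y, indFun H (fun h => ((lam h : ℂˣ) : ℂ)) (f y) := fun r =>
    Fintype.prod_equiv (Equiv.mulLeft r) _ _ (fun y => rfl)
  simp only [h1, Finset.sum_const, Finset.card_univ, nsmul_eq_mul, Finset.prod_const]
  rw [card_fullK, ← Nat.card_eq_fintype_card] at *
  push_cast
  have hH : (Nat.card H : ℂ) ≠ 0 := by exact_mod_cast (Nat.card_pos (α := H)).ne'
  have hQ : (Nat.card Q : ℂ) ≠ 0 := by exact_mod_cast (Nat.card_pos (α := Q)).ne'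
  field_simp

end wreath

end Cfsg.Agent.Lib.Helper83
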