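import Mathlib
import Cfsg.Agent.Lib.Helper83.Mg1
import Cfsg.Agent.Lib.Helper83.Mg2
import Cfsg.Agent.Lib.Helper83.Rg1
import Cfsg.Agent.Lib.Helper20.CliffordRel

/-!
# M-groups, part 3: `D ≀ᵣ Q` is an M-group when `D` is and `Q` has prime order

* `indFun_mul_class`: the projection formula `Ind(a) * c = Ind(a * c|_K)`;
* `wreath_monomial`: if every irreducible character of `D` is induced from a linear character of
  a subgroup and `Q` has prime order, the same holds for `D ≀ᵣ Q`.
-/

set_option autoImplicit false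

namespace Cfsg.Agent.Lib.Helper83

open Cfsg Cfsg.Agent.Lib
open RegularWreathProduct
open scoped ComplexConjugate

theorem indFun_mul_class {G : Type*} [Group G] [Fintype G] (K : Subgroup G) (a : K → ℂ)
    (c : G → ℂ) (hc : ∀ g x : G, c (x⁻¹ * g * x) = c g) :
    indFun K (fun k => a k * c k) = fun g => indFun K a g * c g := by
  funext g
  unfold indFun
  rw [mul_assoc, Finset.sum_mul]
  congr 1
  refine Finset.sum_congr rfl fun x _ => ?_
  by_cases hx : x⁻¹ * g * x ∈ K
  · rw [Helper35.ext_mem _ _ _ hx, Helper35.ext_mem _ _ _ hx]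
    show a _ * c (x⁻¹ * g * x) = _
    rw [hc]
  · rw [Helper35.ext_not_mem _ _ _ hx, Helper35.ext_not_mem _ _ _ hx, zero_mul]

section wreath

variable {D Q : Type*} [Group D] [Group Q]

/-- the embedding of the base group -/
def wrBase : (Q → D) →* D ≀ᵣ Q where
  toFun f := ⟨f, 1⟩
  map_one' := rfl
  map_mul' a b := by
    apply RegularWreathProduct.ext
    · funext y
      simp [RegularWreathProduct.mul_left]
    · simp [RegularWreathProduct.mul_right]

theorem wrBase_apply (f : Q → D) : (wrBase f : D ≀ᵣ Q) = ⟨f, 1⟩ := rfl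

/-- translation of the coordinates -/
def wrTau (r : Q) : (Q → D) ≃* (Q → D) :=
  MulEquiv.arrowCongr (Equiv.mulLeft r).symm (MulEquiv.refl D)

theorem wrTau_apply (r : Q) (f : Q → D) (y : Q) : wrTau r f y = f (r * y) := rfl

set_option maxHeartbeats 1000000 in
theorem wreath_monomial [Fintype D] [Fintype Q] [Fintype (D ≀ᵣ Q)] (hp : (Nat.card Q).Prime)
    (hD : ∀ χ : D → ℂ, IsIrrCharacter D χ →
      ∃ (H : Subgroup D) (lam : H →* ℂˣ), χ = indFun H (fun h => ((lam h : ℂˣ) : ℂ)))
    (χ : D ≀ᵣ Q → ℂ) (hχ : IsIrrCharacter (D ≀ᵣ Q) χ) :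
    ∃ (K : Subgroup (D ≀ᵣ Q)) (Lam : K →* ℂˣ),
      χ = indFun K (fun k => ((Lam k : ℂˣ) : ℂ)) := by
  classical
  have hfact : Fact (Nat.card Q).Prime := ⟨hp⟩
  have hχc : IsCharacter (D ≀ᵣ Q) χ := Helper35.isChar_of_irr hχ
  set χj : (Q → D) → ℂ := fun f => χ (wrBase f) with hχj
  have hχjc : IsCharacter (Q → D) χj := Helper20.isCharacter_comp wrBase hχc
  have hχj1 : χj 1 ≠ 0 := by
    show χ (wrBase 1) ≠ 0
    rw [map_one]
    exact irr_one_ne_zero hχ
  obtain ⟨θ, hθ, hθχ⟩ := Helper20.exists_constituent_of_char hχjc hχj1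
  obtain ⟨t, ht, hθt⟩ := pi_irr Q θ hθ
  have hθf : ∀ f, θ f = ∏ i, t i (f i) := fun f => congrFun hθt f
  choose H lam hHlam using fun q => hD (t q) (ht q)
  have hcardW : (Nat.card (D ≀ᵣ Q) : ℂ) = (Nat.card (Q → D) : ℂ) * (Nat.card Q : ℂ) := by
    rw [RegularWreathProduct.card, Nat.card_fun]
    push_cast
    ring
  have hP0 : (Nat.card (Q → D) : ℂ) ≠ 0 := by
    exact_mod_cast (Nat.card_pos (α := Q → D)).ne'
  have hQ0 : (Nat.card Q : ℂ) ≠ 0 := by exact_mod_cast (Nat.card_pos (α := Q)).ne'
  by_cases hinv : ∀ r : Q, ∀ f, θ (wrTau r f) = θ f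
  · -- invariant case
    have hsingle : ∀ (q : Q) (d : D),
        θ (Pi.mulSingle q d) = t q d * ∏ y ∈ Finset.univ.erase q, t y 1 := by
      intro q d
      rw [hθf, ← Finset.mul_prod_erase Finset.univ _ (Finset.mem_univ q), Pi.mulSingle_eq_same]
      congr 1
      refine Finset.prod_congr rfl fun y hy => ?_
      rw [Pi.mulSingle_eq_of_ne (Finset.ne_of_mem_erase hy)]
    have hc : ∀ q : Q, ∏ y ∈ Finset.univ.erase q, t y 1 ≠ 0 := fun q =>
      Finset.prod_ne_zero_iff.mpr fun y _ => irr_one_ne_zero (ht y)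
    have hteq : ∀ q : Q, t q = t 1 := by
      intro q
      have h1 : ∀ d : D, wrTau q⁻¹ (Pi.mulSingle (1 : Q) d) = Pi.mulSingle q d := by
        intro d
        funext y
        rw [wrTau_apply]
        by_cases hy : y = q
        · subst hy
          simp
        · rw [Pi.mulSingle_eq_of_ne hy, Pi.mulSingle_eq_of_ne]
          intro h
          exact hy (inv_mul_eq_one.mp h).symm
      have h2 : ∀ d : D, t q d * ∏ y ∈ Finset.univ.erase q, t y 1 =
          t 1 d * ∏ y ∈ Finset.univ.erase 1, t y 1 := by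
        intro d
        rw [← hsingle, ← hsingle, ← h1, hinv]
      by_contra hne
      have h3 := Helper35.classInner_irr' (ht q) (ht 1)
      rw [if_neg hne] at h3
      have h4 : t q = ((∏ y ∈ Finset.univ.erase (1 : Q), t y 1) /
          (∏ y ∈ Finset.univ.erase q, t y 1)) • t 1 := by
        funext d
        rw [Pi.smul_apply, smul_eq_mul, div_mul_eq_mul_div, eq_div_iff (hc q), mul_comm _ (t 1 d)]
        exact h2 d
      rw [h4, classInner_smul_left, Helper35.classInner_irr' (ht 1) (ht 1), if_pos rfl,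
        mul_one] at h3
      exact hc 1 ((div_eq_zero_iff.mp h3).resolve_right (hc q))
    set Ψ : D ≀ᵣ Q → ℂ :=
      indFun (fullK (Q := Q) (H 1)) (fun k => ((fullLam (H 1) (lam 1) k : ℂˣ) : ℂ)) with hΨ
    have hΨv : ∀ f : Q → D, Ψ ⟨f, 1⟩ = θ f := by
      intro f
      rw [hΨ, indFun_fullK, hθf]
      refine Finset.prod_congr rfl fun y _ => ?_
      rw [hteq y, hHlam 1]
    have hΨc : IsCharacter (D ≀ᵣ Q) Ψ :=
      Helper35.isCharacter_indFun _ (Helper35.isChar_of_irr (isIrr_of_hom _))
    let B : Subgroup (D ≀ᵣ Q) := (rightHom : D ≀ᵣ Q →* Q).ker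
    have hBr : ∀ b : B, (b : D ≀ᵣ Q).right = 1 := fun b => b.2
    have hBeq : ∀ b : B, (b : D ≀ᵣ Q) = ⟨(b : D ≀ᵣ Q).left, 1⟩ := fun b =>
      RegularWreathProduct.ext rfl (hBr b)
    let eB : B →* (Q → D) :=
      { toFun := fun b => (b : D ≀ᵣ Q).left
        map_one' := rfl
        map_mul' := fun a b => by
          show ((a : D ≀ᵣ Q) * (b : D ≀ᵣ Q)).left = _
          rw [RegularWreathProduct.mul_left]
          funext y
          simp [hBr a] }
    have heB : ∀ b : B, eB b = (b : D ≀ᵣ Q).left := fun b => rfl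
    have hinj : Function.Injective eB := by
      intro a b hab
      apply Subtype.ext
      rw [hBeq a, hBeq b]
      have : (a : D ≀ᵣ Q).left = (b : D ≀ᵣ Q).left := hab
      rw [this]
    have hsurj : Function.Surjective eB := fun f => ⟨⟨⟨f, 1⟩, rfl⟩, rfl⟩
    let eBe : B ≃* (Q → D) := MulEquiv.ofBijective eB ⟨hinj, hsurj⟩
    have hΨB : (fun b : B => Ψ b) = fun b => θ (eB b) := by
      funext b
      rw [hBeq b, hΨv]
      rfl
    have hΨBirr : IsIrrCharacter B (fun b : B => Ψ b) := by
      rw [hΨB]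
      exact Helper20.irr_comp_surjective eB hsurj hθ
    have hΨirr : IsIrrCharacter (D ≀ᵣ Q) Ψ := Helper20.irr_of_res_irr B hΨc hΨBirr
    let _ : Fintype B := Fintype.ofFinite B
    have hχB : (fun b : B => χ b) = fun b => χj (eBe b) := by
      funext b
      show χ b = χ (wrBase ((b : D ≀ᵣ Q).left))
      rw [wrBase_apply, ← hBeq b]
    have hcc : classInner (fun b : B => χ b) (fun b : B => Ψ b) ≠ 0 := by
      rw [hΨB, hχB]
      have := Helper20.classInner_comp_equiv eBe χj θ
      show classInner (fun a => χj (eBe a)) (fun a => θ (eBe a)) ≠ 0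
      rw [this]
      exact hθχ
    obtain ⟨β, hβ⟩ := gallagher_exists B hΨirr hΨBirr hχ hcc
    have hQc : IsMulCommutative Q := by
      have hcyc : IsCyclic Q := isCyclic_of_prime_card rfl
      exact IsCyclic.isMulCommutative
    have hWB : IsMulCommutative ((D ≀ᵣ Q) ⧸ B) := by
      refine ⟨⟨fun a b => ?_⟩⟩
      induction a using QuotientGroup.induction_on with
      | H a =>
        induction b using QuotientGroup.induction_on with
        | H b =>
          rw [← QuotientGroup.mk_mul, ← QuotientGroup.mk_mul, QuotientGroup.eq]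
          show ((a * b)⁻¹ * (b * a)).right = 1
          simp only [RegularWreathProduct.mul_right, RegularWreathProduct.inv_right]
          rw [hQc.is_comm.comm b.right a.right]
          group
    have hβ1 : (β : (D ≀ᵣ Q) ⧸ B → ℂ) 1 = 1 := irr_comm_degree β.2
    have hinfl : IsIrrCharacter (D ≀ᵣ Q)
        (fun g => (β : (D ≀ᵣ Q) ⧸ B → ℂ) (g : (D ≀ᵣ Q) ⧸ B)) := irr_inflate B β.2
    let μ : D ≀ᵣ Q →* ℂˣ := (linHom hinfl hβ1).toHomUnits
    have hμ : ∀ w : D ≀ᵣ Q, ((μ w : ℂˣ) : ℂ) = (β : (D ≀ᵣ Q) ⧸ B → ℂ) (w : (D ≀ᵣ Q) ⧸ B) :=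
      fun w => rfl
    have hμc : ∀ g x : D ≀ᵣ Q, ((μ (x⁻¹ * g * x) : ℂˣ) : ℂ) = ((μ g : ℂˣ) : ℂ) := by
      intro g x
      rw [map_mul, map_mul, map_inv, mul_comm (μ x)⁻¹, mul_assoc, inv_mul_cancel, mul_one]
    let Lam : fullK (Q := Q) (H 1) →* ℂˣ :=
      fullLam (H 1) (lam 1) * μ.comp (fullK (Q := Q) (H 1)).subtype
    refine ⟨fullK (Q := Q) (H 1), Lam, ?_⟩
    have h5 := indFun_mul_class (fullK (Q := Q) (H 1))
      (fun k => ((fullLam (H 1) (lam 1) k : ℂˣ) : ℂ)) (fun w => ((μ w : ℂˣ) : ℂ)) hμc
    have h6 : (fun k : fullK (Q := Q) (H 1) => ((Lam k : ℂˣ) : ℂ)) =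
        fun k => ((fullLam (H 1) (lam 1) k : ℂˣ) : ℂ) * ((μ (k : D ≀ᵣ Q) : ℂˣ) : ℂ) := by
      funext k
      rfl
    rw [h6, h5, hβ]
    funext w
    rw [hμ, mul_comm]
  · -- non-invariant case
    push Not at hinv
    obtain ⟨r₀, f₀, hr₀⟩ := hinv
    let S : Subgroup Q :=
      { carrier := {r | ∀ f, θ (wrTau r f) = θ f}
        one_mem' := fun f => by
          have : wrTau (1 : Q) f = f := by
            funext y
            rw [wrTau_apply, one_mul]
          rw [this]
        mul_mem' := by
          intro a b ha hb f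
          have : wrTau (a * b) f = wrTau b (wrTau a f) := by
            funext y
            simp only [wrTau_apply, mul_assoc]
          rw [this, hb, ha]
        inv_mem' := by
          intro a ha f
          have h1 := ha (wrTau a⁻¹ f)
          have h2 : wrTau a (wrTau a⁻¹ f) = f := by
            funext y
            simp only [wrTau_apply, inv_mul_cancel_left]
          rw [h2] at h1
          exact h1.symm }
    have hS : S = ⊥ := by
      rcases Subgroup.eq_bot_or_eq_top_of_prime_card S with h | h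
      · exact h
      · exfalso
        have h1 : r₀ ∈ S := by
          rw [h]
          trivial
        exact hr₀ (h1 f₀)
    have hdist : ∀ r r' : Q, (∀ f, θ (wrTau r f) = θ (wrTau r' f)) → r = r' := by
      intro r r' h
      have h0 : r⁻¹ * r' ∈ S := by
        intro g
        have h1 := h (wrTau r⁻¹ g)
        have h2 : wrTau r (wrTau r⁻¹ g) = g := by
          funext y
          simp only [wrTau_apply, inv_mul_cancel_left]
        have h3 : wrTau r' (wrTau r⁻¹ g) = wrTau (r⁻¹ * r') g := by
          funext y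
          simp only [wrTau_apply, mul_assoc]
        rw [h2, h3] at h1
        exact h1.symm
      rw [hS, Subgroup.mem_bot] at h0
      exact inv_mul_eq_one.mp h0
    set Ξ : D ≀ᵣ Q → ℂ :=
      indFun (baseK H) (fun k => ((baseLam H lam k : ℂˣ) : ℂ)) with hΞ
    have hΞv : ∀ w : D ≀ᵣ Q,
        Ξ w = if w.right = 1 then ∑ r : Q, θ (wrTau r w.left) else 0 := by
      intro w
      rw [hΞ, indFun_baseK]
      split_ifs with h
      · refine Finset.sum_congr rfl fun r _ => ?_
        rw [hθf]
        refine Finset.prod_congr rfl fun y _ => ?_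
        rw [hHlam y]
        rfl
      · rfl
    have hΞc : IsCharacter (D ≀ᵣ Q) Ξ :=
      Helper35.isCharacter_indFun _ (Helper35.isChar_of_irr (isIrr_of_hom _))
    have hτ : ∀ a : Q, IsIrrCharacter (Q → D) (fun f => θ ((wrTau (D := D) a).toMonoidHom f)) :=
      fun a => Helper20.irr_comp_surjective (wrTau (D := D) a).toMonoidHom
        (MulEquiv.surjective (wrTau (D := D) a)) hθ
    have key : ∀ a b : Q, ∑ g : Q → D, θ (wrTau a g) * conj (θ (wrTau b g)) =
        if a = b then (Nat.card (Q → D) : ℂ) else 0 := by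
      intro a b
      have h1 := Helper35.classInner_irr' (hτ a) (hτ b)
      unfold classInner at h1
      have h2 : ∑ g : Q → D, θ (wrTau a g) * conj (θ (wrTau b g)) =
          (Nat.card (Q → D) : ℂ) * (if (fun f => θ ((wrTau a).toMonoidHom f)) =
            (fun f => θ ((wrTau b).toMonoidHom f)) then 1 else 0) := by
        rw [← h1, mul_inv_cancel_left₀ hP0]
        rfl
      rw [h2]
      by_cases hab : a = b
      · subst hab
        rw [if_pos rfl, if_pos rfl, mul_one]
      · rw [if_neg hab, if_neg, mul_zero]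
        intro h
        exact hab (hdist a b (fun f => congrFun h f))
    have hnorm : classInner Ξ Ξ = 1 := by
      unfold classInner
      rw [wr_sum]
      have h1 : ∀ r : Q, ∑ g : Q → D, Ξ ⟨g, r⟩ * conj (Ξ ⟨g, r⟩) =
          if r = 1 then (Nat.card Q : ℂ) * (Nat.card (Q → D) : ℂ) else 0 := by
        intro r
        by_cases hr : r = 1
        · subst hr
          rw [if_pos rfl]
          simp only [hΞv, if_true, map_sum, Finset.sum_mul_sum]
          rw [Finset.sum_comm]
          have h2 : ∀ a : Q, ∑ g : Q → D, ∑ b : Q,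
              θ (wrTau a g) * conj (θ (wrTau b g)) = (Nat.card (Q → D) : ℂ) := by
            intro a
            rw [Finset.sum_comm]
            simp only [key, Finset.sum_ite_eq, Finset.mem_univ, if_true]
          simp only [h2, Finset.sum_const, Finset.card_univ, nsmul_eq_mul,
            Nat.card_eq_fintype_card]
        · rw [if_neg hr]
          simp only [hΞv, if_neg hr, zero_mul, Finset.sum_const_zero]
      simp only [h1, Finset.sum_ite_eq', Finset.mem_univ, if_true]
      rw [hcardW]
      field_simp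
    have hfin := Helper4.irr_finite (G := D ≀ᵣ Q)
    let _ : Fintype (IrrCharacter (D ≀ᵣ Q)) := Fintype.ofFinite _
    have hΞirr : IsIrrCharacter (D ≀ᵣ Q) Ξ := Helper4.isIrrCharacter_of_norm_one _ hΞc hnorm
    have hinner : classInner Ξ χ ≠ 0 := by
      have h1 : classInner Ξ χ = classInner θ χj := by
        unfold classInner
        rw [wr_sum]
        have h2 : ∀ r : Q, ∑ g : Q → D, Ξ ⟨g, r⟩ * conj (χ ⟨g, r⟩) =
            if r = 1 then (Nat.card Q : ℂ) * ∑ g : Q → D, θ g * conj (χj g) else 0 := by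
          intro r
          by_cases hr : r = 1
          · subst hr
            rw [if_pos rfl]
            simp only [hΞv, if_true, Finset.sum_mul]
            rw [Finset.sum_comm]
            have h3 : ∀ a : Q, ∑ g : Q → D, θ (wrTau a g) * conj (χ ⟨g, 1⟩) =
                ∑ g : Q → D, θ g * conj (χj g) := by
              intro a
              refine Fintype.sum_equiv (wrTau a).toEquiv _ _ (fun g => ?_)
              have h4 : χ ⟨g, 1⟩ = χj (wrTau a g) := by
                show χ ⟨g, 1⟩ = χ ⟨wrTau a g, 1⟩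
                have h5 : (⟨wrTau a g, 1⟩ : D ≀ᵣ Q) =
                    (⟨1, a⟩ : D ≀ᵣ Q)⁻¹ * ⟨g, 1⟩ * ⟨1, a⟩ := by
                  rw [wr_conj]
                  apply RegularWreathProduct.ext
                  · funext y
                    simp [wrTau_apply]
                  · simp
                rw [h5]
                have h6 := irr_classFunction hχ ⟨g, 1⟩ (⟨1, a⟩ : D ≀ᵣ Q)⁻¹
                rw [inv_inv] at h6
                exact h6.symm
              rw [h4]
              rfl
            simp only [h3, Finset.sum_const, Finset.card_univ, nsmul_eq_mul,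
              Nat.card_eq_fintype_card]
          · rw [if_neg hr]
            simp only [hΞv, if_neg hr, zero_mul, Finset.sum_const_zero]
        simp only [h2, Finset.sum_ite_eq', Finset.mem_univ, if_true]
        rw [hcardW]
        field_simp
      rw [h1, Helper4.classInner_conj_symm]
      intro h
      apply hθχ
      have := congrArg conj h
      simpa using this
    have hEq : Ξ = χ := by
      by_contra hne
      rw [Helper35.classInner_irr' hΞirr hχ, if_neg hne] at hinner
      exact hinner rfl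
    exact ⟨baseK H, baseLam H lam, hEq.symm⟩

end wreath

end Cfsg.Agent.Lib.Helper83
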