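import Mathlib
import Cfsg.Agent.Lib.Helper83.Mg3
import Cfsg.Agent.Lib.Helper32.Coprime

/-!
# M-groups, part 4: every finite solvable group embeds in an M-group

* `kkHom`: the Kaloujnine–Krasner embedding `G →* M ≀ᵣ (G ⧸ N)` built from a homomorphism
  `N →* M`, injective if the latter is (`kkHom_injective`);
* `mgroup_embed`: every finite solvable group embeds in a finite group all of whose irreducible
  characters are induced from linear characters of subgroups (Dade).
-/

set_option autoImplicit false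

namespace Cfsg.Agent.Lib.Helper83

open Cfsg Cfsg.Agent.Lib
open RegularWreathProduct

section kk

variable {G : Type*} [Group G] (N : Subgroup G) [hN : N.Normal] {M : Type*} [Group M]
  (ι : N →* M)

/-- a section of `G → G ⧸ N` -/
noncomputable def kkT (q : G ⧸ N) : G := Quotient.out q

omit hN in
theorem kkT_mk (q : G ⧸ N) : ((kkT N q : G) : G ⧸ N) = q := QuotientGroup.out_eq' q

theorem kk_mem (g : G) (q : G ⧸ N) :
    (kkT N q)⁻¹ * g * kkT N ((g : G ⧸ N)⁻¹ * q) ∈ N := by
  rw [← QuotientGroup.eq_one_iff, QuotientGroup.mk_mul, QuotientGroup.mk_mul,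
    QuotientGroup.mk_inv, kkT_mk, kkT_mk]
  group

/-- the cocycle of the Kaloujnine–Krasner embedding -/
noncomputable def kkC (g : G) (q : G ⧸ N) : N :=
  ⟨(kkT N q)⁻¹ * g * kkT N ((g : G ⧸ N)⁻¹ * q), kk_mem N g q⟩

theorem kkC_mul (g h : G) (q : G ⧸ N) :
    kkC N (g * h) q = kkC N g q * kkC N h ((g : G ⧸ N)⁻¹ * q) := by
  apply Subtype.ext
  show (kkT N q)⁻¹ * (g * h) * kkT N (((g * h : G) : G ⧸ N)⁻¹ * q) =
    ((kkT N q)⁻¹ * g * kkT N ((g : G ⧸ N)⁻¹ * q)) *
      ((kkT N ((g : G ⧸ N)⁻¹ * q))⁻¹ * h * kkT N ((h : G ⧸ N)⁻¹ * ((g : G ⧸ N)⁻¹ * q)))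
  have h1 : ((g * h : G) : G ⧸ N)⁻¹ * q = (h : G ⧸ N)⁻¹ * ((g : G ⧸ N)⁻¹ * q) := by
    rw [QuotientGroup.mk_mul, mul_inv_rev, mul_assoc]
  rw [h1]
  group

theorem kkC_one (q : G ⧸ N) : kkC N 1 q = 1 := by
  apply Subtype.ext
  show (kkT N q)⁻¹ * 1 * kkT N (((1 : G) : G ⧸ N)⁻¹ * q) = 1
  simp

/-- the Kaloujnine–Krasner embedding -/
noncomputable def kkHom : G →* M ≀ᵣ (G ⧸ N) where
  toFun g := ⟨fun q => ι (kkC N g q), (g : G ⧸ N)⟩
  map_one' := by
    apply RegularWreathProduct.ext
    · funext q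
      show ι (kkC N 1 q) = 1
      rw [kkC_one, map_one]
    · rfl
  map_mul' g h := by
    apply RegularWreathProduct.ext
    · funext q
      show ι (kkC N (g * h) q) = ι (kkC N g q) * ι (kkC N h ((g : G ⧸ N)⁻¹ * q))
      rw [kkC_mul, map_mul]
    · rfl

theorem kkHom_injective (hι : Function.Injective ι) : Function.Injective (kkHom N ι) := by
  rw [injective_iff_map_eq_one]
  intro g hg
  have h1 : (g : G ⧸ N) = 1 := congrArg RegularWreathProduct.right hg
  have h2 : ι (kkC N g 1) = 1 := congrFun (congrArg RegularWreathProduct.left hg) 1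
  rw [← map_one ι] at h2
  have h4 : ((kkC N g 1 : N) : G) = 1 := congrArg Subtype.val (hι h2)
  change (kkT N 1)⁻¹ * g * kkT N ((g : G ⧸ N)⁻¹ * 1) = 1 at h4
  rw [h1, inv_one, one_mul] at h4
  have h5 : g = kkT N 1 * ((kkT N 1)⁻¹ * g * kkT N 1) * (kkT N 1)⁻¹ := by group
  rw [h5, h4]
  group

end kk

universe u

/-- Dade: every finite solvable group embeds in a finite M-group. -/
theorem mgroup_embed : ∀ (n : ℕ) (G : Type u) [Group G] [Finite G], Group.IsSolvable G →
    Nat.card G = n →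
    ∃ (M : Type u) (_ : Group M) (_ : Fintype M),
      (∀ χ : M → ℂ, IsIrrCharacter M χ →
        ∃ (H : Subgroup M) (lam : H →* ℂˣ), χ = indFun H (fun h => ((lam h : ℂˣ) : ℂ))) ∧
      ∃ f : G →* M, Function.Injective f := by
  intro n
  induction n using Nat.strong_induction_on with
  | _ n ih =>
    intro G _ _ hsolv hn
    classical
    by_cases hG : Subsingleton G
    · let instG : Fintype G := Fintype.ofFinite G
      refine ⟨G, inferInstance, instG, ?_, MonoidHom.id G, Function.injective_id⟩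
      intro χ hχ
      have hcomm : IsMulCommutative G := ⟨⟨fun a b => Subsingleton.elim _ _⟩⟩
      have h1 : χ 1 = 1 := irr_comm_degree hχ
      refine ⟨⊤, 1, ?_⟩
      funext g
      rw [Subsingleton.elim g 1, h1, Helper35.indFun_one_eq]
      simp
    · rw [not_subsingleton_iff_nontrivial] at hG
      obtain ⟨N, r, hNn, hr, hNr⟩ := Helper32.exists_normal_prime_index G
      have hNcard : Nat.card N < n := by
        rw [← hn, ← Subgroup.card_mul_index N, hNr]
        exact lt_mul_of_one_lt_right Nat.card_pos hr.one_lt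
      obtain ⟨M₀, instM, instF, hM₀, ι, hι⟩ := ih (Nat.card N) hNcard N inferInstance rfl
      let _ : Fintype (G ⧸ N) := Fintype.ofFinite _
      let instW : Fintype (M₀ ≀ᵣ (G ⧸ N)) := Fintype.ofFinite _
      refine ⟨M₀ ≀ᵣ (G ⧸ N), inferInstance, instW, ?_, kkHom N ι, kkHom_injective N ι hι⟩
      have hp : (Nat.card (G ⧸ N)).Prime := by
        rw [← Subgroup.index_eq_card, hNr]
        exact hr
      exact fun χ hχ => wreath_monomial hp hM₀ χ hχ

end Cfsg.Agent.Lib.Helper83
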