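import Mathlib
import Cfsg.Prelude.Def_GeometricClasses
import Cfsg.Prelude.Def_LieClassical
import Cfsg.Agent.Lib.Helper51.HypPairs

/-!
# Project OMP (helper71; S5814 + S5859): piece OD

`OD1`: the standard odd-dimensional quadratic form is non-degenerate for `q` odd;
`OD2`: the determinant of its Gram matrix is `2 * (-1) ^ m`.
-/

set_option autoImplicit false
set_option linter.style.haveILetI false
set_option linter.unusedVariables false
set_option linter.unusedSectionVars false
set_option linter.unusedSimpArgs false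

namespace Cfsg.Agent.Lib.Helper83.OMPOD

open Matrix Cfsg.Geo

variable {n : ℕ} {F : Type*} [Field F] [Fintype F]

open Cfsg.Agent.Lib.Helper51 (QOdd coe_QOdd polar_QOdd two_ne_zero_of_odd_card)

/-- the polar form of the standard odd form -/
theorem od_polar (m : ℕ) (u x : Unit ⊕ (Fin m ⊕ Fin m) → F) :
    QuadraticMap.polar (Cfsg.quadFormOdd m F) u x
      = 2 * u (Sum.inl ()) * x (Sum.inl ())
        + ∑ i : Fin m, (u (Sum.inr (Sum.inl i)) * x (Sum.inr (Sum.inr i))
          + x (Sum.inr (Sum.inl i)) * u (Sum.inr (Sum.inr i))) := by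
  rw [← coe_QOdd, polar_QOdd]

theorem od_polar_single_zero (m : ℕ) (u : Unit) (x : Unit ⊕ (Fin m ⊕ Fin m) → F) :
    QuadraticMap.polar (Cfsg.quadFormOdd m F) (Pi.single (Sum.inl u) 1) x
      = 2 * x (Sum.inl ()) := by
  rw [od_polar]
  simp [Pi.single_apply]

theorem od_polar_single_inl (m : ℕ) (j : Fin m) (x : Unit ⊕ (Fin m ⊕ Fin m) → F) :
    QuadraticMap.polar (Cfsg.quadFormOdd m F) (Pi.single (Sum.inr (Sum.inl j)) 1) x
      = x (Sum.inr (Sum.inr j)) := by
  rw [od_polar]
  simp [Pi.single_apply]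

theorem od_polar_single_inr (m : ℕ) (j : Fin m) (x : Unit ⊕ (Fin m ⊕ Fin m) → F) :
    QuadraticMap.polar (Cfsg.quadFormOdd m F) (Pi.single (Sum.inr (Sum.inr j)) 1) x
      = x (Sum.inr (Sum.inl j)) := by
  rw [od_polar]
  simp [Pi.single_apply]

/-- OD1 -/
theorem OD1 (hodd : Odd (Fintype.card F)) (m : ℕ) :
    IsNondegenerateQuadraticForm (Cfsg.quadFormOdd m F) := by
  have h2 : (2 : F) ≠ 0 := two_ne_zero_of_odd_card hodd
  have hcomm : ∀ x y : Unit ⊕ (Fin m ⊕ Fin m) → F,
      QuadraticMap.polar (Cfsg.quadFormOdd m F) x y =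
        QuadraticMap.polar (Cfsg.quadFormOdd m F) y x := fun x y => QuadraticMap.polar_comm _ x y
  refine ⟨?_, ⟨?_, ?_, ?_, ?_⟩, ?_⟩
  · intro c v
    rw [← coe_QOdd, QuadraticMap.map_smul, smul_eq_mul, pow_two]
  · intro x y v
    rw [← coe_QOdd]
    exact QuadraticMap.polar_add_left (QOdd m F) x y v
  · intro c x v
    rw [← coe_QOdd]
    exact QuadraticMap.polar_smul_left (QOdd m F) c x v
  · intro v x y
    rw [← coe_QOdd]
    exact QuadraticMap.polar_add_right (QOdd m F) v x y
  · intro c v x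
    rw [← coe_QOdd]
    exact QuadraticMap.polar_smul_right (QOdd m F) c v x
  · intro v hv
    have hex : ∃ x, QuadraticMap.polar (Cfsg.quadFormOdd m F) x v ≠ 0 := by
      by_contra hcon
      push Not at hcon
      apply hv
      funext a
      rcases a with (_ | j | j)
      · have h := hcon (Pi.single (Sum.inl ()) 1)
        rw [od_polar_single_zero] at h
        rcases mul_eq_zero.mp h with h | h
        · exact absurd h h2
        · exact h
      · have h := hcon (Pi.single (Sum.inr (Sum.inr j)) 1)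
        rw [od_polar_single_inr] at h
        exact h
      · have h := hcon (Pi.single (Sum.inr (Sum.inl j)) 1)
        rw [od_polar_single_inl] at h
        exact h
    obtain ⟨x, hx⟩ := hex
    exact ⟨⟨x, hx⟩, ⟨x, by rw [hcomm]; exact hx⟩⟩

/-- OD2 -/
theorem OD2 (m : ℕ) :
    (gramMatrix (QuadraticMap.polar (Cfsg.quadFormOdd m F))).det = 2 * (-1) ^ m := by
  have hG : gramMatrix (QuadraticMap.polar (Cfsg.quadFormOdd m F)) =
      Matrix.fromBlocks (Matrix.of (fun (_ _ : Unit) => (2 : F)))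
        (0 : Matrix Unit (Fin m ⊕ Fin m) F) (0 : Matrix (Fin m ⊕ Fin m) Unit F)
        (Matrix.fromBlocks (0 : Matrix (Fin m) (Fin m) F) (1 : Matrix (Fin m) (Fin m) F)
          (1 : Matrix (Fin m) (Fin m) F) (0 : Matrix (Fin m) (Fin m) F)) := by
    ext a b
    rcases a with (u | a | a) <;> rcases b with (u' | b | b)
    · rw [Matrix.fromBlocks_apply₁₁]
      simp [gramMatrix, od_polar_single_zero, Pi.single_apply]
    · rw [Matrix.fromBlocks_apply₁₂]
      simp [gramMatrix, od_polar_single_zero, Pi.single_apply]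
    · rw [Matrix.fromBlocks_apply₁₂]
      simp [gramMatrix, od_polar_single_zero, Pi.single_apply]
    · rw [Matrix.fromBlocks_apply₂₁]
      simp [gramMatrix, od_polar_single_inl, Pi.single_apply]
    · rw [Matrix.fromBlocks_apply₂₂, Matrix.fromBlocks_apply₁₁]
      simp [gramMatrix, od_polar_single_inl, Pi.single_apply]
    · rw [Matrix.fromBlocks_apply₂₂, Matrix.fromBlocks_apply₁₂]
      simp [gramMatrix, od_polar_single_inl, Pi.single_apply, Matrix.one_apply, eq_comm]
    · rw [Matrix.fromBlocks_apply₂₁]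
      simp [gramMatrix, od_polar_single_inr, Pi.single_apply]
    · rw [Matrix.fromBlocks_apply₂₂, Matrix.fromBlocks_apply₂₁]
      simp [gramMatrix, od_polar_single_inr, Pi.single_apply, Matrix.one_apply, eq_comm]
    · rw [Matrix.fromBlocks_apply₂₂, Matrix.fromBlocks_apply₂₂]
      simp [gramMatrix, od_polar_single_inr, Pi.single_apply]
  have hswap : (Matrix.fromBlocks (0 : Matrix (Fin m) (Fin m) F) (1 : Matrix (Fin m) (Fin m) F)
      (1 : Matrix (Fin m) (Fin m) F) (0 : Matrix (Fin m) (Fin m) F)).det = (-1) ^ m := by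
    have h1 : Matrix.fromBlocks (0 : Matrix (Fin m) (Fin m) F) (1 : Matrix (Fin m) (Fin m) F)
          (1 : Matrix (Fin m) (Fin m) F) (0 : Matrix (Fin m) (Fin m) F) *
        Matrix.fromBlocks (1 : Matrix (Fin m) (Fin m) F) (0 : Matrix (Fin m) (Fin m) F)
          (1 : Matrix (Fin m) (Fin m) F) (1 : Matrix (Fin m) (Fin m) F) =
        Matrix.fromBlocks (1 : Matrix (Fin m) (Fin m) F) (1 : Matrix (Fin m) (Fin m) F)
          (1 : Matrix (Fin m) (Fin m) F) (0 : Matrix (Fin m) (Fin m) F) := by
      rw [Matrix.fromBlocks_multiply]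
      simp
    have h2 : (Matrix.fromBlocks (1 : Matrix (Fin m) (Fin m) F) (0 : Matrix (Fin m) (Fin m) F)
          (1 : Matrix (Fin m) (Fin m) F) (1 : Matrix (Fin m) (Fin m) F)).det = 1 := by
      rw [Matrix.det_fromBlocks_zero₁₂]
      simp
    have h3 : (Matrix.fromBlocks (1 : Matrix (Fin m) (Fin m) F) (1 : Matrix (Fin m) (Fin m) F)
          (1 : Matrix (Fin m) (Fin m) F) (0 : Matrix (Fin m) (Fin m) F)).det = (-1) ^ m := by
      rw [Matrix.det_fromBlocks_one₁₁]
      simp [Matrix.det_neg]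
    have h4 := congrArg Matrix.det h1
    rw [Matrix.det_mul, h2, mul_one, h3] at h4
    exact h4
  rw [hG, Matrix.det_fromBlocks_zero₁₂, hswap, Matrix.det_unique]
  simp

end Cfsg.Agent.Lib.Helper83.OMPOD
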