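import Mathlib
import Cfsg.Prelude.Def_GeometricClasses
import Cfsg.Prelude.Def_LieClassical
import Cfsg.Agent.Lib.Helper1.O9NF3

/-! Project OOS (helper65, S5673), piece NFO (duplicate `NFO_b`, helper83): over a finite field of
odd characteristic two non-degenerate symmetric Gram matrices of the same odd size are congruent
up to a scalar.

Route: (1) a non-degenerate symmetric bilinear form on a space of dimension `n + 1` has an
orthogonal family `b` with `B (b i) (b i) = 1` except for the last index (induction on `n`: in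
dimension at least `2` the form represents `1`, split off such a vector); (2) so every such Gram
matrix `G` is congruent to `diag(1, …, 1, δ)` with `δ = det(P)² det G`; (3) hence `G'` is congruent
to `G` as soon as `det G' = s² det G`; (4) for odd size `2 m + 1` and `c = det G₂ / det G₁` one has
`det G₂ = (c⁻ᵐ)² det (c • G₁)`. -/

set_option autoImplicit false

namespace Cfsg.Agent.Lib.Helper65.OOS

open Matrix Cfsg.Geo

universe u

/-- A non-degenerate symmetric form in dimension at least `2` represents `1`. -/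
theorem NFOb_rep_one {F : Type u} [Field F] [Fintype F] (h2 : (2 : F) ≠ 0) {V : Type u}
    [AddCommGroup V] [Module F V] [FiniteDimensional F V] (B : LinearMap.BilinForm F V)
    (hs : B.IsSymm) (hn : B.Nondegenerate) (hdim : 2 ≤ Module.finrank F V) :
    ∃ v : V, B v v = 1 := by
  let _i2 : Invertible (2 : F) := invertibleOfNonzero h2
  obtain ⟨e, he⟩ := LinearMap.BilinForm.exists_orthogonal_basis
    (LinearMap.BilinForm.isSymm_iff.1 hs)
  have he' : B.iIsOrtho e := he
  have ha := LinearMap.BilinForm.iIsOrtho.not_isOrtho_basis_self_of_nondegenerate he' hn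
    ⟨0, by omega⟩
  have hb := LinearMap.BilinForm.iIsOrtho.not_isOrtho_basis_self_of_nondegenerate he' hn
    ⟨1, by omega⟩
  have h01 : B (e ⟨0, by omega⟩) (e ⟨1, by omega⟩) = 0 :=
    LinearMap.isOrthoᵢ_def.1 he _ _ (by simp [Fin.ext_iff])
  have h10 : B (e ⟨1, by omega⟩) (e ⟨0, by omega⟩) = 0 :=
    LinearMap.isOrthoᵢ_def.1 he _ _ (by simp [Fin.ext_iff])
  obtain ⟨x, y, hxy⟩ := Cfsg.Agent.Lib.Helper44.O9.NF3_bin h2 _ _ ha hb
  refine ⟨x • e ⟨0, by omega⟩ + y • e ⟨1, by omega⟩, ?_⟩
  simp only [map_add, map_smul, LinearMap.add_apply, LinearMap.smul_apply, smul_eq_mul, h01, h10]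
  linear_combination hxy

/-- An orthogonal family, orthonormal except for the last vector. -/
theorem NFOb_basis {F : Type u} [Field F] [Fintype F] (h2 : (2 : F) ≠ 0) :
    ∀ (n : ℕ) (V : Type u) [AddCommGroup V] [Module F V] [FiniteDimensional F V]
      (B : LinearMap.BilinForm F V), B.IsSymm → B.Nondegenerate → Module.finrank F V = n + 1 →
      ∃ b : Fin (n + 1) → V, (∀ i j, i ≠ j → B (b i) (b j) = 0) ∧
        (∀ i, i ≠ Fin.last n → B (b i) (b i) = 1) ∧
        B (b (Fin.last n)) (b (Fin.last n)) ≠ 0 := by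
  intro n
  induction n with
  | zero =>
    intro V _ _ _ B hs hn hdim
    have hpos : 0 < Module.finrank F V := by omega
    obtain ⟨v, hv⟩ := Module.finrank_pos_iff_exists_ne_zero.1 hpos
    refine ⟨fun _ => v, ?_, ?_, ?_⟩
    · intro i j hij
      exact absurd (Fin.ext (by have := i.2; have := j.2; omega)) hij
    · intro i hi
      exact absurd (Fin.ext (by simp)) hi
    · intro h0
      apply hv
      apply hn.1 v
      intro w
      obtain ⟨c, rfl⟩ := (finrank_eq_one_iff_of_nonzero' v hv).1 hdim w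
      rw [map_smul, smul_eq_mul, h0, mul_zero]
  | succ n ih =>
    intro V _ _ _ B hs hn hdim
    obtain ⟨v, hv⟩ := NFOb_rep_one h2 B hs hn (by omega)
    have hv0 : B v v ≠ 0 := by
      rw [hv]
      exact one_ne_zero
    have hW := LinearMap.BilinForm.restrict_nondegenerate_orthogonal_spanSingleton B hn
      hs.isRefl hv0
    have hcompl := LinearMap.BilinForm.isCompl_span_singleton_orthogonal hv0
    have hvne : v ≠ 0 := by
      rintro rfl
      apply hv0
      simp
    have hfin : Module.finrank F (B.orthogonal (F ∙ v)) = n + 1 := by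
      have h1 := Submodule.finrank_add_eq_of_isCompl hcompl
      rw [finrank_span_singleton hvne] at h1
      omega
    obtain ⟨b', hb1, hb2, hb3⟩ := ih (B.orthogonal (F ∙ v)) (B.restrict _) (hs.restrict _) hW hfin
    have hvb : ∀ i, B v (b' i : V) = 0 := fun i =>
      (LinearMap.BilinForm.mem_orthogonal_iff.1 (b' i).2) v (Submodule.mem_span_singleton_self v)
    refine ⟨(Fin.cons v (fun i => (b' i : V)) : Fin (n + 1 + 1) → V), ?_, ?_, ?_⟩
    · intro i j hij
      rcases Fin.eq_zero_or_eq_succ i with rfl | ⟨i', rfl⟩ <;>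
        rcases Fin.eq_zero_or_eq_succ j with rfl | ⟨j', rfl⟩
      · exact absurd rfl hij
      · rw [Fin.cons_zero, Fin.cons_succ]
        exact hvb j'
      · rw [Fin.cons_zero, Fin.cons_succ, hs.eq]
        exact hvb i'
      · rw [Fin.cons_succ, Fin.cons_succ]
        exact hb1 i' j' (fun h => hij (by rw [h]))
    · intro i hi
      rcases Fin.eq_zero_or_eq_succ i with rfl | ⟨i', rfl⟩
      · rw [Fin.cons_zero]
        exact hv
      · rw [Fin.cons_succ]
        exact hb2 i' (fun h => hi (by rw [h, Fin.succ_last]))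
    · rw [← Fin.succ_last, Fin.cons_succ]
      exact hb3

/-- The normal form `diag(1, …, 1, δ)` with `δ = det(P)² det G`. -/
theorem NFOb_nf {F : Type u} [Field F] [Fintype F] (h2 : (2 : F) ≠ 0) (n : ℕ)
    (G : Matrix (Fin (n + 1)) (Fin (n + 1)) F) (hs : Gᵀ = G) (hd : G.det ≠ 0) :
    ∃ (P : Matrix (Fin (n + 1)) (Fin (n + 1)) F) (δ : F),
      Pᵀ * G * P = Matrix.diagonal (fun i => if i = Fin.last n then δ else 1) ∧
      δ = P.det ^ 2 * G.det ∧ P.det ≠ 0 := by
  have hB : (Matrix.toBilin' G).IsSymm := by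
    refine ⟨fun x y => ?_⟩
    rw [Matrix.toBilin'_apply', Matrix.toBilin'_apply']
    rw [Matrix.dotProduct_mulVec, ← hs, Matrix.vecMul_transpose, hs, dotProduct_comm]
  have hN : (Matrix.toBilin' G).Nondegenerate := LinearMap.BilinForm.nondegenerate_toBilin'_of_det_ne_zero' G hd
  obtain ⟨b, hb1, hb2, hb3⟩ := NFOb_basis h2 n (Fin (n + 1) → F) (Matrix.toBilin' G) hB hN
    (by simp)
  let P : Matrix (Fin (n + 1)) (Fin (n + 1)) F := Matrix.of (fun i j => b j i)
  have hP : ∀ i j, (Pᵀ * G * P) i j = Matrix.toBilin' G (b i) (b j) := by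
    intro i j
    rw [Matrix.toBilin'_apply', Matrix.mul_apply]
    simp only [Matrix.mul_apply, Matrix.transpose_apply, dotProduct, Matrix.mulVec, P,
      Matrix.of_apply, Finset.sum_mul, Finset.mul_sum]
    rw [Finset.sum_comm]
    refine Finset.sum_congr rfl (fun k _ => Finset.sum_congr rfl (fun l _ => by ring))
  have hdiag : Pᵀ * G * P = Matrix.diagonal (fun i => if i = Fin.last n then
      Matrix.toBilin' G (b (Fin.last n)) (b (Fin.last n)) else 1) := by
    ext i j
    rw [hP]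
    by_cases hij : i = j
    · subst hij
      rw [Matrix.diagonal_apply_eq]
      by_cases hl : i = Fin.last n
      · rw [if_pos hl, hl]
      · rw [if_neg hl]
        exact hb2 i hl
    · rw [Matrix.diagonal_apply_ne _ hij]
      exact hb1 i j hij
  have hdet : P.det ^ 2 * G.det = Matrix.toBilin' G (b (Fin.last n)) (b (Fin.last n)) := by
    have h1 := congrArg Matrix.det hdiag
    rw [Matrix.det_mul, Matrix.det_mul, Matrix.det_transpose, Matrix.det_diagonal,
      Finset.prod_ite_eq' Finset.univ (Fin.last n)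
        (fun _ => Matrix.toBilin' G (b (Fin.last n)) (b (Fin.last n))),
      if_pos (Finset.mem_univ _)] at h1
    linear_combination h1
  refine ⟨P, _, hdiag, hdet.symm, ?_⟩
  intro h0
  rw [h0] at hdet
  apply hb3
  rw [← hdet]
  ring

/-- Two non-degenerate symmetric Gram matrices whose determinants differ by a square are
congruent. -/
theorem NFOb_congr {F : Type u} [Field F] [Fintype F] (h2 : (2 : F) ≠ 0) (n : ℕ)
    (G G' : Matrix (Fin (n + 1)) (Fin (n + 1)) F) (hs : Gᵀ = G) (hs' : G'ᵀ = G')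
    (hd : G.det ≠ 0) (s : F) (hs0 : s ≠ 0) (hdet : G'.det = s ^ 2 * G.det) :
    ∃ A : Matrix (Fin (n + 1)) (Fin (n + 1)) F, A.det ≠ 0 ∧ Aᵀ * G' * A = G := by
  have hd' : G'.det ≠ 0 := by
    rw [hdet]
    exact mul_ne_zero (pow_ne_zero 2 hs0) hd
  obtain ⟨P, δ, hP, hδ, hPd⟩ := NFOb_nf h2 n G hs hd
  obtain ⟨P', δ', hP', hδ', hPd'⟩ := NFOb_nf h2 n G' hs' hd'
  have ht0 : P'.det * s / P.det ≠ 0 := div_ne_zero (mul_ne_zero hPd' hs0) hPd
  have htd : δ' = (P'.det * s / P.det) ^ 2 * δ := by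
    rw [hδ', hδ, hdet]
    field_simp
  generalize P'.det * s / P.det = t at ht0 htd
  have hS : (Matrix.diagonal (fun i => if i = Fin.last n then t else 1))ᵀ *
      Matrix.diagonal (fun i => if i = Fin.last n then δ else 1) *
      Matrix.diagonal (fun i => if i = Fin.last n then t else 1) =
      Matrix.diagonal (fun i => if i = Fin.last n then δ' else 1) := by
    rw [Matrix.diagonal_transpose, Matrix.diagonal_mul_diagonal, Matrix.diagonal_mul_diagonal]
    refine congrArg Matrix.diagonal (funext fun i => ?_)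
    by_cases hl : i = Fin.last n
    · simp only [if_pos hl]
      rw [htd]
      ring
    · simp only [if_neg hl]
      ring
  have hSd : (Matrix.diagonal (fun i => if i = Fin.last n then t else 1) :
      Matrix (Fin (n + 1)) (Fin (n + 1)) F).det ≠ 0 := by
    rw [Matrix.det_diagonal, Finset.prod_ite_eq' Finset.univ (Fin.last n) (fun _ => t),
      if_pos (Finset.mem_univ _)]
    exact ht0
  generalize (Matrix.diagonal (fun i => if i = Fin.last n then t else 1) :
      Matrix (Fin (n + 1)) (Fin (n + 1)) F) = S at hS hSd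
  have hBd : (P * S).det ≠ 0 := by
    rw [Matrix.det_mul]
    exact mul_ne_zero hPd hSd
  have hBeq : (P * S)ᵀ * G * (P * S) = P'ᵀ * G' * P' := by
    rw [hP', ← hS, ← hP, Matrix.transpose_mul]
    simp only [Matrix.mul_assoc]
  generalize P * S = B at hBd hBeq
  have hBu : IsUnit B.det := IsUnit.mk0 _ hBd
  refine ⟨P' * B⁻¹, ?_, ?_⟩
  · rw [Matrix.det_mul, Matrix.det_nonsing_inv, Ring.inverse_eq_inv']
    exact mul_ne_zero hPd' (inv_ne_zero hBd)
  · rw [Matrix.transpose_mul]
    have e2 : (B⁻¹)ᵀ * P'ᵀ * G' * (P' * B⁻¹) = (B⁻¹)ᵀ * (P'ᵀ * G' * P') * B⁻¹ := by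
      simp only [Matrix.mul_assoc]
    rw [e2, ← hBeq]
    have e3 : (B⁻¹)ᵀ * (Bᵀ * G * B) * B⁻¹ = (B * B⁻¹)ᵀ * G * (B * B⁻¹) := by
      rw [Matrix.transpose_mul]
      simp only [Matrix.mul_assoc]
    rw [e3, Matrix.mul_nonsing_inv _ hBu, Matrix.transpose_one, Matrix.one_mul, Matrix.mul_one]

variable {F : Type*} [Field F] [Fintype F]

/-- NFO (duplicate) -/
theorem NFO_b (h2 : (2 : F) ≠ 0) {d : ℕ} (hd : Odd d) (G₁ G₂ : Matrix (Fin d) (Fin d) F)
    (hs1 : G₁ᵀ = G₁) (hs2 : G₂ᵀ = G₂) (hd1 : G₁.det ≠ 0) (hd2 : G₂.det ≠ 0) :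
    ∃ (A : GL (Fin d) F) (c : F), c ≠ 0 ∧ A.1ᵀ * G₂ * A.1 = c • G₁ := by
  obtain ⟨m, rfl⟩ := hd
  have hc0 : G₂.det / G₁.det ≠ 0 := div_ne_zero hd2 hd1
  have hcG : G₂.det / G₁.det * G₁.det = G₂.det := div_mul_cancel₀ _ hd1
  generalize G₂.det / G₁.det = c at hc0 hcG
  have hdetc : (c • G₁).det = c ^ (2 * m + 1) * G₁.det := by
    rw [Matrix.det_smul, Fintype.card_fin]
  have hcs : (c • G₁)ᵀ = c • G₁ := by rw [Matrix.transpose_smul, hs1]
  have hcd : (c • G₁).det ≠ 0 := by
    rw [hdetc]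
    exact mul_ne_zero (pow_ne_zero _ hc0) hd1
  have e : ((c ^ m)⁻¹) ^ 2 * c ^ (2 * m + 1) = c := by
    rw [inv_pow, ← pow_mul, mul_comm m 2, pow_succ, ← mul_assoc,
      inv_mul_cancel₀ (pow_ne_zero _ hc0), one_mul]
  obtain ⟨A, hA, hAeq⟩ := NFOb_congr h2 (2 * m) (c • G₁) G₂ hcs hs2 hcd ((c ^ m)⁻¹)
    (inv_ne_zero (pow_ne_zero _ hc0)) (by rw [hdetc, ← mul_assoc, e, hcG])
  obtain ⟨A', hA'⟩ := (Matrix.isUnit_iff_isUnit_det A).2 (IsUnit.mk0 _ hA)
  refine ⟨A', c, hc0, ?_⟩
  rw [hA']
  exact hAeq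

end Cfsg.Agent.Lib.Helper65.OOS
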