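import Mathlib
import Cfsg.Agent.Lib.Helper50.SU4Q3Def
import Cfsg.Agent.Lib.Helper71.Asch5

/-! Project SU4 (helper50, S5784), sub-pieces Q3AC and Q3COMM of Q3MON: any two elements of the
Pauli group commute or anticommute, and its commutator subgroup is scalar. -/

set_option autoImplicit false
set_option linter.unusedSimpArgs false
set_option linter.unusedSectionVars false

namespace Cfsg.Agent.Lib.Helper83.SU4Q3AC

open Matrix Cfsg.Geo Cfsg.Agent.Lib.Helper71.Asch Cfsg.Agent.Lib.Helper50.SU4Q3Def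

variable {F : Type*} [Field F] [Fintype F] {q : ℕ}

set_option maxHeartbeats 4000000 in
omit [Fintype F] in
/-- The generators pairwise commute or anticommute. -/
theorem su4q3ac_gen (ι : F) (A B : Matrix (Fin 4) (Fin 4) F)
    (hA : A = ι • (1 : Matrix (Fin 4) (Fin 4) F) ∨
      A = Matrix.diagonal ![1, 1, -1, -1] ∨
      A = Matrix.diagonal ![1, -1, 1, -1] ∨
      A = !![0, 0, 1, 0; 0, 0, 0, 1; 1, 0, 0, 0; 0, 1, 0, 0] ∨
      A = !![0, 1, 0, 0; 1, 0, 0, 0; 0, 0, 0, 1; 0, 0, 1, 0])
    (hB : B = ι • (1 : Matrix (Fin 4) (Fin 4) F) ∨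
      B = Matrix.diagonal ![1, 1, -1, -1] ∨
      B = Matrix.diagonal ![1, -1, 1, -1] ∨
      B = !![0, 0, 1, 0; 0, 0, 0, 1; 1, 0, 0, 0; 0, 1, 0, 0] ∨
      B = !![0, 1, 0, 0; 1, 0, 0, 0; 0, 0, 0, 1; 0, 0, 1, 0]) :
    A * B = B * A ∨ A * B = -(B * A) := by
  rcases hA with rfl | hA
  · left
    rw [Matrix.smul_mul, Matrix.mul_smul, Matrix.one_mul, Matrix.mul_one]
  rcases hB with rfl | hB
  · left
    rw [Matrix.smul_mul, Matrix.mul_smul, Matrix.one_mul, Matrix.mul_one]
  rcases hA with rfl | rfl | rfl | rfl <;> rcases hB with rfl | rfl | rfl | rfl <;>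
    first
    | (left; ext i j; fin_cases i <;> fin_cases j <;>
        simp [Matrix.mul_apply, Fin.sum_univ_four, Matrix.vecMul_diagonal,
          Matrix.mulVec_diagonal, Matrix.diagonal_apply]; done)
    | (right; ext i j; fin_cases i <;> fin_cases j <;>
        simp [Matrix.mul_apply, Fin.sum_univ_four, Matrix.vecMul_diagonal,
          Matrix.mulVec_diagonal, Matrix.diagonal_apply])

omit [Fintype F] in
/-- The elements commuting or anticommuting with `y` form a subgroup. -/
def su4q3ac_sub (y : GL (Fin 4) F) : Subgroup (GL (Fin 4) F) where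
  carrier := {x | x * y = y * x ∨ x * y = -(y * x)}
  one_mem' := Or.inl (by rw [one_mul, mul_one])
  mul_mem' := by
    rintro a b (ha | ha) (hb | hb)
    · left
      show a * b * y = y * (a * b)
      rw [mul_assoc, hb, ← mul_assoc, ha, mul_assoc]
    · right
      show a * b * y = -(y * (a * b))
      rw [mul_assoc, hb, mul_neg, ← mul_assoc, ha, mul_assoc]
    · right
      show a * b * y = -(y * (a * b))
      rw [mul_assoc, hb, ← mul_assoc, ha, neg_mul, mul_assoc]
    · left
      show a * b * y = y * (a * b)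
      rw [mul_assoc, hb, mul_neg, ← mul_assoc, ha, neg_mul, neg_neg, mul_assoc]
  inv_mem' := by
    rintro a (ha | ha)
    · left
      exact (Commute.inv_left (show Commute a y from ha)).eq
    · right
      show a⁻¹ * y = -(y * a⁻¹)
      have h1 : y = -(a⁻¹ * y * a) := by
        calc y = a⁻¹ * (a * y) := by rw [inv_mul_cancel_left]
          _ = a⁻¹ * -(y * a) := by rw [ha]
          _ = -(a⁻¹ * y * a) := by rw [mul_neg, mul_assoc]
      calc a⁻¹ * y = a⁻¹ * y * a * a⁻¹ := by rw [mul_inv_cancel_right]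
        _ = -(-(a⁻¹ * y * a)) * a⁻¹ := by rw [neg_neg]
        _ = -(y * a⁻¹) := by rw [← h1, neg_mul]

omit [Fintype F] in
theorem su4q3ac_symm (x y : GL (Fin 4) F) (h : x ∈ su4q3ac_sub y) : y ∈ su4q3ac_sub x := by
  rcases h with h | h
  · exact Or.inl h.symm
  · right
    show y * x = -(x * y)
    rw [h, neg_neg]

omit [Fintype F] in
theorem su4q3ac_units (ι : F) :
    ∀ x ∈ su4Pauli ι, ∀ y ∈ su4Pauli ι, x * y = y * x ∨ x * y = -(y * x) := by
  have h1 : ∀ g ∈ su4PauliGens ι, su4Pauli ι ≤ su4q3ac_sub g := by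
    intro g hg
    unfold su4Pauli
    rw [Subgroup.closure_le]
    intro g' hg'
    rcases su4q3ac_gen ι g'.1 g.1 hg' hg with h | h
    · exact Or.inl (Units.ext h)
    · exact Or.inr (Units.ext (by rw [Units.val_mul, Units.val_neg, Units.val_mul]; exact h))
  intro x hx y hy
  have h2 : su4Pauli ι ≤ su4q3ac_sub x := by
    unfold su4Pauli
    rw [Subgroup.closure_le]
    intro g hg
    exact su4q3ac_symm x g (h1 g hg hx)
  exact su4q3ac_symm y x (h2 hy)

/-- Q3AC: any two elements of the Pauli group commute or anticommute. -/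
theorem Q3AC (ι : F) : ∀ x ∈ su4Pauli ι, ∀ y ∈ su4Pauli ι,
    x.1 * y.1 = y.1 * x.1 ∨ x.1 * y.1 = -(y.1 * x.1) := by
  intro x hx y hy
  rcases su4q3ac_units ι x hx y hy with h | h
  · left
    have h1 := congrArg Units.val h
    simpa only [Units.val_mul] using h1
  · right
    have h1 := congrArg Units.val h
    simpa only [Units.val_mul, Units.val_neg] using h1

/-- Q3COMM: the commutator subgroup of the Pauli group is scalar. -/
theorem Q3COMM (ι : F) : ⁅su4Pauli ι, su4Pauli ι⁆ ≤ scalars (Fin 4) F := by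
  rw [Subgroup.commutator_le]
  intro x hx y hy
  rw [commutatorElement_def]
  rcases su4q3ac_units ι x hx y hy with h | h
  · rw [h, mul_inv_cancel_right, mul_inv_cancel]
    exact Subgroup.one_mem _
  · rw [h, neg_mul, neg_mul, mul_inv_cancel_right, mul_inv_cancel, mem_scalars_iff]
    exact ⟨-1, by rw [Units.val_neg, Units.val_one, Units.val_neg, Units.val_one, neg_smul,
      one_smul]⟩

end Cfsg.Agent.Lib.Helper83.SU4Q3AC
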